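import Cfsg.Agent.Mrg.Omega.NOThreeL.RRed.QFr.Zj
import Cfsg.Agent.Mrg.Omega.OM.SwapV.Torus.Main
import Cfsg.Agent.Mrg.Omega.OM.SwapV.Q.Neg
import Cfsg.Agent.Mrg.Omega.NOThreeL.RRed.WideTree
import Cfsg.Agent.Mrg.Omega.OM.SwapT.Frame
import Cfsg.Agent.Mrg.Omega.NO3S.EMany.Four
import Cfsg.Agent.Mrg.Omega.OM.FrSym
import Cfsg.Agent.Mrg.Omega.OM.Lev.GSym
import Cfsg.Agent.Mrg.Omega.OM.Var.UniPlusV
import Cfsg.Agent.Mrg.Omega.TC.No
import Cfsg.Agent.Mrg.Omega.EK3.FrStar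
import Cfsg.Agent.Mrg.Omega.OM.SwapV.Q.Def
import Cfsg.Agent.Mrg.Omega.OM.SwapV.Q.Main
import Cfsg.Agent.Mrg.Omega.OM.SwapV.LowZ
import Cfsg.Agent.Mrg.Omega.OM.Lev.Low.LowMain
import Cfsg.Agent.Mrg.Omega.OM.Lev.LowBlk
import Cfsg.Agent.Mrg.Omega.OM.Lev.SMin
import Cfsg.Agent.Mrg.Omega.NOne.LemmaT
import Cfsg.Agent.Mrg.Omega.NOThreeL.RWide.Typ
import Cfsg.Agent.Mrg.Omega.OM.Lev.Dich
import Cfsg.Agent.Mrg.Omega.FF.GlobEnd
import Cfsg.Agent.Mrg.Omega.Node.MulG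
import Cfsg.Agent.Mrg.Omega.OM.Lev.FixPt
import Cfsg.Agent.Mrg.Omega.OM.Lev.Low.FrFour

-- merged: Cfsg.Agent.Mrg.Omega.NOThreeL.RRed.QFr.Top
section

/-!
# NO-3L, box R, natural blocks, `q ≥ 4` : the frame at the top level `(Q, V*)`, `Q = C_S(V*)`

`TopH S` : `Q` is weakly closed in `S` and `Ω₁Z(Q) = V*`; `K₀ := Q` is a level in the sense of `OM/SwapT`:
`J := nxt S Q`, `Z_J = ZT S Q = C_{V*}(J)`, `B = BT S Q = C_S(Z_J)`.

* `wd_sup` : `V* = ⟨V_P : P ∈ P*(S)⟩`;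
* `lvQ_top` : 461's level data for `X = V*`, `AA = bo S V*`, `J = nxt S Q`;
* **`exists_top`** : the frame `TopQ` at `(Q, V*)` (`FrL`, `low`, `noff`, `perm`, `Cor`).
-/

set_option autoImplicit false
set_option linter.unusedSectionVars false

namespace Cfsg.Agent.Omega.NOThreeL.RRed.QFr.Top

open Subgroup Cfsg Cfsg.Agent.ZN.ChoiceBase Cfsg.Agent.Omega.MinPar
open Cfsg.Agent.ZN (zc zl o2 jj)
open Cfsg.Agent.Omega.SQ1.Bau (elem_comm elem_sq)
open Cfsg.Agent.Omega.FFThm (ElemM OffM)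
open Cfsg.Agent.Omega.NO3S.OneLine (BFam bo bo_fam bo_eq)
open Cfsg.Agent.Omega.NO3S.Level (nxt)
open Cfsg.Agent.Omega.OM.SwapT (ZT BT)
open Cfsg.Agent.Omega.OM.Lev.Uni (FrL)
open Cfsg.Agent.Omega.OM.WeakCl (WC)
open Cfsg.Agent.Omega.OM.SwapV.Q (Cor)
open Cfsg.Agent.Omega.NOThreeL.RTree
open Cfsg.Agent.Omega.NOThreeL.Merge (MZ)
open Cfsg.Agent.Omega.NOThreeL.RRed.WideTree (NBs Src Act)
open Cfsg.Agent.Omega.NOThreeL.RRed.BFr.StageQ (W_elem mv_of W_le_Q)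

universe u

variable {G : Type u} [Group G] [Finite G] {S : Sylow 2 G}

/-- `Q = C_S(V*)` -/
abbrev Qv (S : Sylow 2 G) : Subgroup G := (S : Subgroup G) ⊓ centralizer (Wd (S : Subgroup G) : Set G)

/-- The top level. -/
structure TopH (S : Sylow 2 G) : Prop where
  wc : NO3b.Wc.WC (S : Subgroup G) (Qv S)
  zc : zc (Qv S) = Wd (S : Subgroup G)

/-- **The frame at the top level `(Q, V*)`.** -/
structure TopQ {ι : Type} (S : Sylow 2 G) (L W Z C A : ι → Subgroup G) (q : ℕ) : Prop where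
  fr : FrL (BT (S : Subgroup G) (Qv S)) (Qv S) (Wd (S : Subgroup G)) (Wd (S : Subgroup G)) (ZT (S : Subgroup G) (Qv S))
    L W Z C A q
  LM : ∀ i, L i ≤ MZ (S : Subgroup G)
  low : Wd (S : Subgroup G) ≤ o2 (centralizer (zc (S : Subgroup G) : Set G))
  noff : ∀ T : Subgroup G, IsPGroup 2 T → BT (S : Subgroup G) (Qv S) ≤ T → ∀ f : G, cj f (Wd (S : Subgroup G)) ≤ T →
    Wd (S : Subgroup G) ≤ cj f T → ∀ x ∈ Wd (S : Subgroup G), ∀ y ∈ Wd (S : Subgroup G),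
      x * (f * y * f⁻¹) = f * y * f⁻¹ * x
  perm : ∀ s ∈ (S : Subgroup G), ∀ i j, cj s (Z i) = Z j → cj s (W i) = W j ∧ cj s (C i) = C j
  co : ∀ i, ∃ (F : Type) (_ : Field F) (_ : Finite F) (_ : CharP F 2), Nat.card F = q ∧
    ∃ e : G → F × F, Cor F (S : Subgroup G) (BT (S : Subgroup G) (Qv S)) L W Z i e

section sup

variable {ι : Type u} {N E D l : ι → Subgroup G} {q : ι → ℕ}

/-- **`V* = ⟨V_P : P ∈ P*(S)⟩`** -/
theorem wd_sup (h : NBs (S : Subgroup G) N E D l q) (hs : Src (S : Subgroup G) N l q) :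
    Wd (S : Subgroup G) = ⨆ P ∈ {P | IsParS (S : Subgroup G) P}, zl (S : Subgroup G) P := by
  apply le_antisymm
  · have h1 := h.dec.sup
    rw [sup_bot_eq] at h1
    rw [← h1]
    refine iSup_le fun b => ?_
    obtain ⟨P, hP, F, _, _, _, k, -, M, hb, -, ⟨j, e, -, -⟩, -⟩ := hs.mov b
    rw [e]
    exact (NO3S.KeyRad.blk_le hb j).trans (le_iSup₂ (f := fun P (_ : P ∈ {P | IsParS (S : Subgroup G) P}) =>
      zl (S : Subgroup G) P) P hP.1)
  · exact iSup₂_le fun P hP => zl_le_Wd hP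

/-- an active `P` gives an offender on `V*` -/
theorem exists_off [Nonempty ι] (hs : Src (S : Subgroup G) N l q) :
    ∃ A ≤ (S : Subgroup G), OffM (Wd (S : Subgroup G)) A := by
  obtain ⟨P, ⟨-, A, hA, hm, -⟩, -⟩ := hs.mov (Classical.arbitrary ι)
  exact ⟨A, hA, hm.off⟩

end sup

/-- `BB S V* J = BT S Q`, `Z_J = ZT S Q` -/
theorem ZJ_top (B : RB S) (h : TopH S) :
    ZJ (Wd (S : Subgroup G)) (nxt (S : Subgroup G) (Qv S)) = ZT (S : Subgroup G) (Qv S) := by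
  have hQ : Qv S ≤ nxt (S : Subgroup G) (Qv S) := NO3S.Level.le_nxt inf_le_left
  have hJS : nxt (S : Subgroup G) (Qv S) ≤ (S : Subgroup G) := NO3S.Level.nxt_le _ _
  apply le_antisymm
  · rintro v ⟨hv, hc⟩
    refine mem_zc.2 ⟨hQ (W_le_Q B hv), by rw [pow_two]; exact wsq B v hv, fun y hy => mem_centralizer_iff.1 hc y hy⟩
  · intro x hx
    have hx' := mem_zc.1 hx
    have hxQ : x ∈ Qv S := ⟨hJS hx'.1, mem_centralizer_iff.2 fun w hw => hx'.2.2 w (hQ (W_le_Q B hw))⟩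
    refine ⟨?_, mem_centralizer_iff.2 fun y hy => hx'.2.2 y hy⟩
    rw [← h.zc]
    exact mem_zc.2 ⟨hxQ, hx'.2.1, fun y hy => hx'.2.2 y (hQ hy)⟩

theorem BB_top (B : RB S) (h : TopH S) :
    BB (S : Subgroup G) (Wd (S : Subgroup G)) (nxt (S : Subgroup G) (Qv S)) = BT (S : Subgroup G) (Qv S) := by
  show (S : Subgroup G) ⊓ centralizer (ZJ (Wd (S : Subgroup G)) (nxt (S : Subgroup G) (Qv S)) : Set G) = _
  rw [ZJ_top B h]
  rfl

/-- **The level data at the top.** -/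
theorem lvQ_top {ι : Type} {N : ι → Subgroup G} (B : RB S) (hz : zc (Qv S) = Wd (S : Subgroup G))
    (hmv : ∃ A ≤ (S : Subgroup G), OffM (Wd (S : Subgroup G)) A) (hN : Wd (S : Subgroup G) ≤ ⨆ i, N i) :
    LvQ S (MZ (S : Subgroup G)) (Wd (S : Subgroup G)) N (Wd (S : Subgroup G))
      (normalizer (Wd (S : Subgroup G) : Set G)) (nxt (S : Subgroup G) (Qv S)) (bo (S : Subgroup G) (Wd (S : Subgroup G)))
    where
  ML := le_norm_Wd
  fam := bo_fam _ _
  elX := W_elem B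
  VX := le_rfl
  XS := WS B
  MX g hg x hx := (mem_normalizer_iff.1 (le_norm_Wd hg) x).1 hx
  AJ A hA := NO3S.Level.BO.le_nxt (by rw [bo_eq, hz]; exact hA)
  JS := NO3S.Level.nxt_le _ _
  Jg := by
    rw [nxt, bo_eq, hz]
    exact sup_le le_sup_right le_sup_left
  mv := by
    obtain ⟨A, hA, hoff⟩ := hmv
    obtain ⟨X, hXA, hX, hne⟩ := NO1.BestOff.exists_best hoff
    obtain ⟨i, hi⟩ := mv_of hN hne
    exact ⟨i, X, ⟨hXA.trans hA, hX.toElemM, fun Y h1 h2 => hX.max Y h2 h1⟩, hi⟩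

/-- **THE FRAME AT THE TOP LEVEL `(Q, V*)`.** -/
theorem exists_top {ι : Type} [Finite ι] {N D l C : ι → Subgroup G} {q : ℕ} (B : RB S)
    (b : Bq S (MZ (S : Subgroup G)) (Wd (S : Subgroup G)) N D l C q) (h : TopH S)
    (hmv : ∃ A ≤ (S : Subgroup G), OffM (Wd (S : Subgroup G)) A)
    (hsup : Wd (S : Subgroup G) = ⨆ P ∈ {P | IsParS (S : Subgroup G) P}, zl (S : Subgroup G) P) :
    ∃ Lb A : ι → Subgroup G, TopQ S Lb N l C A q ∧ ∀ i, A i ∈ bo (S : Subgroup G) (Wd (S : Subgroup G)) := by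
  have lv := lvQ_top B h.zc hmv b.sup
  have hL : Lq S (MZ (S : Subgroup G)) (Wd (S : Subgroup G)) N D l C q (Wd (S : Subgroup G))
      (normalizer (Wd (S : Subgroup G) : Set G)) (nxt (S : Subgroup G) (Qv S))
      (bo (S : Subgroup G) (Wd (S : Subgroup G))) := ⟨b, lv, BQ.exists_A b lv⟩
  have hzc : ZcQ (S : Subgroup G) (Wd (S : Subgroup G)) := fun x hx h2 hc => by
    rw [← h.zc]
    exact mem_zc.2 ⟨hx, h2, fun y hy => (hc y hy).symm⟩
  obtain ⟨Lb, A, h1, h2, h3, h4⟩ := exists_frL hL hzc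
  rw [BB_top B h, ZJ_top B h] at h3
  have hN : normalizer (BT (S : Subgroup G) (Qv S) : Set G) ≤ normalizer (Wd (S : Subgroup G) : Set G) := fun g hg => by
    have k1 := OM.SwapT.norm_K h.wc hg
    have k2 := NO3S.Level.normalizer_le_zc _ k1
    rwa [h.zc] at k2
  have hC : ∀ i, C i = ⨆ j : {j : ι // j ≠ i}, N j := fun i =>
    le_antisymm (b.Csup i) (iSup_le fun j => b.WjC i j (Ne.symm j.2))
  refine ⟨Lb, A, ⟨h3, h1, BFr.Noff.low B.data.toLow (fun P hP => hP) hsup, fun T hT hB f k1 k2 x hx y hy => ?_, ?_,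
    fun i => ?_⟩, h2⟩
  · have h5 := BFr.Noff.comm_T B.data.toLow (fun P hP => hP) hsup (OM.SwapT.wc h.wc) inf_le_left hN hT hB k1 k2 hx
    exact (mem_centralizer_iff.1 h5 _ ⟨y, hy, rfl⟩).symm
  · refine BFr.DataQ.perm_of b.lN (fun i e => ?_) (fun i j hij => ?_) hC fun s hs i => ?_
    · obtain ⟨z, hz, hz1⟩ := b.exists_ne i
      rw [e, mem_bot] at hz
      exact hz1 hz
    · rw [eq_bot_iff, ← b.dir i]
      exact inf_le_inf_left _ (b.WjC i j hij)
    · obtain ⟨j, hj, -⟩ := b.permS s hs i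
      exact ⟨j, hj⟩
  · obtain ⟨F, i1, i2, i3, hF, e, he⟩ := h4 i
    rw [BB_top B h] at he
    exact ⟨F, i1, i2, i3, hF, e, he⟩

end Cfsg.Agent.Omega.NOThreeL.RRed.QFr.Top

end

-- merged: Cfsg.Agent.Mrg.Omega.OM.Var.Spread
section

/-!
# Two natural blocks over `B` with the same module have the same spread, `q ≥ 8`

`L₁`, `L₂` natural blocks over `B` with the same `V`, `Z`, coordinates `e : V → F × F` from `L₁` (`B` acts as
`(x + l y, y)`; `{(0, y)}` is a member of the spread of `L₁`).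

* `field_lemma` : `f` additive, `f Y = a f(a Y) + μ_a Y` for all `a ≠ 0` ⟹ `f` linear (`|F| > 4`);
* `lin` : a natural block which preserves the standard spread of `F × F` acts as `SL₂(F)`;
* `spread_eq` : every `Z^y`, `y ∈ L₂`, is a `Z^x`, `x ∈ L₁`, if the elements of `N(B)` which are trivial on `Z` and on
  `V / Z` act as elements of `B` (`tri_of_syl` : if `B` is Sylow in a group containing them).
-/

set_option autoImplicit false
set_option linter.unusedVariables false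
set_option linter.unusedSectionVars false

namespace Cfsg.Agent.Omega.OM.Var.Spread

open Subgroup Cfsg Cfsg.Agent.ZN.ChoiceBase
open Cfsg.Agent.ZN (jj zj bau zc zl o2)
open Cfsg.Agent.Omega.OM.Uni (FB)
open Cfsg.Agent.Omega.OM.UniPlus (NB)
open Cfsg.Agent.Omega.SQ1.Bau (mem_sup_comm elem_sq)
open Cfsg.Agent.Omega.NO3S.EMany.AltQ (Rt sup_eq exists_ne trL)
open Cfsg.Agent.Omega.NO3S.EMany.FourDQ (ti trN)

universe u

/-! ### The field -/

section field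

variable {F : Type} [Field F] [Finite F]

theorem exists_good (h4 : 4 < Nat.card F) : ∃ Y : F, Y ≠ 0 ∧ Y + 1 ≠ 0 ∧ Y * Y + Y + 1 ≠ 0 := by
  classical
  by_contra hcon
  push Not at hcon
  have := Fintype.ofFinite F
  have h1 : ∀ Y : F, Y = 0 ∨ Y = -1 ∨ Y * Y + Y + 1 = 0 := by
    intro Y
    by_cases h0 : Y = 0
    · exact Or.inl h0
    by_cases h01 : Y + 1 = 0
    · exact Or.inr (Or.inl (eq_neg_of_add_eq_zero_left h01))
    · exact Or.inr (Or.inr (hcon Y h0 h01))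
  -- the roots
  have h2 : ∃ r s : F, ∀ Y : F, Y * Y + Y + 1 = 0 → Y = r ∨ Y = s := by
    by_cases h : ∃ r : F, r * r + r + 1 = 0
    · obtain ⟨r, hr⟩ := h
      refine ⟨r, -1 - r, fun Y hY => ?_⟩
      have h3 : (Y - r) * (Y + r + 1) = 0 := by
        have : (Y - r) * (Y + r + 1) = (Y * Y + Y + 1) - (r * r + r + 1) := by ring
        rw [this, hY, hr, sub_zero]
      rcases mul_eq_zero.1 h3 with h | h
      · exact Or.inl (sub_eq_zero.1 h)
      · right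
        have : Y = (Y + r + 1) + (-1 - r) := by ring
        rw [this, h, zero_add]
    · push Not at h
      exact ⟨0, 0, fun Y hY => absurd hY (h Y)⟩
  obtain ⟨r, s, hrs⟩ := h2
  have h3 : (Finset.univ : Finset F) ⊆ {0, -1, r, s} := by
    intro Y _
    simp only [Finset.mem_insert, Finset.mem_singleton]
    rcases h1 Y with h | h | h
    · exact Or.inl h
    · exact Or.inr (Or.inl h)
    · rcases hrs Y h with h | h
      · exact Or.inr (Or.inr (Or.inl h))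
      · exact Or.inr (Or.inr (Or.inr h))
  have h5 := Finset.card_le_card h3
  have h6 : ({0, -1, r, s} : Finset F).card ≤ 4 := Finset.card_le_four
  rw [Finset.card_univ, ← Nat.card_eq_fintype_card] at h5
  omega

theorem exists_good' (h4 : 4 < Nat.card F) : ∃ Y : F, Y ≠ 0 ∧ 1 - Y * Y ≠ 0 := by
  classical
  by_contra hcon
  push Not at hcon
  have := Fintype.ofFinite F
  have h3 : (Finset.univ : Finset F) ⊆ {0, -1, 1} := by
    intro Y _
    simp only [Finset.mem_insert, Finset.mem_singleton]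
    by_cases h0 : Y = 0
    · exact Or.inl h0
    have h1 := hcon Y h0
    have h2 : (1 - Y) * (1 + Y) = 0 := by
      have : (1 - Y) * (1 + Y) = 1 - Y * Y := by ring
      rw [this, h1]
    rcases mul_eq_zero.1 h2 with h | h
    · exact Or.inr (Or.inr (sub_eq_zero.1 h).symm)
    · right; left
      rw [add_comm] at h
      exact eq_neg_of_add_eq_zero_left h
  have h5 := Finset.card_le_card h3
  have h6 : ({0, -1, 1} : Finset F).card ≤ 3 := Finset.card_le_three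
  rw [Finset.card_univ, ← Nat.card_eq_fintype_card] at h5
  omega

/-- `f` additive, `f Y = a f(a Y) + μ_a Y` for all `a ≠ 0` ⟹ `f` is linear. -/
theorem field_lemma (h4 : 4 < Nat.card F) (f : F → F) (hadd : ∀ x y, f (x + y) = f x + f y)
    (h : ∀ a : F, a ≠ 0 → ∃ m : F, ∀ Y, f Y = a * f (a * Y) + m * Y) : ∃ c, ∀ Y, f Y = c * Y := by
  set c := f 1 with hc
  set g : F → F := fun Y => f Y - c * Y with hg
  have hg1 : g 1 = 0 := by simp [hg, hc]
  have hga : ∀ x y, g (x + y) = g x + g y := fun x y => by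
    simp only [hg, hadd]; ring
  -- `a g(aY) = g(Y) + a g(a) Y`
  have h1 : ∀ a : F, a ≠ 0 → ∀ Y, a * g (a * Y) = g Y + a * g a * Y := by
    intro a ha Y
    obtain ⟨m, hm⟩ := h a ha
    have e1 := hm Y
    have e2 := hm 1
    rw [mul_one, mul_one] at e2
    simp only [hg]
    have e3 : m = c - a * f a := by rw [hc, e2]; ring
    rw [e1, e3]
    ring
  have h2 : ∀ a : F, a ≠ 0 → ∀ Y : F, Y ≠ 0 → Y * g Y * (1 - a * a) = a * g a * (1 - Y * Y) := by
    intro a ha Y hY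
    have e1 := h1 a ha Y
    have e2 := h1 Y hY a
    rw [mul_comm Y a] at e2
    have e3 : Y * (a * g (a * Y)) = a * (Y * g (a * Y)) := by ring
    rw [e1, e2] at e3
    linear_combination e3
  obtain ⟨a, ha, ha1⟩ := exists_good' (F := F) h4
  set k : F := a * g a / (1 - a * a) with hk
  have h3 : ∀ Y : F, Y ≠ 0 → Y * g Y = k * (1 - Y * Y) := by
    intro Y hY
    have := h2 a ha Y hY
    rw [hk, div_mul_eq_mul_div, eq_div_iff ha1]
    exact this
  obtain ⟨Y, hY, hY1, hY2⟩ := exists_good (F := F) h4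
  have e1 := h3 Y hY
  have e2 := h3 (Y + 1) hY1
  rw [hga, hg1, add_zero] at e2
  have hk0 : k = 0 := by
    have e3 : k * (Y * Y + Y + 1) = 0 := by
      have e4 : Y * ((Y + 1) * g Y) = (Y + 1) * (Y * g Y) := by ring
      rw [e2, e1] at e4
      linear_combination (-1) * e4
    exact (mul_eq_zero.1 e3).resolve_right hY2
  refine ⟨c, fun Y => ?_⟩
  by_cases hY0 : Y = 0
  · have h0 := hadd 0 0
    rw [add_zero] at h0
    have : f 0 = 0 := by
      have : f 0 + 0 = f 0 + f 0 := by rw [add_zero]; exact h0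
      exact (add_left_cancel this).symm
    rw [hY0, this, mul_zero]
  · have h5 := h3 Y hY0
    rw [hk0, zero_mul] at h5
    exact sub_eq_zero.1 ((mul_eq_zero.1 h5).resolve_left hY0)

end field

/-! ### Coordinates -/

section crd

variable {G : Type u} [Group G] {F : Type} [Field F]

/-- Coordinates on `V`, `Z = {(x, 0)}`. -/
structure Crd (V Z : Subgroup G) (e : G → F × F) : Prop where
  mul : ∀ v ∈ V, ∀ w ∈ V, e (v * w) = e v + e w
  inj : ∀ v ∈ V, ∀ w ∈ V, e v = e w → v = w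
  surj : ∀ p, ∃ v ∈ V, e v = p
  memZ : ∀ v, v ∈ Z ↔ v ∈ V ∧ (e v).2 = 0

/-- The members of the spread `{Z^y : y ∈ L}` are `F`-lines. -/
def Spr (L V Z : Subgroup G) (e : G → F × F) : Prop :=
  ∀ y ∈ L, ∀ v ∈ cj y Z, v ≠ 1 → ∀ w, w ∈ cj y Z ↔ w ∈ V ∧ ∃ c : F, e w = (c * (e v).1, c * (e v).2)

/-- `g` acts on `V` as an element of `SL₂(F)`. -/
def SLact (V : Subgroup G) (e : G → F × F) (g : G) : Prop :=
  ∃ a b c d : F, a * d - b * c = 1 ∧
    ∀ v ∈ V, e (g * v * g⁻¹) = (a * (e v).1 + b * (e v).2, c * (e v).1 + d * (e v).2)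

namespace Crd

variable {V Z : Subgroup G} {e : G → F × F} (hc : Crd V Z e)
include hc

theorem one : e 1 = 0 := by
  have h := hc.mul 1 (one_mem _) 1 (one_mem _)
  rw [mul_one] at h
  have h2 : e 1 + 0 = e 1 + e 1 := by rw [add_zero]; exact h
  exact (add_left_cancel h2).symm

theorem inv {v : G} (hv : v ∈ V) : e v⁻¹ = - e v := by
  have h := hc.mul v hv v⁻¹ (inv_mem hv)
  rw [mul_inv_cancel, hc.one] at h
  exact (neg_eq_of_add_eq_zero_right h.symm).symm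

theorem ne_zero {v : G} (hv : v ∈ V) (h1 : v ≠ 1) : e v ≠ 0 := fun h =>
  h1 (hc.inj v hv 1 (one_mem _) (by rw [h, hc.one]))

end Crd

end crd

section lin

variable {G : Type u} [Group G] [Finite G] {F : Type} [Field F] {B L V Z : Subgroup G} {q : ℕ}
  {e : G → F × F} (h : NB B L V Z q) (hc : Crd V Z e) (hs : Spr L V Z e)
include h

theorem exists_ne_one {y : G} (hy : y ∈ L) : ∃ v ∈ cj y Z, v ≠ 1 := by
  by_contra hcon
  push Not at hcon
  have h1 : cj y Z = ⊥ := (eq_bot_iff_forall _).2 hcon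
  have h2 := h.cardZ
  rw [← card_cj y, h1, Subgroup.card_bot] at h2
  have := h.one
  omega

theorem cj_V {y : G} (hy : y ∈ L) : cj y V = V := by
  refine Subgroup.eq_of_le_of_card_ge ?_ (by rw [card_cj])
  rintro _ ⟨v, hv, rfl⟩
  exact h.nV y hy v hv

include hc hs

/-- the elements of the root groups act as transvections -/
theorem trans_act {y b : G} (hy : y ∈ L) (hb : b ∈ cj y B) : SLact V e b := by
  obtain ⟨k, hk, hkne⟩ := exists_ne h
  have hyk : y * k ∈ L := mul_mem hy hk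
  have hbL : b ∈ L := by
    rw [mem_cj] at hb
    have h1 := mul_mem (mul_mem hy (h.BL hb)) (inv_mem hy)
    have e1 : y * (y⁻¹ * b * y) * y⁻¹ = b := by group
    rwa [e1] at h1
  have hne : cj (y * k) Z ≠ cj y Z := by
    intro he
    rw [← cj_cj] at he
    apply hkne
    have h2 := congrArg (cj y⁻¹) he
    rwa [cj_inv_cj, cj_inv_cj] at h2
  obtain ⟨v₁, hv₁, hv₁1⟩ := exists_ne_one h hy
  obtain ⟨v₀, hv₀, hv₀1⟩ := exists_ne_one h hyk
  have hv₁V := h.cjV hy hv₁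
  have hv₀V := h.cjV hyk hv₀
  set p := e v₁ with hp
  set p₀ := e v₀ with hp₀
  -- the determinant
  have hD : p.1 * p₀.2 - p.2 * p₀.1 ≠ 0 := by
    intro hD
    apply hne
    refine ti h hyk hy fun hbot => hv₀1 ?_
    have h1 : v₀ ∈ cj y Z := by
      rw [hs y hy v₁ hv₁ hv₁1]
      refine ⟨hv₀V, ?_⟩
      by_cases h2 : p.1 = 0
      · have h3 : p.2 ≠ 0 := fun h3 => hc.ne_zero hv₁V hv₁1 (Prod.ext h2 h3)
        have h4 : p₀.1 = 0 := by
          rw [h2, zero_mul, zero_sub, neg_eq_zero] at hD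
          exact (mul_eq_zero.1 hD).resolve_left h3
        refine ⟨p₀.2 / p.2, Prod.ext ?_ ?_⟩
        · show p₀.1 = p₀.2 / p.2 * p.1
          rw [h2, mul_zero, h4]
        · show p₀.2 = p₀.2 / p.2 * p.2
          rw [div_mul_cancel₀ _ h3]
      · refine ⟨p₀.1 / p.1, Prod.ext ?_ ?_⟩
        · show p₀.1 = p₀.1 / p.1 * p.1
          rw [div_mul_cancel₀ _ h2]
        · show p₀.2 = p₀.1 / p.1 * p.2
          rw [div_mul_eq_mul_div, eq_div_iff h2]
          linear_combination hD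
    have h5 : v₀ ∈ cj (y * k) Z ⊓ cj y Z := mem_inf.2 ⟨hv₀, h1⟩
    rwa [hbot, mem_bot] at h5
  -- `[v₀, b] ∈ Z^y`
  obtain ⟨-, κ', hκ'⟩ := (hs y hy v₁ hv₁ hv₁1 _).1 (h.com' hy hb hv₀V)
  rw [← hp] at hκ'
  have hbv₀V : b * v₀ * b⁻¹ ∈ V := h.nV b hbL v₀ hv₀V
  have hev₀ : e (b * v₀ * b⁻¹) = (p₀.1 + κ' * p.1, p₀.2 + κ' * p.2) := by
    have e1 : b * v₀ * b⁻¹ = (b * v₀ * b⁻¹ * v₀⁻¹) * v₀ := by group
    rw [e1, hc.mul _ (mul_mem hbv₀V (inv_mem hv₀V)) _ hv₀V, hκ', ← hp₀]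
    exact Prod.ext (add_comm _ _) (add_comm _ _)
  -- on `Z^(yk)`
  have hM : ∀ w ∈ cj (y * k) Z, ∃ c : F, e w = (c * p₀.1, c * p₀.2) ∧
      e (b * w * b⁻¹) = (c * p₀.1 + c * κ' * p.1, c * p₀.2 + c * κ' * p.2) := by
    intro w hw
    have hwV := h.cjV hyk hw
    obtain ⟨-, c, hcw⟩ := (hs _ hyk v₀ hv₀ hv₀1 _).1 hw
    rw [← hp₀] at hcw
    obtain ⟨-, d, hd⟩ := (hs y hy v₁ hv₁ hv₁1 _).1 (h.com' hy hb hwV)
    rw [← hp] at hd
    have hbwV : b * w * b⁻¹ ∈ V := h.nV b hbL w hwV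
    have h1 : e (b * w * b⁻¹) = (c * p₀.1 + d * p.1, c * p₀.2 + d * p.2) := by
      have e1 : b * w * b⁻¹ = (b * w * b⁻¹ * w⁻¹) * w := by group
      rw [e1, hc.mul _ (mul_mem hbwV (inv_mem hwV)) _ hwV, hd, hcw]
      exact Prod.ext (add_comm _ _) (add_comm _ _)
    have hbyk : b * (y * k) ∈ L := mul_mem hbL hyk
    have h2 : b * w * b⁻¹ ∈ cj (b * (y * k)) Z := by
      rw [← cj_cj]; exact ⟨w, hw, rfl⟩
    have h3 : b * v₀ * b⁻¹ ∈ cj (b * (y * k)) Z := by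
      rw [← cj_cj]; exact ⟨v₀, hv₀, rfl⟩
    obtain ⟨-, c', hc'⟩ := (hs _ hbyk _ h3 (fun e1 => hv₀1 (conj_eq_one_iff.1 e1)) _).1 h2
    rw [hev₀, h1] at hc'
    have h4 := congrArg Prod.fst hc'
    have h5 := congrArg Prod.snd hc'
    dsimp only at h4 h5
    have h6 : (c' - c) * (p.1 * p₀.2 - p.2 * p₀.1) = 0 := by
      linear_combination p.2 * h4 - p.1 * h5
    have h7 : c' = c := sub_eq_zero.1 ((mul_eq_zero.1 h6).resolve_right hD)
    subst h7
    have h8 : (d - c' * κ') * p.1 = 0 := by linear_combination h4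
    have h9 : (d - c' * κ') * p.2 = 0 := by linear_combination h5
    have h10 : d = c' * κ' := by
      by_contra hcon
      have h11 : d - c' * κ' ≠ 0 := sub_ne_zero.2 hcon
      exact hc.ne_zero hv₁V hv₁1 (Prod.ext ((mul_eq_zero.1 h8).resolve_left h11)
        ((mul_eq_zero.1 h9).resolve_left h11))
    refine ⟨c', hcw, ?_⟩
    rw [h1, h10]
  set D := p.1 * p₀.2 - p.2 * p₀.1 with hDdef
  refine ⟨1 - κ' / D * p.1 * p.2, κ' / D * p.1 * p.1, -(κ' / D * p.2 * p.2), 1 + κ' / D * p.1 * p.2, by ring, ?_⟩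
  intro v hv
  -- `v = m w`
  have hV : cj y V = V := cj_V h hy
  have hsup := sup_eq (h.conj y) (x := y * k * y⁻¹) ⟨k, hk, rfl⟩ (by
    rw [cj_cj, inv_mul_cancel_right]
    exact hne)
  rw [cj_cj, inv_mul_cancel_right, hV] at hsup
  have hv' := hv
  rw [← hsup] at hv'
  obtain ⟨m, hm, w, hw, rfl⟩ := mem_sup_comm (fun a ha b hb => h.comm (h.cjV hy ha) (h.cjV hyk hb)) hv'
  obtain ⟨c, hcw, hcb⟩ := hM w hw
  obtain ⟨-, s, hsm⟩ := (hs y hy v₁ hv₁ hv₁1 _).1 hm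
  rw [← hp] at hsm
  have hmV := h.cjV hy hm
  have hwV := h.cjV hyk hw
  have e1 : b * (m * w) * b⁻¹ = m * (b * w * b⁻¹) := by
    have h1 := h.cZ'' hb hm
    calc b * (m * w) * b⁻¹ = (b * m) * w * b⁻¹ := by group
      _ = m * (b * w * b⁻¹) := by rw [h1]; group
  rw [e1, hc.mul m hmV _ (h.nV b hbL w hwV), hcb, hc.mul m hmV w hwV, hsm, hcw]
  refine Prod.ext ?_ ?_
  · show s * p.1 + (c * p₀.1 + c * κ' * p.1) = (1 - κ' / D * p.1 * p.2) * (s * p.1 + c * p₀.1) +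
      κ' / D * p.1 * p.1 * (s * p.2 + c * p₀.2)
    have : c * κ' * p.1 = κ' / D * p.1 * (c * D) := by field_simp
    rw [this, hDdef]
    ring
  · show s * p.2 + (c * p₀.2 + c * κ' * p.2) = -(κ' / D * p.2 * p.2) * (s * p.1 + c * p₀.1) +
      (1 + κ' / D * p.1 * p.2) * (s * p.2 + c * p₀.2)
    have : c * κ' * p.2 = κ' / D * p.2 * (c * D) := by field_simp
    rw [this, hDdef]
    ring

/-- **`L` acts as `SL₂(F)`.** -/
theorem lin {l : G} (hl : l ∈ L) : SLact V e l := by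
  let H : Subgroup G :=
    { carrier := {g | (∀ v, v ∈ V ↔ g * v * g⁻¹ ∈ V) ∧ SLact V e g}
      one_mem' := ⟨fun v => by simp, 1, 0, 0, 1, by ring, fun v _ => by
        have e1 : (1 : G) * v * 1⁻¹ = v := by group
        rw [e1]
        exact Prod.ext (by simp) (by simp)⟩
      mul_mem' := by
        rintro g k ⟨hg, a, b, c, d, h1, h2⟩ ⟨hk, a', b', c', d', h1', h2'⟩
        refine ⟨fun v => ?_, a * a' + b * c', a * b' + b * d', c * a' + d * c', c * b' + d * d', ?_, fun v hv => ?_⟩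
        · rw [hk v, hg]
          have e1 : g * k * v * (g * k)⁻¹ = g * (k * v * k⁻¹) * g⁻¹ := by group
          rw [e1]
        · linear_combination (a' * d' - b' * c') * h1 + h1'
        · have e1 : g * k * v * (g * k)⁻¹ = g * (k * v * k⁻¹) * g⁻¹ := by group
          rw [e1, h2 _ ((hk v).1 hv), h2' v hv]
          exact Prod.ext (by simp only; ring) (by simp only; ring)
      inv_mem' := by
        rintro g ⟨hg, a, b, c, d, h1, h2⟩
        have h3 : ∀ v, v ∈ V ↔ g⁻¹ * v * g⁻¹⁻¹ ∈ V := fun v => by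
          rw [hg (g⁻¹ * v * g⁻¹⁻¹)]
          have e1 : g * (g⁻¹ * v * g⁻¹⁻¹) * g⁻¹ = v := by group
          rw [e1]
        refine ⟨h3, d, -b, -c, a, by linear_combination h1, fun v hv => ?_⟩
        have h4 := h2 _ ((h3 v).1 hv)
        have e1 : g * (g⁻¹ * v * g⁻¹⁻¹) * g⁻¹ = v := by group
        rw [e1] at h4
        rw [h4]
        refine Prod.ext ?_ ?_
        · show (e (g⁻¹ * v * g⁻¹⁻¹)).1 = d * (a * (e (g⁻¹ * v * g⁻¹⁻¹)).1 + b * (e (g⁻¹ * v * g⁻¹⁻¹)).2) +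
            -b * (c * (e (g⁻¹ * v * g⁻¹⁻¹)).1 + d * (e (g⁻¹ * v * g⁻¹⁻¹)).2)
          linear_combination (-(e (g⁻¹ * v * g⁻¹⁻¹)).1) * h1
        · show (e (g⁻¹ * v * g⁻¹⁻¹)).2 = -c * (a * (e (g⁻¹ * v * g⁻¹⁻¹)).1 + b * (e (g⁻¹ * v * g⁻¹⁻¹)).2) +
            a * (c * (e (g⁻¹ * v * g⁻¹⁻¹)).1 + d * (e (g⁻¹ * v * g⁻¹⁻¹)).2)
          linear_combination (-(e (g⁻¹ * v * g⁻¹⁻¹)).2) * h1 }
  have h1 : L ≤ H := by
    refine h.gen.trans (iSup_le fun x => fun b hb => ⟨fun v => ?_, trans_act h hc hs x.2 hb⟩)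
    have hbL : b ∈ L := by
      have hb' := mem_cj.1 hb
      have h1 := mul_mem (mul_mem x.2 (h.BL hb')) (inv_mem x.2)
      have e1 : (x : G) * ((x : G)⁻¹ * b * x) * (x : G)⁻¹ = b := by group
      rwa [e1] at h1
    refine ⟨fun hv => h.nV b hbL v hv, fun hv => ?_⟩
    have h2 := h.toFB.nV' hbL hv
    have e1 : b⁻¹ * (b * v * b⁻¹) * b = v := by group
    rwa [e1] at h2
  exact (h1 hl).2

/-- **`N_L(B)` acts as `(a x + b y, a⁻¹ y)`.** -/
theorem bor {x : G} (hx : x ∈ L) (hxB : x ∈ normalizer (B : Set G)) : ∃ a b : F, a ≠ 0 ∧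
    ∀ v ∈ V, e (x * v * x⁻¹) = (a * (e v).1 + b * (e v).2, a⁻¹ * (e v).2) := by
  obtain ⟨a, b, c, d, h1, h2⟩ := lin h hc hs hx
  obtain ⟨z, hz, ez⟩ := hc.surj (1, 0)
  have hzZ : z ∈ Z := (hc.memZ z).2 ⟨hz, by rw [ez]⟩
  have h3 := h.nZ hx hxB hzZ
  have h4 := ((hc.memZ _).1 h3).2
  rw [h2 z hz, ez] at h4
  have hc0 : c = 0 := by simpa using h4
  subst hc0
  have h5 : a * d = 1 := by linear_combination h1
  have ha : a ≠ 0 := fun h6 => by rw [h6, zero_mul] at h5; exact zero_ne_one h5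
  refine ⟨a, b, ha, fun v hv => ?_⟩
  rw [h2 v hv, zero_mul, zero_add, eq_inv_of_mul_eq_one_right h5]

end lin

/-! ### The coordinates of a member of the spread -/

section new

variable {G : Type u} [Group G] [Finite G] {F : Type} [Field F] {B L V Z : Subgroup G} {q : ℕ}
  {e : G → F × F} (h : NB B L V Z q) (hc : Crd V Z e)

/-- The coordinates in which `{(f y, y)}` becomes `{(0, y)}`. -/
def nw (e : G → F × F) (f : F → F) : G → F × F := fun v => ((e v).1 - f (e v).2, (e v).2)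

include h hc

theorem exists_f {k : G} (hk : k ∈ L) (hne : cj k Z ≠ Z) : ∃ f : F → F, (∀ x y, f (x + y) = f x + f y) ∧
    ∀ u, u ∈ cj k Z ↔ u ∈ V ∧ (e u).1 = f (e u).2 := by
  have hsup := sup_eq h hk hne
  have hint := h.tri' hk hne
  have hUV := h.cjV hk
  have h1 : ∀ y : F, ∃ u ∈ cj k Z, (e u).2 = y := by
    intro y
    obtain ⟨v, hv, ev⟩ := hc.surj (0, y)
    rw [← hsup] at hv
    obtain ⟨z, hz, u, hu, rfl⟩ := mem_sup_comm (fun a ha b hb => h.comm (h.ZV ha) (hUV hb)) hv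
    refine ⟨u, hu, ?_⟩
    have h2 := congrArg Prod.snd ev
    rw [hc.mul z (h.ZV hz) u (hUV hu)] at h2
    have h3 : (e z).2 + (e u).2 = y := h2
    rwa [((hc.memZ z).1 hz).2, zero_add] at h3
  choose φ hφ hφ2 using h1
  have huniq : ∀ u ∈ cj k Z, ∀ w ∈ cj k Z, (e u).2 = (e w).2 → u = w := by
    intro u hu w hw he
    have h2 : u * w⁻¹ ∈ cj k Z ⊓ Z := by
      refine mem_inf.2 ⟨mul_mem hu (inv_mem hw), (hc.memZ _).2 ⟨mul_mem (hUV hu) (inv_mem (hUV hw)), ?_⟩⟩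
      rw [hc.mul u (hUV hu) _ (inv_mem (hUV hw)), hc.inv (hUV hw)]
      show (e u).2 + -(e w).2 = 0
      rw [he, add_neg_cancel]
    rw [hint, mem_bot] at h2
    exact mul_inv_eq_one.1 h2
  refine ⟨fun y => (e (φ y)).1, fun x y => ?_, fun u => ⟨fun hu => ⟨hUV hu, ?_⟩, ?_⟩⟩
  · have h3 : φ (x + y) = φ x * φ y := by
      refine huniq _ (hφ _) _ (mul_mem (hφ x) (hφ y)) ?_
      rw [hφ2, hc.mul _ (hUV (hφ x)) _ (hUV (hφ y))]
      show x + y = (e (φ x)).2 + (e (φ y)).2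
      rw [hφ2, hφ2]
    show (e (φ (x + y))).1 = (e (φ x)).1 + (e (φ y)).1
    rw [h3, hc.mul _ (hUV (hφ x)) _ (hUV (hφ y))]
    rfl
  · show (e u).1 = (e (φ (e u).2)).1
    rw [← huniq u hu _ (hφ _) (hφ2 _).symm]
  · rintro ⟨hu, he⟩
    have h4 : u = φ (e u).2 := by
      refine hc.inj u hu _ (hUV (hφ _)) (Prod.ext he ?_)
      rw [hφ2]
    rw [h4]
    exact hφ _

omit h [Finite G] in
theorem nw_crd {f : F → F} (hf : ∀ x y, f (x + y) = f x + f y) : Crd V Z (nw e f) where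
  mul v hv w hw := by
    unfold nw
    rw [hc.mul v hv w hw]
    refine Prod.ext ?_ rfl
    show (e v).1 + (e w).1 - f ((e v).2 + (e w).2) = (e v).1 - f (e v).2 + ((e w).1 - f (e w).2)
    rw [hf]; ring
  inj v hv w hw he := by
    have h1 : (e v).1 - f (e v).2 = (e w).1 - f (e w).2 := congrArg (fun p : F × F => p.1) he
    have h2' := congrArg Prod.snd he
    have h2 : (e v).2 = (e w).2 := h2'
    rw [h2] at h1
    exact hc.inj v hv w hw (Prod.ext (sub_left_injective h1) h2)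
  surj p := by
    obtain ⟨v, hv, ev⟩ := hc.surj (p.1 + f p.2, p.2)
    refine ⟨v, hv, ?_⟩
    unfold nw
    rw [ev]
    exact Prod.ext (by show p.1 + f p.2 - f p.2 = p.1; ring) rfl
  memZ v := hc.memZ v

/-- The spread of `L` in the new coordinates. -/
theorem nw_spr (hf : ∀ l : F, ∃ b ∈ B, ∀ v ∈ V, e (b * v * b⁻¹) = ((e v).1 + l * (e v).2, (e v).2)) {k : G}
    (hk : k ∈ L) (hne : cj k Z ≠ Z) {f : F → F} (hfa : ∀ x y, f (x + y) = f x + f y)
    (hU : ∀ u, u ∈ cj k Z ↔ u ∈ V ∧ (e u).1 = f (e u).2) : Spr L V Z (nw e f) := by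
  intro y hy v hv hv1 w
  have hvV := h.cjV hy hv
  have hn := nw_crd hc hfa
  by_cases hyZ : cj y Z = Z
  · rw [hyZ] at hv ⊢
    have hv2 : (e v).2 = 0 := ((hc.memZ v).1 hv).2
    have h2 : (nw e f v).2 = 0 := hv2
    have h3 : (nw e f v).1 ≠ 0 := fun h4 => hn.ne_zero hvV hv1 (Prod.ext h4 h2)
    constructor
    · intro hw
      refine ⟨h.ZV hw, (nw e f w).1 / (nw e f v).1, Prod.ext ?_ ?_⟩
      · show (nw e f w).1 = (nw e f w).1 / (nw e f v).1 * (nw e f v).1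
        rw [div_mul_cancel₀ _ h3]
      · show (e w).2 = (nw e f w).1 / (nw e f v).1 * (nw e f v).2
        rw [h2, mul_zero, ((hc.memZ w).1 hw).2]
    · rintro ⟨hw, c, hcw⟩
      refine (hc.memZ w).2 ⟨hw, ?_⟩
      have h5 := congrArg Prod.snd hcw
      have h6 : (e w).2 = c * (nw e f v).2 := h5
      rw [h6, h2, mul_zero]
  · -- `v ∉ Z`
    have hvZ : v ∉ Z := by
      intro hvZ
      have h1 : v ∈ cj y Z ⊓ Z := mem_inf.2 ⟨hv, hvZ⟩
      rw [h.tri' hy hyZ, mem_bot] at h1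
      exact hv1 h1
    have hv2 : (e v).2 ≠ 0 := fun h2 => hvZ ((hc.memZ v).2 ⟨hvV, h2⟩)
    set l : F := ((e v).1 - f (e v).2) / (e v).2 with hl
    have hl' : (e v).1 = f (e v).2 + l * (e v).2 := by
      rw [hl, div_mul_cancel₀ _ hv2]; ring
    obtain ⟨b, hb, hbe⟩ := hf l
    have hbL := h.BL hb
    -- the members of `cj b (cj k Z)`
    have key : ∀ w, w ∈ cj b (cj k Z) ↔ w ∈ V ∧ (e w).1 = f (e w).2 + l * (e w).2 := by
      intro w
      constructor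
      · rintro ⟨u, hu, rfl⟩
        change u ∈ cj k Z at hu
        show b * u * b⁻¹ ∈ V ∧ (e (b * u * b⁻¹)).1 = f (e (b * u * b⁻¹)).2 + l * (e (b * u * b⁻¹)).2
        obtain ⟨huV, hu1⟩ := (hU u).1 hu
        refine ⟨h.nV b hbL u huV, ?_⟩
        rw [hbe u huV]
        show (e u).1 + l * (e u).2 = f (e u).2 + l * (e u).2
        rw [hu1]
      · rintro ⟨hw, hw1⟩
        have hw' : b⁻¹ * w * b ∈ V := h.toFB.nV' hbL hw
        have e1 : b * (b⁻¹ * w * b) * b⁻¹ = w := by group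
        have h3 := hbe _ hw'
        rw [e1] at h3
        rw [mem_cj]
        refine (hU _).2 ⟨hw', ?_⟩
        have h4' := congrArg Prod.snd h3
        have h4 : (e w).2 = (e (b⁻¹ * w * b)).2 := h4'
        have h5 : (e w).1 = (e (b⁻¹ * w * b)).1 + l * (e (b⁻¹ * w * b)).2 := congrArg (fun p : F × F => p.1) h3
        rw [← h4] at h5 ⊢
        rw [hw1] at h5
        exact (add_right_cancel h5).symm
    have hM : cj y Z = cj b (cj k Z) := by
      rw [cj_cj]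
      refine ti h hy (mul_mem hbL hk) fun hbot => hv1 ?_
      have h1 : v ∈ cj y Z ⊓ cj (b * k) Z := by
        rw [← cj_cj]
        exact mem_inf.2 ⟨hv, (key v).2 ⟨hvV, hl'⟩⟩
      rwa [hbot, mem_bot] at h1
    rw [hM, key w]
    have hnv1 : (nw e f v).1 = l * (e v).2 := by
      show (e v).1 - f (e v).2 = l * (e v).2
      rw [hl']; ring
    constructor
    · rintro ⟨hw, hw1⟩
      refine ⟨hw, (e w).2 / (e v).2, Prod.ext ?_ ?_⟩
      · show (e w).1 - f (e w).2 = (e w).2 / (e v).2 * (nw e f v).1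
        rw [hnv1, hw1]
        field_simp
        ring
      · show (e w).2 = (e w).2 / (e v).2 * (e v).2
        rw [div_mul_cancel₀ _ hv2]
    · rintro ⟨hw, c, hcw⟩
      refine ⟨hw, ?_⟩
      have h5 : (e w).1 - f (e w).2 = c * (nw e f v).1 := congrArg Prod.fst hcw
      have h6 : (e w).2 = c * (e v).2 := congrArg Prod.snd hcw
      rw [hnv1] at h5
      have h7 : (e w).1 = f (e w).2 + c * (l * (e v).2) := by linear_combination h5
      rw [h7, h6]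
      ring

end new

section main

variable {G : Type u} [Group G] [Finite G] {F : Type} [Field F] [Finite F] {B L₁ L₂ V Z : Subgroup G} {q : ℕ}
  {e : G → F × F}

/-- `B` acts with full root groups -/
theorem rt_of (hc : Crd V Z e)
    (hf : ∀ l : F, ∃ b ∈ B, ∀ v ∈ V, e (b * v * b⁻¹) = ((e v).1 + l * (e v).2, (e v).2))
    (hBV : ∀ b ∈ B, ∀ v ∈ V, b * v * b⁻¹ ∈ V) : Rt B V Z := by
  intro v hv hvZ z hz
  have hv2 : (e v).2 ≠ 0 := fun h2 => hvZ ((hc.memZ v).2 ⟨hv, h2⟩)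
  obtain ⟨hzV, hz2⟩ := (hc.memZ z).1 hz
  obtain ⟨b, hb, hbe⟩ := hf ((e z).1 / (e v).2)
  refine ⟨b, hb, hc.inj _ (mul_mem (hBV b hb v hv) (inv_mem hv)) z hzV ?_⟩
  rw [hc.mul _ (hBV b hb v hv) _ (inv_mem hv), hc.inv hv, hbe v hv, div_mul_cancel₀ _ hv2]
  refine Prod.ext ?_ ?_
  · show (e v).1 + (e z).1 + -(e v).1 = (e z).1
    ring
  · show (e v).2 + -(e v).2 = (e z).2
    rw [hz2]; ring

/-- every member of the spread of `L₂` is an `F`-line -/
theorem line_of (hB : IsPGroup 2 B) (h₂ : NB B L₂ V Z q) (hc : Crd V Z e) (h4 : 4 < Nat.card F)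
    (hf : ∀ l : F, ∃ b ∈ B, ∀ v ∈ V, e (b * v * b⁻¹) = ((e v).1 + l * (e v).2, (e v).2))
    (hT : ∀ x ∈ L₂, x ∈ normalizer (B : Set G) → ∀ a : F, a ≠ 0 → (∀ v ∈ Z, (e (x * v * x⁻¹)).1 = a * (e v).1) →
      (∀ v ∈ V, (e (x * v * x⁻¹)).2 = a⁻¹ * (e v).2) →
      ∃ l : F, ∀ v ∈ V, (e (x * v * x⁻¹)).1 = a * (e v).1 + l * (e v).2)
    {k : G} (hk : k ∈ L₂) (hne : cj k Z ≠ Z) : ∃ c : F, ∀ u, u ∈ cj k Z ↔ u ∈ V ∧ (e u).1 = c * (e u).2 := by
  obtain ⟨f, hfa, hU⟩ := exists_f h₂ hc hk hne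
  have hn := nw_crd hc hfa
  have hs := nw_spr h₂ hc hf hk hne hfa hU
  have hr : Rt B V Z := rt_of hc hf fun b hb v hv => h₂.nV b (h₂.BL hb) v hv
  have hf0 : f 0 = 0 := by
    have h0 := hfa 0 0
    rw [add_zero] at h0
    have h1 : f 0 + 0 = f 0 + f 0 := by rw [add_zero]; exact h0
    exact (add_left_cancel h1).symm
  have hmem : ∀ y : F, ∃ u ∈ cj k Z, (e u).2 = y := by
    intro y
    obtain ⟨u, hu, eu⟩ := hc.surj (f y, y)
    exact ⟨u, (hU u).2 ⟨hu, by rw [eu]⟩, by rw [eu]⟩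
  have hstar : ∀ a : F, a ≠ 0 → ∃ m : F, ∀ Y, f Y = a * f (a * Y) + m * Y := by
    intro a ha
    obtain ⟨u₁, hu₁, e₁⟩ := hmem 1
    obtain ⟨u₂, hu₂, e₂⟩ := hmem a⁻¹
    have hV₁ := h₂.cjV hk hu₁
    have hV₂ := h₂.cjV hk hu₂
    have h11 : u₁ ≠ 1 := by
      rintro rfl
      rw [hc.one] at e₁
      exact zero_ne_one e₁
    have h21 : u₂ ≠ 1 := by
      rintro rfl
      rw [hc.one] at e₂
      exact inv_ne_zero ha e₂.symm
    obtain ⟨x, hx, hxB, hxu⟩ := trN h₂ hB hr hk hne hu₁ h11 hu₂ h21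
    obtain ⟨a', b, ha', hact⟩ := bor h₂ hn hs hx hxB
    have hsnd : ∀ v ∈ V, (e (x * v * x⁻¹)).2 = a'⁻¹ * (e v).2 := fun v hv => congrArg Prod.snd (hact v hv)
    have hfst : ∀ v ∈ V, (e (x * v * x⁻¹)).1 - f (e (x * v * x⁻¹)).2 = a' * ((e v).1 - f (e v).2) + b * (e v).2 :=
      fun v hv => congrArg Prod.fst (hact v hv)
    -- `a' = a`
    have haa : a' = a := by
      have hxV : x * u₁ * x⁻¹ ∈ V := h₂.nV x hx u₁ hV₁
      have h5 := ((hc.memZ _).1 hxu).2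
      rw [hc.mul _ hxV _ (inv_mem hV₂), hc.inv hV₂] at h5
      have h6 : (e (x * u₁ * x⁻¹)).2 + -(e u₂).2 = 0 := h5
      rw [hsnd u₁ hV₁, e₁, e₂, mul_one] at h6
      have h7 : a'⁻¹ = a⁻¹ := by linear_combination h6
      exact inv_injective h7
    subst haa
    obtain ⟨l, hl⟩ := hT x hx hxB a' ha (fun v hv => by
      have hvV := h₂.ZV hv
      have h5 := hfst v hvV
      rw [hsnd v hvV, ((hc.memZ v).1 hv).2, mul_zero, mul_zero, hf0] at h5
      linear_combination h5) hsnd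
    refine ⟨(l - b) * a', fun Y => ?_⟩
    obtain ⟨v, hv, ev⟩ := hc.surj (0, a' * Y)
    have h5 := hfst v hv
    rw [hsnd v hv, hl v hv, ev] at h5
    dsimp only at h5
    have h6 : a'⁻¹ * (a' * Y) = Y := by rw [← mul_assoc, inv_mul_cancel₀ ha, one_mul]
    rw [h6] at h5
    linear_combination -h5
  obtain ⟨c, hcY⟩ := field_lemma h4 f hfa hstar
  exact ⟨c, fun u => by rw [hU u, hcY]⟩

/-- **The spreads agree.** -/
theorem spread_eq (hB : IsPGroup 2 B) (h₁ : NB B L₁ V Z q) (h₂ : NB B L₂ V Z q) (hc : Crd V Z e)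
    (h4 : 4 < Nat.card F)
    (hf : ∀ l : F, ∃ b ∈ B, ∀ v ∈ V, e (b * v * b⁻¹) = ((e v).1 + l * (e v).2, (e v).2))
    {k₁ : G} (hk₁ : k₁ ∈ L₁) (hk₁Z : ∀ u, u ∈ cj k₁ Z ↔ u ∈ V ∧ (e u).1 = 0)
    (hm : ∀ x ∈ L₂, ∀ h ∈ L₁, x ∈ normalizer (B : Set G) → h ∈ normalizer (B : Set G) →
      (∀ z ∈ Z, x * h⁻¹ * z * (x * h⁻¹)⁻¹ = z) → (∀ v ∈ V, x * h⁻¹ * v * (x * h⁻¹)⁻¹ * v⁻¹ ∈ Z) →
      ∃ b ∈ B, ∀ v ∈ V, x * h⁻¹ * v * (x * h⁻¹)⁻¹ = b * v * b⁻¹) :
    ∀ y ∈ L₂, ∃ x ∈ L₁, cj y Z = cj x Z := by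
  have hne₁ : cj k₁ Z ≠ Z := by
    intro he
    obtain ⟨z, hz, ez⟩ := hc.surj (1, 0)
    have hzZ : z ∈ Z := (hc.memZ z).2 ⟨hz, by rw [ez]⟩
    have h1 := hzZ
    rw [← he] at h1
    have h2 := ((hk₁Z z).1 h1).2
    rw [ez] at h2
    exact one_ne_zero h2
  have hs₁ : Spr L₁ V Z e := by
    have h1 := nw_spr h₁ hc hf hk₁ hne₁ (f := fun _ => 0) (fun _ _ => by simp) hk₁Z
    have h2 : nw e (fun _ => (0 : F)) = e := by
      funext v
      exact Prod.ext (sub_zero _) rfl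
    rwa [h2] at h1
  have hT : ∀ x ∈ L₂, x ∈ normalizer (B : Set G) → ∀ a : F, a ≠ 0 → (∀ v ∈ Z, (e (x * v * x⁻¹)).1 = a * (e v).1) →
      (∀ v ∈ V, (e (x * v * x⁻¹)).2 = a⁻¹ * (e v).2) →
      ∃ l : F, ∀ v ∈ V, (e (x * v * x⁻¹)).1 = a * (e v).1 + l * (e v).2 := by
    intro x hx hxB a ha hxa hxd
    -- `h ∈ N_{L₁}(B)` with the same `a`
    obtain ⟨z, hz, ez⟩ := hc.surj (1, 0)
    obtain ⟨z', hz', ez'⟩ := hc.surj (a, 0)
    have hzZ : z ∈ Z := (hc.memZ z).2 ⟨hz, by rw [ez]⟩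
    have hzZ' : z' ∈ Z := (hc.memZ z').2 ⟨hz', by rw [ez']⟩
    have hz1 : z ≠ 1 := by
      rintro rfl
      rw [hc.one] at ez
      exact zero_ne_one (congrArg Prod.fst ez)
    have hz1' : z' ≠ 1 := by
      rintro rfl
      rw [hc.one] at ez'
      exact ha (congrArg Prod.fst ez').symm
    obtain ⟨h, hh, hhB, hhz⟩ := h₁.tor' hzZ hz1 hzZ' hz1'
    obtain ⟨a', b', ha', hact⟩ := bor h₁ hc hs₁ hh hhB
    have haa : a' = a := by
      have h5 := hact z hz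
      rw [hhz, ez', ez] at h5
      have h6 := congrArg Prod.fst h5
      dsimp only at h6
      rw [mul_one, mul_zero, add_zero] at h6
      exact h6.symm
    subst haa
    have hhV : ∀ v ∈ V, h⁻¹ * v * h ∈ V := fun v hv => h₁.toFB.nV' hh hv
    have hinv : ∀ v ∈ V, e v = (a' * (e (h⁻¹ * v * h)).1 + b' * (e (h⁻¹ * v * h)).2,
        a'⁻¹ * (e (h⁻¹ * v * h)).2) := by
      intro v hv
      have h5 := hact _ (hhV v hv)
      have e1 : h * (h⁻¹ * v * h) * h⁻¹ = v := by group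
      rwa [e1] at h5
    have hconj : ∀ v, x * h⁻¹ * v * (x * h⁻¹)⁻¹ = x * (h⁻¹ * v * h) * x⁻¹ := fun v => by group
    obtain ⟨b, hb, hbm⟩ := hm x hx h hh hxB hhB (fun z hz => by
      have hzV := h₁.ZV hz
      have hwV := hhV z hzV
      have hwZ : h⁻¹ * z * h ∈ Z := by
        have h5 := h₁.nZ (inv_mem hh) (inv_mem hhB) hz
        rwa [inv_inv] at h5
      rw [hconj]
      refine hc.inj _ (h₂.nV x hx _ hwV) z hzV (Prod.ext ?_ ?_)
      · rw [hxa _ hwZ]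
        have h6 := congrArg Prod.fst (hinv z hzV)
        dsimp only at h6
        rw [h6, ((hc.memZ _).1 hwZ).2]
        ring
      · rw [hxd _ hwV]
        exact (congrArg Prod.snd (hinv z hzV)).symm) (fun v hv => by
      have hwV := hhV v hv
      rw [hconj]
      refine (hc.memZ _).2 ⟨mul_mem (h₂.nV x hx _ hwV) (inv_mem hv), ?_⟩
      rw [hc.mul _ (h₂.nV x hx _ hwV) _ (inv_mem hv), hc.inv hv]
      show (e (x * (h⁻¹ * v * h) * x⁻¹)).2 + -(e v).2 = 0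
      rw [hxd _ hwV]
      have h6 : (e v).2 = a'⁻¹ * (e (h⁻¹ * v * h)).2 := congrArg Prod.snd (hinv v hv)
      rw [h6]; ring)
    -- `b` acts as `(x + l' y, y)`
    have hbL := h₁.BL hb
    obtain ⟨a₀, l', ha₀, hb'⟩ := bor h₁ hc hs₁ hbL (Subgroup.le_normalizer hb)
    have ha₀1 : a₀ = 1 := by
      have h5 := hb' z hz
      have h6 : b * z * b⁻¹ = z := by rw [h₁.cZ b hb z hzZ]; group
      rw [h6, ez] at h5
      have h7 := congrArg Prod.fst h5
      dsimp only at h7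
      rw [mul_one, mul_zero, add_zero] at h7
      exact h7.symm
    subst ha₀1
    refine ⟨b' + l' * a'⁻¹, fun v hv => ?_⟩
    have hvV : h * v * h⁻¹ ∈ V := h₁.nV h hh v hv
    have h5 := hbm _ hvV
    rw [hconj] at h5
    have e1 : h⁻¹ * (h * v * h⁻¹) * h = v := by group
    rw [e1] at h5
    rw [h5, hb' _ hvV, hact v hv]
    show 1 * (a' * (e v).1 + b' * (e v).2) + l' * (a'⁻¹ * (e v).2) = a' * (e v).1 + (b' + l' * a'⁻¹) * (e v).2
    ring
  intro y hy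
  by_cases hyZ : cj y Z = Z
  · exact ⟨1, one_mem _, by rw [hyZ, cj_one]⟩
  obtain ⟨c, hcU⟩ := line_of hB h₂ hc h4 hf hT hy hyZ
  obtain ⟨b, hb, hbe⟩ := hf c
  refine ⟨b * k₁, mul_mem (h₁.BL hb) hk₁, ?_⟩
  refine Subgroup.eq_of_le_of_card_ge ?_ (by rw [card_cj, card_cj])
  intro u hu
  obtain ⟨huV, hu1⟩ := (hcU u).1 hu
  have hw : b⁻¹ * u * b ∈ V := h₁.toFB.nV' (h₁.BL hb) huV
  rw [← cj_cj, mem_cj, hk₁Z]
  refine ⟨hw, ?_⟩
  have h3 := hbe _ hw
  have e1 : b * (b⁻¹ * u * b) * b⁻¹ = u := by group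
  rw [e1] at h3
  have h4'' := congrArg Prod.snd h3
  have h4' : (e u).2 = (e (b⁻¹ * u * b)).2 := h4''
  have h5 : (e u).1 = (e (b⁻¹ * u * b)).1 + c * (e (b⁻¹ * u * b)).2 := congrArg (fun p : F × F => p.1) h3
  rw [← h4', hu1] at h5
  have h6 : (e (b⁻¹ * u * b)).1 + c * (e u).2 = 0 + c * (e u).2 := by rw [← h5, zero_add]
  exact add_right_cancel h6

end main

/-! ### The 2-elements -/

section syl

variable {G : Type u} [Group G] [Finite G] {B V Z : Subgroup G}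

/-- An element of `N(B)` centralising `zc B`, trivial on `Z` and on `V / Z`, acts on `V` as an element of `B` (`B` is
Sylow in `C(zc B)`). -/
theorem tri_of_syl (hB : IsPGroup 2 B) {D : Subgroup G} (hD : ∀ Q : Subgroup G, Q ≤ D → IsPGroup 2 Q → B ≤ Q → Q = B)
    (hBD : B ≤ D) (hV : ∀ v ∈ V, ∀ w ∈ V, v * w = w * v) (h2 : ∀ v ∈ V, v * v = 1) {m : G}
    (hmB : m ∈ normalizer (B : Set G)) (hmD : m ∈ D) (hZV : Z ≤ V) (hmZ : ∀ z ∈ Z, m * z * m⁻¹ = z)
    (hmV : ∀ v ∈ V, m * v * m⁻¹ * v⁻¹ ∈ Z) : ∃ b ∈ B, ∀ v ∈ V, m * v * m⁻¹ = b * v * b⁻¹ := by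
  have : Fact (Nat.Prime 2) := ⟨Nat.prime_two⟩
  -- `m²` centralises `V`
  have hsq : ∀ v ∈ V, (m ^ 2) * v = v * m ^ 2 := by
    intro v hv
    set z := m * v * m⁻¹ * v⁻¹ with hz
    have hzZ : z ∈ Z := hmV v hv
    have e1 : m * v * m⁻¹ = z * v := by rw [hz]; group
    have e2 : m ^ 2 * v * (m ^ 2)⁻¹ = v := by
      have h3 := hmZ z hzZ
      calc m ^ 2 * v * (m ^ 2)⁻¹ = m * (m * v * m⁻¹) * m⁻¹ := by rw [pow_two]; group
        _ = m * (z * v) * m⁻¹ := by rw [e1]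
        _ = (m * z * m⁻¹) * (m * v * m⁻¹) := by group
        _ = z * (z * v) := by rw [h3, e1]
        _ = (z * z) * v := by group
        _ = v := by rw [h2 z (hZV hzZ), one_mul]
    calc (m ^ 2) * v = (m ^ 2 * v * (m ^ 2)⁻¹) * m ^ 2 := by group
      _ = v * m ^ 2 := by rw [e2]
  have hn : orderOf m ≠ 0 := (orderOf_pos m).ne'
  obtain ⟨k, r, hr, hkr⟩ := Nat.exists_eq_two_pow_mul_odd hn
  obtain ⟨s, hs⟩ := hr
  -- `m ^ r` acts as `m`
  have hact : ∀ v ∈ V, m ^ r * v * (m ^ r)⁻¹ = m * v * m⁻¹ := by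
    intro v hv
    have c1 : Commute (m ^ 2) v := hsq v hv
    have c2 : Commute ((m ^ 2) ^ s) v := c1.pow_left s
    have e1 : m ^ r = m * (m ^ 2) ^ s := by
      rw [hs, pow_succ, pow_mul, ← pow_mul, ← pow_succ, ← pow_succ']
    rw [e1]
    calc m * (m ^ 2) ^ s * v * (m * (m ^ 2) ^ s)⁻¹ = m * ((m ^ 2) ^ s * v) * ((m ^ 2) ^ s)⁻¹ * m⁻¹ := by group
      _ = m * (v * (m ^ 2) ^ s) * ((m ^ 2) ^ s)⁻¹ * m⁻¹ := by rw [c2.eq]
      _ = m * v * m⁻¹ := by group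
  refine ⟨m ^ r, ?_, fun v hv => (hact v hv).symm⟩
  have hb1 : (m ^ r) ^ (2 ^ k) = 1 := by
    rw [← pow_mul, mul_comm r, ← hkr, pow_orderOf_eq_one]
  have hb2 : IsPGroup 2 (zpowers (m ^ r)) := by
    rintro ⟨x, hx⟩
    refine ⟨k, ?_⟩
    obtain ⟨j, rfl⟩ := mem_zpowers_iff.mp hx
    apply Subtype.ext
    show ((m ^ r) ^ j) ^ (2 ^ k) = 1
    rw [← zpow_natCast, ← zpow_mul, mul_comm j, zpow_mul, zpow_natCast, hb1, one_zpow]
  have hbN : zpowers (m ^ r) ≤ normalizer (B : Set G) := (zpowers_le).2 (pow_mem hmB r)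
  have h3 : IsPGroup 2 (B ⊔ zpowers (m ^ r) : Subgroup G) := IsPGroup.to_sup_of_normal_left' hB hb2 hbN
  have h4 := hD _ (sup_le hBD ((zpowers_le).2 (pow_mem hmD r))) h3 le_sup_left
  have h5 : zpowers (m ^ r) ≤ B := by
    conv_rhs => rw [← h4]
    exact le_sup_right
  exact h5 (mem_zpowers _)

end syl

section uni

variable {G : Type u} [Group G] [Finite G] {F : Type} [Field F] [Finite F] {B L₁ L₂ V Z : Subgroup G} {q : ℕ}
  {e : G → F × F}

/-- The spreads agree, `B` Sylow in `C(zc B)`. -/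
theorem spread_eq' (hB : IsPGroup 2 B) (h₁ : NB B L₁ V Z q) (h₂ : NB B L₂ V Z q) (hc : Crd V Z e)
    (h4 : 4 < Nat.card F)
    (hf : ∀ l : F, ∃ b ∈ B, ∀ v ∈ V, e (b * v * b⁻¹) = ((e v).1 + l * (e v).2, (e v).2))
    {k₁ : G} (hk₁ : k₁ ∈ L₁) (hk₁Z : ∀ u, u ∈ cj k₁ Z ↔ u ∈ V ∧ (e u).1 = 0)
    (hD : ∀ Q : Subgroup G, Q ≤ centralizer (zc B : Set G) → IsPGroup 2 Q → B ≤ Q → Q = B)
    (hCC : ∀ z ∈ zc B, ∃ a ∈ Z, ∃ c : G, (∀ l ∈ L₁, l * c = c * l) ∧ (∀ l ∈ L₂, l * c = c * l) ∧ z = a * c) :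
    ∀ y ∈ L₂, ∃ x ∈ L₁, cj y Z = cj x Z := by
  refine spread_eq hB h₁ h₂ hc h4 hf hk₁ hk₁Z fun x hx h hh hxB hhB hz hv => ?_
  have hBD : B ≤ centralizer (zc B : Set G) := fun b hb =>
    mem_centralizer_iff.2 fun z hz => ((mem_zc.1 hz).2.2 b hb).symm
  refine tri_of_syl hB hD hBD (fun v hv w hw => h₁.comm hv hw) (fun v hv => by have h5 := elem_sq h₁.el v hv; rwa [pow_two] at h5)
    (mul_mem hxB (inv_mem hhB)) ?_ h₁.ZV hz hv
  refine mem_centralizer_iff.2 fun z hzc => ?_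
  obtain ⟨a, ha, c, hc1, hc2, rfl⟩ := hCC z hzc
  have c1 : Commute (x * h⁻¹) a := by
    have := hz a ha
    show x * h⁻¹ * a = a * (x * h⁻¹)
    calc x * h⁻¹ * a = (x * h⁻¹ * a * (x * h⁻¹)⁻¹) * (x * h⁻¹) := by group
      _ = a * (x * h⁻¹) := by rw [this]
  have c2 : Commute x c := hc2 x hx
  have c3 : Commute h c := hc1 h hh
  exact (c1.mul_right (c2.mul_left c3.inv_left)).symm.eq

/-- **Uniqueness of the block over `B` with given module, `q ≥ 8`.** -/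
theorem uniTwo8 (hWC : OM.WeakCl.WC B) (hB : IsPGroup 2 B) (h₁ : NB B L₁ V Z q) (h₂ : NB B L₂ V Z q) (hc : Crd V Z e)
    (h4 : 4 < Nat.card F)
    (hf : ∀ l : F, ∃ b ∈ B, ∀ v ∈ V, e (b * v * b⁻¹) = ((e v).1 + l * (e v).2, (e v).2))
    {k₁ : G} (hk₁ : k₁ ∈ L₁) (hk₁Z : ∀ u, u ∈ cj k₁ Z ↔ u ∈ V ∧ (e u).1 = 0)
    (hD : ∀ Q : Subgroup G, Q ≤ centralizer (zc B : Set G) → IsPGroup 2 Q → B ≤ Q → Q = B)
    (hCC : ∀ z ∈ zc B, ∃ a ∈ Z, ∃ c : G, (∀ l ∈ L₁, l * c = c * l) ∧ (∀ l ∈ L₂, l * c = c * l) ∧ z = a * c) :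
    L₂ ≤ L₁ ⊔ centralizer ((V ⊔ zc B : Subgroup G) : Set G) := by
  refine (OM.UniPlus.star_main hWC hB h₁ h₂ rfl rfl rfl fun y hy => ?_).2.2
  obtain ⟨x, hx, hxy⟩ := spread_eq' hB h₁ h₂ hc h4 hf hk₁ hk₁Z hD hCC y hy
  exact ⟨x, hx, fun v hv => ⟨v, hxy ▸ hv, 1, fun l _ => by rw [mul_one, one_mul], (mul_one v).symm⟩⟩

end uni

end Cfsg.Agent.Omega.OM.Var.Spread

end

-- merged: Cfsg.Agent.Mrg.Omega.OM.Var.HU
section

/-!
# hU over `B = bau S`, blocks over different fields (level 0)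

* `fix_ZJ`, `fix_Z` : LEMMA FIX for the frame `Var.Fr`: `e ∈ Q` an involution with `[e, Q] ≤ Z i` lies in `V`;
* `Bfr.com_three` : `k ≠ i, l`: `W l` commutes with its conjugates under `C_G(Z k)`;
* `Bfr.hU` : `T ≥ B` a Sylow 2-subgroup of the minimal parabolic `R ≤ Y i`, `R` moves `Ω₁(Z(T))` and does not normalise
  `Z i`, `(W l)^R` commutes with `W l` for `l ≠ i` (three blocks: automatic): `R = ⟨L', T⟩`, `L'` a natural block over `B` with
  `Z' = Z i`, `V' ≤ W i Z_J`; `R` normalises `W i Z_J`, `C_B(W i)` and `V`;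
* `Bfr.hW` : if moreover `N_G(V)` permutes the `W k`: `R` normalises all `W k` and centralises `W l / Z l`, `l ≠ i`.
-/

set_option autoImplicit false

namespace Cfsg.Agent.Omega.OM.Var

open Subgroup Cfsg Cfsg.Agent.ZN.ChoiceBase Cfsg.Agent.ZN.ChoiceSit
open Cfsg.Agent.PLocal.ElemAbSup
open Cfsg.Agent.ZN (jj zj bau zc zl o2)
open Cfsg.Agent.MinSimple.MinParabolic (IsMinPar)
open Cfsg.Agent.Omega.SQ1.Bau (mem_sup_comm card_sup_comm elem_comm elem_sq)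
open Cfsg.Agent.Omega.OM.BlockUniq (Mx)
open Cfsg.Agent.Omega.OM.FixLem (Fx relIndex_mul_card off_of_mx)
open Cfsg.Agent.Omega.OM.Uni (Md FB)
open Cfsg.Agent.Omega.OM.UniPlus (NB)
open Cfsg.Agent.Omega.OM.BlkGen (FBlk)

universe u

variable {G : Type u} [Group G]

/-! ### LEMMA FIX -/

section frame

variable {ι : Type*} {B Q V ZJ : Subgroup G} {L W Z C A : ι → Subgroup G} {q : ι → ℕ} {m : ℕ}

theorem fx [Finite G] (h : Fr B Q V ZJ L W Z C A q m) (i : ι) {y : Subgroup G} (hy : y ≤ V)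
    (hyi : y ⊓ (Z i ⊔ C i) = ⊥) : Fx (A i) Q V (Z i) y (q i) := by
  have hAL : ∀ a ∈ A i, a ∈ L i := fun a ha => (h.blk i).BL (h.AB i ha)
  have hcV : ∀ a ∈ A i, (∀ v ∈ W i, a * v = v * a) → ∀ v ∈ V, a * v = v * a := fun a ha hw v hv =>
    h.cQ (h.A_Q ha hw) hv
  refine
    { Ael := h.Ael i
      Vel := h.el
      VQ := h.VQ
      VcQ := fun v hv x hx => (h.cQ hx hv).symm
      AQ := fun a ha => h.cj_Q (hAL a ha)
      cA := fun a ha hc => (h.mem_Q a (h.AB i ha)).2 hc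
      RV := h.ZV i
      RA := fun a ha r hr => (h.blk i).cZ a (h.AB i ha) r hr
      com := fun a ha v hv => h.A_comm ha hv
      cardR := h.cardZ i
      cardA := ?_
      cardV := ?_
      free := ?_
      yV := hy
      yA := ?_
      off := fun X hX _ _ _ => off_of_mx h.max (h.Ael i) (h.Am i) hX }
  · have h1 : A i ⊓ centralizer (V : Set G) = A i ⊓ centralizer (W i : Set G) := by
      apply le_antisymm
      · exact inf_le_inf_left _ (centralizer_le (by exact_mod_cast h.WV i))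
      · rintro a ⟨ha, hac⟩
        refine ⟨ha, mem_centralizer_iff.2 fun v hv => ?_⟩
        exact (hcV a ha (fun w hw => (mem_centralizer_iff.1 hac w hw).symm) v hv).symm
    have h2 := relIndex_mul_card (centralizer (V : Set G)) (A i)
    rw [h1, ← (h.A_full i).2.2] at h2
    exact Nat.eq_of_mul_eq_mul_right Nat.card_pos h2
  · have h2 := relIndex_mul_card (centralizer (A i : Set G)) V
    rw [h.card_CVA i, mul_comm] at h2
    exact Nat.eq_of_mul_eq_mul_left Nat.card_pos h2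
  · intro a ha v hv hav hvc
    obtain ⟨w, hw, c, hc, rfl⟩ := h.WC i v hv
    have h1 := h.AC i a ha c hc
    have h2 : a * w = w * a := by
      calc a * w = a * (w * c) * c⁻¹ := by group
        _ = (w * c) * a * c⁻¹ := by rw [hav]
        _ = w * (c * a) * c⁻¹ := by group
        _ = w * (a * c) * c⁻¹ := by rw [h1]
        _ = w * a := by group
    refine hcV a ha ((h.blk i).free a (h.AB i ha) w hw (fun hwZ => hvc ?_) h2)
    have h3 : w * c ∈ V ⊓ centralizer (A i : Set G) := by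
      rw [h.CVA i]
      exact mul_mem (mem_sup_left hwZ) (mem_sup_right hc)
    exact h3.2
  · intro u hu hc
    have h1 : u ∈ V ⊓ centralizer (A i : Set G) := ⟨hy hu, mem_centralizer_iff.2 hc⟩
    rw [h.CVA i] at h1
    have h2 : u ∈ y ⊓ (Z i ⊔ C i) := ⟨hu, h1⟩
    rwa [hyi, mem_bot] at h2

/-- **LEMMA FIX**, `y ≤ V` with `y ∩ C_V(A i) = 1`. -/
theorem fix [Finite G] (h : Fr B Q V ZJ L W Z C A q m) {i : ι} {y : Subgroup G} (hy : y ≤ V)
    (hyi : y ⊓ (Z i ⊔ C i) = ⊥) {e : G} (he : e ∈ Q) (he2 : e ^ 2 = 1)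
    (hey : ∀ x ∈ Q, e * x * e⁻¹ * x⁻¹ ∈ y) : e ∈ V :=
  h.zcQ e he he2 ((fx h i hy hyi).main (h.blk i).one he (by rw [← pow_two]; exact he2) hey)

/-- **LEMMA FIX**: `e ∈ Q` an involution, `[e, Q] ≤ y ≤ Z_J`, `y ∩ C i = 1`; then `e ∈ V`. -/
theorem fix_ZJ [Finite G] (h : Fr B Q V ZJ L W Z C A q m) {i : ι} {y : Subgroup G} (hy : y ≤ ZJ)
    (hyC : y ⊓ C i = ⊥) {e : G} (he : e ∈ Q) (he2 : e ^ 2 = 1)
    (hey : ∀ x ∈ Q, e * x * e⁻¹ * x⁻¹ ∈ y) : e ∈ V := by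
  obtain ⟨l, hl, hmv⟩ := h.exists_mv i
  have h1 : l * e * l⁻¹ ∈ V := by
    refine fix h (i := i) (y := cj l y) ?_ ?_ (h.LQ i l hl e he) ?_ fun x hx => ?_
    · rw [← h.cj_V hl]
      exact cj_mono l (hy.trans h.ZJV)
    · rw [eq_bot_iff]
      rintro _ ⟨⟨u, hu, rfl⟩, hu2⟩
      change l * u * l⁻¹ ∈ Z i ⊔ C i at hu2
      change l * u * l⁻¹ ∈ (⊥ : Subgroup G)
      obtain ⟨w, hw, c, hc, hcJ, e1⟩ := h.split_ZJ i (hy hu)
      obtain ⟨z, hz, c', hc', e2⟩ := mem_sup_comm (fun a ha b hb => h.Vc (h.ZV i ha) (h.CV i hb)) hu2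
      have hlc := h.LC i l hl c hcJ hc
      have e3 : (l * w * l⁻¹) * c = z * c' := by
        rw [← e2, e1]
        calc l * w * l⁻¹ * c = l * w * l⁻¹ * (c * l) * l⁻¹ := by group
          _ = l * w * l⁻¹ * (l * c) * l⁻¹ := by rw [hlc]
          _ = l * (w * c) * l⁻¹ := by group
      have h3 := h.uniq (i := i) ((h.blk i).nV l hl w ((h.blk i).ZV hw)) ((h.blk i).ZV hz) hc hc' e3
      have h4 : l * w * l⁻¹ ∈ cj l (Z i) ⊓ Z i := ⟨⟨w, hw, rfl⟩, by rw [h3.1]; exact hz⟩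
      rw [h.tri' hl hmv, mem_bot] at h4
      have hw1 : w = 1 := by
        have h5 := congrArg (fun t => l⁻¹ * t * l) h4
        simpa [mul_assoc] using h5
      have h5 : u ∈ y ⊓ C i := ⟨hu, by rw [e1, hw1, one_mul]; exact hc⟩
      rw [hyC, mem_bot] at h5
      rw [h5, mem_bot]; group
    · have e1 : (l * e * l⁻¹) ^ 2 = l * e ^ 2 * l⁻¹ := by rw [pow_two, pow_two]; group
      rw [e1, he2]; group
    · rw [mem_cj]
      have h2 := h.LQ i l⁻¹ (inv_mem hl) x hx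
      rw [inv_inv] at h2
      have h3 := hey _ h2
      have e1 : l⁻¹ * (l * e * l⁻¹ * x * (l * e * l⁻¹)⁻¹ * x⁻¹) * l =
        e * (l⁻¹ * x * l) * e⁻¹ * (l⁻¹ * x * l)⁻¹ := by group
      rwa [e1]
  have h2 := h.LV i l⁻¹ (inv_mem hl) _ h1
  have e1 : l⁻¹ * (l * e * l⁻¹) * l⁻¹⁻¹ = e := by group
  rwa [e1] at h2

/-- **LEMMA FIX** for `y = Z i` (helper609 #19750 (1), all `q`). -/
theorem fix_Z [Finite G] (h : Fr B Q V ZJ L W Z C A q m) {i : ι} {e : G} (he : e ∈ Q) (he2 : e ^ 2 = 1)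
    (hey : ∀ x ∈ Q, e * x * e⁻¹ * x⁻¹ ∈ Z i) : e ∈ V := by
  refine fix_ZJ h (i := i) (h.Z_le i) ?_ he he2 hey
  rw [eq_bot_iff, ← h.dir i]
  exact inf_le_inf_right _ (h.blk i).ZV

end frame

/-! ### hU -/

namespace Bfr

variable {ι : Type*} {S : Sylow 2 G} {Q V : Subgroup G} {L W Z C A : ι → Subgroup G} {q : ι → ℕ} {m : ℕ}
  (h : Bfr S Q V L W Z C A q m) [Finite G] [Finite ι]
include h

omit [Finite G] [Finite ι] in
/-- `x ∈ Y i` centralises `Z l`, `l ≠ i`. -/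
theorem YZ {i l : ι} (hl : l ≠ i) {x : G} (hx : x ∈ YY Z i) {z : G} (hz : z ∈ Z l) : x * z = z * x := by
  have _ := h
  exact (mem_centralizer_iff.1 hx z ((le_iSup (fun j : {j : ι // j ≠ i} => Z j) ⟨l, hl⟩) hz)).symm

/-- an element of `N_G(Z_J) ∩ Y i` normalises `Z i` -/
theorem norm_Zi {i : ι} {g : G} (hg : g ∈ normalizer (zj (S : Subgroup G) : Set G)) (hgY : g ∈ YY Z i) :
    cj g (Z i) = Z i := by
  obtain ⟨j, -, hj⟩ := h.perm hg i
  by_cases hji : j = i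
  · rw [hj, hji]
  exfalso
  have h1 : cj g (Z j) = Z j := by
    have h2 : g ∈ centralizer (Z j : Set G) := mem_centralizer_iff.2 fun z hz => (h.YZ hji hgY hz).symm
    exact mem_normalizer_iff_cj.1 (centralizer_le_normalizer _ h2)
  have h2 := congrArg (cj g⁻¹) (hj.trans h1.symm)
  rw [cj_inv_cj, cj_inv_cj] at h2
  exact hji (h.fr.Z_inj h2).symm

/-- a 2-group `T ≥ B` inside `Y i` normalises `W i Z_J` -/
theorem T_norm {i : ι} {T : Subgroup G} (hT2 : IsPGroup 2 T) (hB : bau (S : Subgroup G) ≤ T) (hTY : T ≤ YY Z i) :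
    T ≤ normalizer ((W i ⊔ zj (S : Subgroup G) : Subgroup G) : Set G) := by
  intro t ht
  have hn := Dich.two_le S hT2 hB ht
  have hnJ := Dich.norm_zj (S : Subgroup G) hn
  obtain ⟨j, -, hj, hW⟩ := (h.fr.norm_of hn (h.com t hn)).2 i
  have h1 := h.norm_Zi hnJ (hTY ht)
  have hji : j = i := (h.fr.Z_inj (h1.symm.trans hj)).symm
  subst hji
  refine mem_normalizer_of_cj_le ?_
  have e : cj t (W j ⊔ zj (S : Subgroup G)) = cj t (W j) ⊔ cj t (zj (S : Subgroup G)) := Subgroup.map_sup _ _ _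
  rw [e, cj_eq_of_mem_normalizer hnJ]
  exact sup_le hW le_sup_right

omit [Finite ι] in
/-- `T ∩ C_G(Z_J) = B` for a 2-group `T ≥ B` -/
theorem T_inf {T : Subgroup G} (hT2 : IsPGroup 2 T) (hB : bau (S : Subgroup G) ≤ T) :
    T ⊓ centralizer (zj (S : Subgroup G) : Set G) = bau (S : Subgroup G) := by
  have _ := h
  exact (Dich.syl S).2.2 _ inf_le_right (hT2.to_le inf_le_left) (le_inf hB (Dich.syl S).1)

/-- `W l` commutes with its conjugates under `C_G(Z k)`, `k ≠ l`. -/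
theorem com_three {i l k : ι} (hki : k ≠ i) (hkl : k ≠ l) {r : G} (hr : r ∈ YY Z i) {w w' : G} (hw : w ∈ W l)
    (hw' : w' ∈ W l) : r * w * r⁻¹ * w' = w' * (r * w * r⁻¹) := by
  have hf : Fact (Nat.Prime 2) := ⟨Nat.prime_two⟩
  obtain ⟨z, hz, hz1⟩ := h.fr.exists_ne k
  have hz2 : z ^ 2 = 1 := elem_sq h.fr.el z (h.fr.ZV k hz)
  set H : Subgroup G := normalizer (zpowers z : Set G) with hH
  have hU : IsPGroup 2 (zpowers z) := MinSimple.Basic.isPGroup_zpowers hz2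
  have hU1 : zpowers z ≠ ⊥ := by rw [Ne, zpowers_eq_bot]; exact hz1
  have hc := MinSimple.Basic.char2_normalizer h.char2 hU hU1
  rw [← hH] at hc
  have hcH : ∀ x : G, x * z = z * x → x ∈ H := by
    intro x hx
    refine centralizer_le_normalizer _ (mem_centralizer_iff.2 ?_)
    rintro _ ⟨n, rfl⟩
    have c1 : Commute x z := hx
    exact (c1.zpow_right n).symm.eq
  have hLH : L l ≤ H := fun x hx => hcH x (h.YZ hkl (h.L_le l hx) hz)
  have hrH : r ∈ H := hcH r (h.YZ hki hr hz)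
  have h1 := ((nb h.fr l).block (UniPlus.wc_bau S) h.bau_two).le_centralizer (isPGroup_o2 H)
    (hLH.trans (le_normalizer_o2 H))
  have h3 : W l ≤ o2 H := by
    intro v hv
    refine hc ⟨hLH ((h.fr.blk l).BL ((h.fr.blk l).VB hv)), mem_centralizer_iff.2 fun w hw => ?_⟩
    exact (mem_centralizer_iff.1 (h1 hw) v hv).symm
  have h4 : r * w * r⁻¹ ∈ o2 H := (mem_normalizer_iff.1 (le_normalizer_o2 H hrH) w).1 (h3 hw)
  exact (mem_centralizer_iff.1 (h1 h4) w' hw').symm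

/-- **hU** over `B`, blocks over different fields. -/
theorem hU (hFF : FFThm.Stmt.{u}) {i : ι} {T R : Subgroup G} (hT : Syl T R) (hB : bau (S : Subgroup G) ≤ T)
    (hP : IsMinPar T R) (hc : R ⊓ centralizer (o2 R : Set G) ≤ o2 R) (hRY : R ≤ YY Z i)
    (hmv : ¬ R ≤ normalizer (Z i : Set G)) (hz : ¬ R ≤ centralizer (zc T : Set G))
    (hcom : ∀ l, l ≠ i → ∀ r ∈ R, ∀ w ∈ W l, ∀ w' ∈ W l, r * w * r⁻¹ * w' = w' * (r * w * r⁻¹)) :
    (∃ L' V', FBlk (S : Subgroup G) L' V' ∧ NB (bau (S : Subgroup G)) L' V' (Z i) (q i) ∧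
      V' ≤ W i ⊔ zj (S : Subgroup G) ∧ L' ≤ R ∧ R ≤ L' ⊔ T) ∧
    R ≤ normalizer ((W i ⊔ zj (S : Subgroup G) : Subgroup G) : Set G) ∧
    R ≤ normalizer ((bau (S : Subgroup G) ⊓ centralizer (W i : Set G) : Subgroup G) : Set G) ∧
    R ≤ normalizer (V : Set G) := by
  have hTY : T ≤ YY Z i := hT.1.trans hRY
  have hTW := h.T_norm hT.2.1 hB hTY
  have hTZ : T ≤ normalizer (Z i : Set G) := fun t ht => mem_normalizer_iff_cj.2
    (h.norm_Zi (Dich.norm_zj _ (Dich.two_le S hT.2.1 hB ht)) (hTY ht))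
  -- the block
  have hJ : ¬ jj T ≤ o2 R := by
    intro hJ
    apply hmv
    have h2 : o2 R ≤ T := o2_le_syl hT
    have h3 : jj (o2 R) = jj T := jj_eq_of_jj_le hJ h2
    have h4 : R ≤ normalizer (jj (S : Subgroup G) : Set G) := by
      rw [← LemmaK.Main.jj_eq S hT.2.1 hB, ← h3]
      exact (le_normalizer_o2 R).trans (normalizer_le_jj _)
    have h7 := normalizer_le_of_cj (F := zj) zj_cj (jj (S : Subgroup G))
    have h8 : zj (jj (S : Subgroup G)) = zj (S : Subgroup G) := zj_congr (jj_eq_of_jj_le le_rfl (jj_le _))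
    rw [h8] at h7
    exact fun r hr => mem_normalizer_iff_cj.2 (h.norm_Zi (h7 (h4 hr)) (hRY hr))
  obtain ⟨L', V', hF, hLR, hRL⟩ := exists_blk hFF S hT hB hP hc hJ hz
  obtain ⟨Z', q', hFB⟩ := hF.fb
  obtain ⟨j, -, -, hN, hV', -, -⟩ := h.blk hFB
  have hji : j = i := by
    by_contra hji
    obtain ⟨z, hz, hz1⟩ := h.fr.exists_ne j
    exact hz1 (hN.cent hz fun l hl => h.YZ hji (hRY (hLR hl)) hz)
  subst hji
  have hLW : L' ≤ normalizer ((W j ⊔ zj (S : Subgroup G) : Subgroup G) : Set G) := by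
    have h1 := UniPlus.sup_zc_eq (nb h.fr j) hN (by rw [h.fr.zcB]; exact hV')
    rw [h.fr.zcB] at h1
    rw [h1, ← h.fr.zcB]
    exact UniPlus.norm_of_forall fun l hl a ha => UniPlus.nE hN.toFB hl ha
  have hRW : R ≤ normalizer ((W j ⊔ zj (S : Subgroup G) : Subgroup G) : Set G) := hRL.trans (sup_le hLW hTW)
  -- `T₀ = C_B(W i)`
  have hT0 : R ≤ normalizer ((bau (S : Subgroup G) ⊓ centralizer (W j : Set G) : Subgroup G) : Set G) := by
    have h1 : T ⊓ centralizer ((W j ⊔ zj (S : Subgroup G) : Subgroup G) : Set G) =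
        bau (S : Subgroup G) ⊓ centralizer (W j : Set G) := by
      rw [← h.T_inf hT.2.1 hB]
      apply le_antisymm
      · exact le_inf (le_inf inf_le_left (inf_le_right.trans (centralizer_le (by exact_mod_cast le_sup_right))))
          (inf_le_right.trans (centralizer_le (by exact_mod_cast le_sup_left)))
      · refine le_inf (inf_le_left.trans inf_le_left) (le_centralizer_iff.1 (sup_le ?_ ?_))
        · exact le_centralizer_iff.1 inf_le_right
        · exact le_centralizer_iff.1 (inf_le_left.trans inf_le_right)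
    rw [← h1]
    refine HU.norm_inf hP hT (hRW.trans Dich.norm_cent) fun hle => hmv (hle.trans (sup_le ?_ hTZ))
    exact (inf_le_right.trans (centralizer_le (by exact_mod_cast (h.fr.Z_le j).trans le_sup_right))).trans
      (centralizer_le_normalizer _)
  have hRz : ∀ l, l ≠ j → ∀ r ∈ R, ∀ z ∈ Z l, r * z * r⁻¹ = z := fun l hl r hr z hz => by
    rw [h.YZ hl (hRY hr) hz]; group
  have hT0c : ∀ {r x : G}, r ∈ R → x ∈ bau (S : Subgroup G) ⊓ centralizer (W j : Set G) →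
      r * x * r⁻¹ ∈ bau (S : Subgroup G) ⊓ centralizer (W j : Set G) := fun hr hx => (mem_normalizer_iff.1 (hT0 hr) _).1 hx
  have hT0c' : ∀ {r x : G}, r ∈ R → x ∈ bau (S : Subgroup G) ⊓ centralizer (W j : Set G) →
      r⁻¹ * x * r ∈ bau (S : Subgroup G) ⊓ centralizer (W j : Set G) := fun hr hx => (mem_normalizer_iff''.1 (hT0 hr) _).1 hx
  have hVT : V ≤ bau (S : Subgroup G) ⊓ centralizer (W j : Set G) := fun v hv =>
    ⟨h.fr.QB (h.fr.VQ hv), mem_centralizer_iff.2 fun w hw => h.fr.Vc (h.fr.WV j hw) hv⟩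
  have hQT : Q ≤ bau (S : Subgroup G) ⊓ centralizer (W j : Set G) := fun v hv =>
    ⟨h.fr.QB hv, mem_centralizer_iff.2 fun w hw => (h.fr.cQ hv (h.fr.WV j hw)).symm⟩
  -- `(W l)^r ≤ V`
  have key : ∀ l, l ≠ j → ∀ r ∈ R, ∀ w ∈ W l, r * w * r⁻¹ ∈ V := by
    intro l hl r hr w hw
    have hx := hT0c hr (hVT (h.fr.WV l hw))
    have hxQ : r * w * r⁻¹ ∈ Q := by
      refine (h.fr.mem_Q _ hx.1).2 fun v hv => ?_
      have h1 : (⨆ k, W k) ≤ centralizer ({r * w * r⁻¹} : Set G) := by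
        refine iSup_le fun k v hv => mem_centralizer_singleton_iff.2 ?_
        by_cases hkj : k = j
        · subst hkj
          exact mem_centralizer_iff.1 hx.2 v hv
        by_cases hkl : k = l
        · subst hkl
          exact (hcom k hkj r hr w hw v hv).symm
        -- `k ≠ j, l`
        have h2 := (h.fr.blk k).com _ hx.1 v hv
        have h3 := (h.fr.blk l).com _ (hT0c' hr (hVT (h.fr.WV k hv))).1 w hw
        have h4 := hRz l hl r hr _ h3
        have e : r * (r⁻¹ * v * r * w * (r⁻¹ * v * r)⁻¹ * w⁻¹) * r⁻¹ =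
            v * (r * w * r⁻¹) * v⁻¹ * (r * w * r⁻¹)⁻¹ := by group
        rw [e] at h4
        have h5 : v * (r * w * r⁻¹) * v⁻¹ * (r * w * r⁻¹)⁻¹ ∈ Z l := by rw [h4]; exact h3
        have h6 : v * (r * w * r⁻¹) * v⁻¹ * (r * w * r⁻¹)⁻¹ ∈ Z k := by
          have e2 : v * (r * w * r⁻¹) * v⁻¹ * (r * w * r⁻¹)⁻¹ = (r * w * r⁻¹ * v * (r * w * r⁻¹)⁻¹ * v⁻¹)⁻¹ := by group
          rw [e2]
          exact inv_mem h2
        have h7 := h.fr.Z_inf_C h6 (h.fr.Z_le_C (Ne.symm hkl) h5)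
        exact mul_inv_eq_iff_eq_mul.1 (mul_inv_eq_one.1 h7)
      rw [h.fr.V_eq] at hv
      exact (mem_centralizer_singleton_iff.1 (h1 hv)).symm
    refine fix_Z h.fr (i := l) hxQ ?_ fun y hy => ?_
    · have h1 := elem_sq h.fr.el w (h.fr.WV l hw)
      have e1 : (r * w * r⁻¹) ^ 2 = r * w ^ 2 * r⁻¹ := by rw [pow_two, pow_two]; group
      rw [e1, h1]; group
    · have h3 := (h.fr.blk l).com _ (hT0c' hr (hQT hy)).1 w hw
      have h4 := hRz l hl r hr _ h3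
      have e : r * (r⁻¹ * y * r * w * (r⁻¹ * y * r)⁻¹ * w⁻¹) * r⁻¹ =
          y * (r * w * r⁻¹) * y⁻¹ * (r * w * r⁻¹)⁻¹ := by group
      rw [e] at h4
      have h5 : y * (r * w * r⁻¹) * y⁻¹ * (r * w * r⁻¹)⁻¹ ∈ Z l := by rw [h4]; exact h3
      have e2 : r * w * r⁻¹ * y * (r * w * r⁻¹)⁻¹ * y⁻¹ = (y * (r * w * r⁻¹) * y⁻¹ * (r * w * r⁻¹)⁻¹)⁻¹ := by group
      rw [e2]
      exact inv_mem h5
  refine ⟨⟨L', V', hF, hN, hV', hLR, hRL⟩, hRW, hT0, fun r hr => mem_normalizer_of_cj_le ?_⟩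
  have e1 : cj r (⨆ k, W k) = ⨆ k, cj r (W k) := Subgroup.map_iSup _ _
  conv_lhs => rw [h.fr.V_eq]
  rw [e1]
  refine iSup_le fun k => ?_
  by_cases hkj : k = j
  · subst hkj
    have h9 : cj r (W k) ≤ cj r (W k ⊔ zj (S : Subgroup G)) := cj_mono r le_sup_left
    rw [cj_eq_of_mem_normalizer (hRW hr)] at h9
    exact h9.trans (sup_le (h.fr.WV k) h.fr.ZJV)
  · rintro _ ⟨w, hw, rfl⟩
    exact key k hkj r hr w hw

omit [Finite ι] in
/-- a 2-element which normalises `B`, `W l` and centralises `Z l` is trivial on `W l / Z l`. -/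
theorem cent_y {l : ι} {t : G} (ht2 : ∃ k : ℕ, t ^ 2 ^ k = 1) (hn : t ∈ normalizer (bau (S : Subgroup G) : Set G))
    (htW : cj t (W l) = W l) (htz : ∀ z ∈ Z l, t * z = z * t) {w : G} (hw : w ∈ W l) :
    t * w * t⁻¹ * w⁻¹ ∈ Z l := by
  have hb := h.fr.blk l
  have hnB : ∀ b ∈ bau (S : Subgroup G), t * b * t⁻¹ ∈ bau (S : Subgroup G) := fun b hb => (mem_normalizer_iff.1 hn b).1 hb
  have hnB' : ∀ b ∈ bau (S : Subgroup G), t⁻¹ * b * t ∈ bau (S : Subgroup G) := fun b hb => (mem_normalizer_iff''.1 hn b).1 hb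
  have htz' : ∀ z ∈ Z l, t * z * t⁻¹ = z := fun z hz => by rw [htz z hz]; group
  have htW' : ∀ w ∈ W l, t * w * t⁻¹ ∈ W l := fun w hw => htW ▸ ⟨w, hw, rfl⟩
  have hWc : ∀ x ∈ W l, ∀ y ∈ W l, x * y = y * x := fun x hx y hy => hb.comm hx hy
  obtain ⟨m', hm⟩ := ht2
  have hex : ∃ w ∈ W l, w ∉ Z l := by
    by_contra hcon
    push Not at hcon
    have h2 := Subgroup.card_le_of_le (show W l ≤ Z l from hcon)
    rw [hb.card] at h2
    have h3 := hb.one
    have h4 : 0 < Nat.card (Z l) := Nat.card_pos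
    nlinarith
  obtain ⟨w₀, hw₀, hw₀Z, h0⟩ := HU.exists_fix_coset (Z := Z l) (W := W l) hWc
    (fun x hx => by rw [← pow_two]; exact elem_sq hb.el x hx) hex m' t htW' hm
  -- `t` acts trivially on `B / C_B(W l)`
  have key : ∀ b ∈ bau (S : Subgroup G), ∀ u ∈ W l, (t * b * t⁻¹) * u * (t * b * t⁻¹)⁻¹ = b * u * b⁻¹ := by
    intro b hbB u hu
    set b' := t * b * t⁻¹ with hb'
    have hb'B : b' ∈ bau (S : Subgroup G) := hnB b hbB
    set z := t * w₀ * t⁻¹ * w₀⁻¹ with hz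
    have e1 : t * w₀ * t⁻¹ = z * w₀ := by rw [hz]; group
    have h3 : b * w₀ * b⁻¹ * w₀⁻¹ ∈ Z l := hb.com b hbB w₀ hw₀
    have h4 : b' * (t * w₀ * t⁻¹) * b'⁻¹ * (t * w₀ * t⁻¹)⁻¹ = b * w₀ * b⁻¹ * w₀⁻¹ := by
      calc b' * (t * w₀ * t⁻¹) * b'⁻¹ * (t * w₀ * t⁻¹)⁻¹ = t * (b * w₀ * b⁻¹ * w₀⁻¹) * t⁻¹ := by rw [hb']; group
        _ = _ := htz' _ h3
    have h5 : b' * w₀ * b'⁻¹ * w₀⁻¹ = b * w₀ * b⁻¹ * w₀⁻¹ := by
      rw [← h4, e1]
      have h6 : b' * z = z * b' := hb.cZ b' hb'B z h0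
      have h7 := hb.com b' hb'B w₀ hw₀
      have h8 : z * (b' * w₀ * b'⁻¹ * w₀⁻¹) = (b' * w₀ * b'⁻¹ * w₀⁻¹) * z :=
        hb.comm (hb.ZV h0) (hb.ZV h7)
      calc b' * w₀ * b'⁻¹ * w₀⁻¹ = (b' * w₀ * b'⁻¹ * w₀⁻¹) * z * z⁻¹ := by group
        _ = z * (b' * w₀ * b'⁻¹ * w₀⁻¹) * z⁻¹ := by rw [h8]
        _ = (z * b') * w₀ * b'⁻¹ * w₀⁻¹ * z⁻¹ := by group
        _ = (b' * z) * w₀ * b'⁻¹ * w₀⁻¹ * z⁻¹ := by rw [h6]
        _ = b' * (z * w₀) * b'⁻¹ * (z * w₀)⁻¹ := by group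
    have h6 : b' * w₀ * b'⁻¹ = b * w₀ * b⁻¹ := mul_right_cancel h5
    have h7 : (b⁻¹ * b') * w₀ = w₀ * (b⁻¹ * b') := by
      calc (b⁻¹ * b') * w₀ = b⁻¹ * (b' * w₀ * b'⁻¹) * b' := by group
        _ = b⁻¹ * (b * w₀ * b⁻¹) * b' := by rw [h6]
        _ = w₀ * (b⁻¹ * b') := by group
    have h8 := hb.free (b⁻¹ * b') (mul_mem (inv_mem hbB) hb'B) w₀ hw₀ hw₀Z h7 u hu
    calc b' * u * b'⁻¹ = b * ((b⁻¹ * b') * u) * b'⁻¹ := by group
      _ = b * (u * (b⁻¹ * b')) * b'⁻¹ := by rw [h8]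
      _ = b * u * b⁻¹ := by group
  set v := t * w * t⁻¹ with hv
  have hvW : v ∈ W l := htW' w hw
  have h1 : ∀ b ∈ bau (S : Subgroup G), b * v * b⁻¹ * v⁻¹ = b * w * b⁻¹ * w⁻¹ := by
    intro b hbB
    set b₁ := t⁻¹ * b * t with hb₁
    have hb₁B : b₁ ∈ bau (S : Subgroup G) := hnB' b hbB
    have e1 : t * b₁ * t⁻¹ = b := by rw [hb₁]; group
    have h3 := hb.com b₁ hb₁B w hw
    have h4 := key b₁ hb₁B w hw
    rw [e1] at h4
    calc b * v * b⁻¹ * v⁻¹ = t * (b₁ * w * b₁⁻¹ * w⁻¹) * t⁻¹ := by rw [hv, hb₁]; group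
      _ = b₁ * w * b₁⁻¹ * w⁻¹ := htz' _ h3
      _ = b * w * b⁻¹ * w⁻¹ := by rw [h4]
  have h3 : w⁻¹ * v ∈ Z l := by
    refine hb.toMd.mem_Z_iff.2 ⟨mul_mem (inv_mem hw) hvW, fun b hbB => ?_⟩
    have h4 := h1 b hbB
    have h5 : b * v * b⁻¹ = (b * w * b⁻¹) * w⁻¹ * v := by
      calc b * v * b⁻¹ = (b * v * b⁻¹ * v⁻¹) * v := by group
        _ = (b * w * b⁻¹) * w⁻¹ * v := by rw [h4]
    have h6 : b * (w⁻¹ * v) * b⁻¹ = w⁻¹ * v := by
      calc b * (w⁻¹ * v) * b⁻¹ = (b * w * b⁻¹)⁻¹ * (b * v * b⁻¹) := by group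
        _ = w⁻¹ * v := by rw [h5]; group
    exact mul_inv_eq_iff_eq_mul.1 h6
  rwa [hWc _ (inv_mem hw) _ hvW] at h3

/-- `R ≤ N_G(V)` permuting the `W k`: `R` normalises every `W k` and centralises `W l / Z l`, `l ≠ i`. -/
theorem hW {i : ι} {T R : Subgroup G} (hT : Syl T R) (hB : bau (S : Subgroup G) ≤ T) (hP : IsMinPar T R)
    (hRY : R ≤ YY Z i) (hR : ∀ r ∈ R, ∀ k, ∃ k', cj r (W k) = W k') :
    (∀ k, R ≤ normalizer (W k : Set G)) ∧ ∀ l, l ≠ i → ∀ r ∈ R, ∀ w ∈ W l, r * w * r⁻¹ * w⁻¹ ∈ Z l := by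
  have hWinj : ∀ {k k' : ι}, W k = W k' → k = k' := by
    intro k k' e
    by_contra hne
    obtain ⟨z, hz, hz1⟩ := h.fr.exists_ne k
    have h1 : z ∈ W k ⊓ C k := mem_inf.2 ⟨(h.fr.blk k).ZV hz, h.fr.WjC k k' hne (e ▸ (h.fr.blk k).ZV hz)⟩
    rw [h.fr.dir k, mem_bot] at h1
    exact hz1 h1
  -- the `W l`, `l ≠ i`, are fixed
  have h1 : ∀ l, l ≠ i → ∀ r ∈ R, cj r (W l) = W l := by
    intro l hl r hr
    obtain ⟨k, hk⟩ := hR r hr l
    by_cases hkl : k = l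
    · rw [hk, hkl]
    exfalso
    obtain ⟨z, hz, hz1⟩ := h.fr.exists_ne l
    have h2 : r * z * r⁻¹ = z := by rw [h.YZ hl (hRY hr) hz]; group
    have h3 : z ∈ W k := by
      rw [← hk, ← h2]
      exact ⟨z, (h.fr.blk l).ZV hz, rfl⟩
    have h4 : z ∈ W l ⊓ C l := mem_inf.2 ⟨(h.fr.blk l).ZV hz, h.fr.WjC l k (Ne.symm hkl) h3⟩
    rw [h.fr.dir l, mem_bot] at h4
    exact hz1 h4
  have h2 : ∀ k, ∀ r ∈ R, cj r (W k) = W k := by
    intro k r hr
    by_cases hk : k = i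
    · subst hk
      obtain ⟨k', hk'⟩ := hR r hr k
      by_cases hkk : k' = k
      · rw [hk', hkk]
      exfalso
      have h3 := h1 k' hkk r hr
      have h4 := congrArg (cj r⁻¹) (hk'.trans h3.symm)
      rw [cj_inv_cj, cj_inv_cj] at h4
      exact hkk (hWinj h4).symm
    · exact h1 k hk r hr
  refine ⟨fun k r hr => mem_normalizer_iff_cj.2 (h2 k r hr), fun l hl => ?_⟩
  have hRz : ∀ r ∈ R, ∀ z ∈ Z l, r * z * r⁻¹ = z := fun r hr z hz => by
    rw [h.YZ hl (hRY hr) hz]; group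
  have hWl : ∀ r ∈ R, ∀ w ∈ W l, r * w * r⁻¹ ∈ W l := fun r hr w hw => h2 l r hr ▸ ⟨w, hw, rfl⟩
  let K : Subgroup G :=
    { carrier := {r | r ∈ R ∧ ∀ w ∈ W l, r * w * r⁻¹ * w⁻¹ ∈ Z l}
      one_mem' := ⟨one_mem _, fun w _ => by simp [one_mem]⟩
      mul_mem' := by
        rintro a b ⟨ha, ha'⟩ ⟨hb, hb'⟩
        refine ⟨R.mul_mem ha hb, fun w hw => ?_⟩
        have e : a * b * w * (a * b)⁻¹ * w⁻¹ = a * (b * w * b⁻¹) * a⁻¹ * (b * w * b⁻¹)⁻¹ * (b * w * b⁻¹ * w⁻¹) := by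
          group
        rw [e]
        exact mul_mem (ha' _ (hWl b hb w hw)) (hb' w hw)
      inv_mem' := by
        rintro a ⟨ha, ha'⟩
        refine ⟨R.inv_mem ha, fun w hw => ?_⟩
        have h1 := hWl a⁻¹ (inv_mem ha) w hw
        rw [inv_inv] at h1
        have h2 := inv_mem (ha' _ h1)
        have e : (a * (a⁻¹ * w * a) * a⁻¹ * (a⁻¹ * w * a)⁻¹)⁻¹ = a⁻¹ * w * a⁻¹⁻¹ * w⁻¹ := by group
        rwa [e] at h2 }
  have hTK : ∀ t ∈ T, ∀ w ∈ W l, t * w * t⁻¹ * w⁻¹ ∈ Z l := by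
    intro t ht w hw
    refine h.cent_y ?_ (Dich.two_le S hT.2.1 hB ht) (h2 l t (hT.1 ht)) (fun z hz => h.YZ hl (hRY (hT.1 ht)) hz) hw
    obtain ⟨k, hk⟩ := hT.2.1 ⟨t, ht⟩
    exact ⟨k, by have := congrArg Subtype.val hk; simpa using this⟩
  have hRK : R ≤ K := by
    refine (HU.gen_cj hP hT).trans (iSup_le fun r => ?_)
    rintro _ ⟨t, ht, rfl⟩
    change (r : G) * t * (r : G)⁻¹ ∈ K
    refine ⟨mul_mem (mul_mem r.2 (hT.1 ht)) (inv_mem r.2), fun w hw => ?_⟩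
    have h3 := hWl (r : G)⁻¹ (inv_mem r.2) w hw
    rw [inv_inv] at h3
    have h4 := hTK t ht _ h3
    have h5 := hRz r r.2 _ h4
    have e : (r : G) * (t * ((r : G)⁻¹ * w * r) * t⁻¹ * ((r : G)⁻¹ * w * r)⁻¹) * (r : G)⁻¹ =
        (r : G) * t * (r : G)⁻¹ * w * ((r : G) * t * (r : G)⁻¹)⁻¹ * w⁻¹ := by group
    rw [e] at h5
    rw [h5]
    exact h4
  exact fun r hr => (hRK hr).2

end Bfr

end Cfsg.Agent.Omega.OM.Var

end

-- merged: Cfsg.Agent.Mrg.Omega.EDel.Bx.AODef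
section

section


/-!
# The level-free frame over `B`, `q = 2` (helper23 #25626): left case of box R

As helper566's `Bx` (#24770), without stage, `wc`, `nJ`, `par`; instead, with `O = O₂(C_G(ZJ))`:

* `jO` : `Ω₁(Z(J(O))) ≤ ZJ`;
* `mv` : for every `i` some elementary abelian subgroup of `O` of maximal order moves `W i`.

`Exch.lean` proves `par` (UNI over `B`) from this.
-/

set_option autoImplicit false

namespace Cfsg.Agent.Omega.EDel.AOF

open Subgroup Cfsg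
open Cfsg.Agent.ZN (zc zl o2)
open Cfsg.Agent.ZN.ChoiceSit (Syl)
open Cfsg.Agent.Omega.KL.TwoS (Mx)

universe u

variable {G : Type u} [Group G]

/-- **The level-free frame over `B`, `q = 2`.** -/
structure AO [Finite G] (B ZJ : Subgroup G) {ι : Type} (W : ι → Subgroup G) (z : ι → G) : Prop where
  c2 : IsCharacteristicTwoType G
  two : IsPGroup 2 B
  syl : Syl B (centralizer (ZJ : Set G))
  zcB : zc B = ZJ
  zJ : ∀ i, z i ∈ ZJ
  gen : ZJ ≤ closure (Set.range z)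
  ne : ∀ i, z i ≠ 1
  inj : Function.Injective z
  zW : ∀ i, z i ∈ W i
  WB : ∀ i, W i ≤ B
  cardW : ∀ i, Nat.card (W i) = 4
  sqW : ∀ i, ∀ x ∈ W i, x ^ 2 = 1
  WJ : ∀ i, ∀ x ∈ W i, x ∈ ZJ → x = 1 ∨ x = z i
  BW : ∀ i, ∀ b ∈ B, ∀ x ∈ W i, b * x * b⁻¹ * x⁻¹ = 1 ∨ b * x * b⁻¹ * x⁻¹ = z i
  rho : ∀ i, ∃ ρ : G, (∀ l, l ≠ i → ρ * z l = z l * ρ) ∧ ρ * z i * ρ⁻¹ ∈ W i ∧ ρ * z i * ρ⁻¹ ≠ z i
  perm : ∀ g ∈ normalizer (B : Set G), ∀ i, ∃ j, g * z i * g⁻¹ = z j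
  jO : ∀ x ∈ o2 (centralizer (ZJ : Set G)), x ^ 2 = 1 →
    (∀ A : Subgroup G, Mx (o2 (centralizer (ZJ : Set G))) A → ∀ a ∈ A, a * x = x * a) → x ∈ ZJ
  mv : ∀ i, ∃ A : Subgroup G, Mx (o2 (centralizer (ZJ : Set G))) A ∧ ¬ A ≤ centralizer (W i : Set G)
  three : ∀ i j : ι, ∃ l, l ≠ i ∧ l ≠ j

end Cfsg.Agent.Omega.EDel.AOF

end

section


/-!
# The exchange argument (helper23 #25626 (2))

`O` a 2-group, `Q = C_O(U)`-like, `E ≤ O` elementary abelian and `R`-invariant, `U, V ≤ E`, `U` `R`-invariant and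
centralised by `Q`; `Q` acts on `V` by `x ↦ x` or `x ↦ z x`, `z ∈ U`. If an `A` of maximal order in `O` is exact on `U`
and moves a conjugate of `z`, then `Q` centralises `V` : `exch`, `exch'`.
-/

set_option autoImplicit false
set_option linter.unusedSectionVars false

namespace Cfsg.Agent.Omega.EDel.AOF

open Subgroup Cfsg
open Cfsg.Agent.ZN (zc zl o2)
open Cfsg.Agent.ZN.ChoiceSit (Syl)
open Cfsg.Agent.Omega.KL.TwoS (Mx)

universe u

variable {G : Type u} [Group G] [Finite G] {O Q R E U V A : Subgroup G} {z : G}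

/-- the data of one parabolic `R` -/
structure Ex (O Q R E U : Subgroup G) : Prop where
  EO : E ≤ O
  Esq : ∀ x ∈ E, x ^ 2 = 1
  RE : R ≤ normalizer (E : Set G)
  UE : U ≤ E
  RU : R ≤ normalizer (U : Set G)
  OR : O ≤ R
  nQ : R ≤ normalizer (Q : Set G)
  QU : ∀ g ∈ Q, ∀ x ∈ U, g * x = x * g
  OQ : ∀ g ∈ O, (∀ x ∈ U, g * x = x * g) → g ∈ Q

namespace Ex

variable (h : Ex O Q R E U)
include h

theorem ecomm {x y : G} (hx : x ∈ E) (hy : y ∈ E) : x * y = y * x := by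
  have h1 := h.Esq _ (mul_mem hx hy)
  have h2 := h.Esq _ hx
  have h3 := h.Esq _ hy
  rw [pow_two] at h1 h2 h3
  have h4 : x⁻¹ = x := inv_eq_of_mul_eq_one_left h2
  have h5 : y⁻¹ = y := inv_eq_of_mul_eq_one_left h3
  have h6 : (x * y)⁻¹ = x * y := inv_eq_of_mul_eq_one_left h1
  rw [mul_inv_rev, h4, h5] at h6
  exact h6.symm

theorem conj_mem {r x : G} (hr : r ∈ R) (hx : x ∈ E) : r * x * r⁻¹ ∈ E :=
  (mem_normalizer_iff.1 (h.RE hr) _).1 hx

theorem bw (BW : ∀ g ∈ Q, ∀ x ∈ V, g * x * g⁻¹ = x ∨ g * x * g⁻¹ = z * x) {s g x : G} (hs : s ∈ R) (hg : g ∈ Q)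
    (hx : x ∈ V) : g * (s * x * s⁻¹) * g⁻¹ = s * x * s⁻¹ ∨
      g * (s * x * s⁻¹) * g⁻¹ = (s * z * s⁻¹) * (s * x * s⁻¹) := by
  have h1 : s⁻¹ * g * s ∈ Q := by
    have := (mem_normalizer_iff.1 (h.nQ (inv_mem hs)) g).1 hg
    rwa [inv_inv] at this
  have e : g * (s * x * s⁻¹) * g⁻¹ = s * ((s⁻¹ * g * s) * x * (s⁻¹ * g * s)⁻¹) * s⁻¹ := by group
  rcases BW _ h1 x hx with h2 | h2
  · left; rw [e, h2]
  · right; rw [e, h2]; group

set_option maxHeartbeats 800000 in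
/-- **exchange** -/
theorem exch (hV : V ≤ E) (hzU : z ∈ U) (hz1 : z ≠ 1)
    (BW : ∀ g ∈ Q, ∀ x ∈ V, g * x * g⁻¹ = x ∨ g * x * g⁻¹ = z * x) (hA : Mx O A)
    (hex : (centralizer (U : Set G)).relIndex A ≤ (centralizer (A : Set G)).relIndex U) {r a : G} (hr : r ∈ R)
    (ha : a ∈ A) (hne : a * (r * z * r⁻¹) * a⁻¹ ≠ r * z * r⁻¹) :
    ∀ g ∈ Q, ∀ x ∈ V, g * (r * x * r⁻¹) * g⁻¹ = r * x * r⁻¹ := by
  intro g hg x hx
  have haR : a ∈ R := h.OR (hA.le ha)
  set u := r * z * r⁻¹ with hu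
  set y := r * x * r⁻¹ with hy
  set u' := a * u * a⁻¹ with hu'
  set y' := a * y * a⁻¹ with hy'
  have huU : u ∈ U := (mem_normalizer_iff.1 (h.RU hr) _).1 hzU
  have hyE : y ∈ E := h.conj_mem hr (hV hx)
  have hy'E : y' ∈ E := h.conj_mem haR hyE
  have hu1 : u ≠ 1 := fun e => hz1 (conj_eq_one_iff.1 e)
  have hu'1 : u' ≠ 1 := fun e => hu1 (conj_eq_one_iff.1 e)
  have huu : u * u = 1 := by rw [← pow_two]; exact h.Esq _ (h.UE huU)
  -- `E₀`
  set E₀ := A ⊓ centralizer (U : Set G) ⊔ U with hE₀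
  have hMx : Mx O E₀ := hA.sup (h.UE.trans h.EO) (fun x hx => h.Esq x (h.UE hx)) hex
  have hAU : ∀ c ∈ A ⊓ centralizer (U : Set G), ∀ x ∈ U, c * x = x * c := fun c hc x hx =>
    (mem_centralizer_iff.1 hc.2 x hx).symm
  have hdec : ∀ e ∈ E₀, ∃ c ∈ A ⊓ centralizer (U : Set G), ∃ x ∈ U, e = c * x := by
    intro e he
    have hn : U ≤ normalizer ((A ⊓ centralizer (U : Set G) : Subgroup G) : Set G) :=
      le_trans (fun x hx => mem_centralizer_iff.2 fun c hc => hAU c hc x hx) (centralizer_le_normalizer _)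
    obtain ⟨c, hc, x, hx, e1⟩ := Cfsg.Agent.Omega.OM.KTwo.exists_mul_of_mem_sup hn he
    exact ⟨c, hc, x, hx, e1⟩
  have hEQ : E₀ ≤ Q := by
    intro e he
    obtain ⟨c, hc, x, hx, rfl⟩ := hdec e he
    refine mul_mem (h.OQ c (hA.le hc.1) fun w hw => hAU c hc w hw) (h.OQ x (h.EO (h.UE hx)) fun w hw => ?_)
    exact h.ecomm (h.UE hx) (h.UE hw)
  have hcomA : ∀ c ∈ A, a * c = c * a := fun c hc => (mem_centralizer_iff.1 (hA.comm hc) a ha)
  -- action on `y'`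
  have hact : ∀ c ∈ A, c * y' * c⁻¹ = a * (c * y * c⁻¹) * a⁻¹ := by
    intro c hc
    have h1 := hcomA c hc
    have h2 : c⁻¹ * a = a * c⁻¹ := by
      calc c⁻¹ * a = c⁻¹ * (a * c) * c⁻¹ := by group
        _ = c⁻¹ * (c * a) * c⁻¹ := by rw [h1]
        _ = a * c⁻¹ := by group
    calc c * y' * c⁻¹ = (c * a) * y * (a⁻¹ * c⁻¹) := by rw [hy']; group
      _ = (a * c) * y * (c * a)⁻¹ := by rw [h1]; group
      _ = (a * c) * y * (a * c)⁻¹ := by rw [h1]
      _ = a * (c * y * c⁻¹) * a⁻¹ := by group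
  have hxy : ∀ x ∈ U, x * y = y * x := fun x hx => h.ecomm (h.UE hx) hyE
  have hxy' : ∀ x ∈ U, x * y' = y' * x := fun x hx => h.ecomm (h.UE hx) hy'E
  have hqu : ∀ e ∈ Q, e * u * e⁻¹ = u := fun e he => by rw [h.QU e he u huU]; group
  by_cases hcase : ∀ e ∈ E₀, e * y = y * e
  · -- `y ∈ E₀`
    have h1 : zpowers y ≤ E₀ := by
      refine hMx.le_of_comm (zpowers_le.2 (h.EO hyE)) ?_ ?_
      · rintro _ ⟨k, rfl⟩
        change (y ^ k) ^ 2 = 1
        rw [← zpow_natCast, ← zpow_mul, mul_comm, zpow_mul, zpow_natCast, h.Esq y hyE, one_zpow]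
      · rw [zpowers_le, mem_centralizer_iff]
        exact fun e he => hcase e he
    obtain ⟨c, hc, w, hw, hcw⟩ := hdec y (h1 (mem_zpowers y))
    have h2 : y' = y * (w⁻¹ * (a * w * a⁻¹)) := by
      rw [hy', hcw]
      calc a * (c * w) * a⁻¹ = (a * c) * w * a⁻¹ := by group
        _ = (c * a) * w * a⁻¹ := by rw [hcomA c hc.1]
        _ = c * w * (w⁻¹ * (a * w * a⁻¹)) := by group
    have hd : w⁻¹ * (a * w * a⁻¹) ∈ U := mul_mem (inv_mem hw) ((mem_normalizer_iff.1 (h.RU haR) _).1 hw)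
    have h3 : g * y' * g⁻¹ = (g * y * g⁻¹) * (w⁻¹ * (a * w * a⁻¹)) := by
      have h4 := h.QU g hg _ hd
      rw [h2]
      calc g * (y * (w⁻¹ * (a * w * a⁻¹))) * g⁻¹ = (g * y * g⁻¹) * (g * (w⁻¹ * (a * w * a⁻¹))) * g⁻¹ := by group
        _ = (g * y * g⁻¹) * ((w⁻¹ * (a * w * a⁻¹)) * g) * g⁻¹ := by rw [h4]
        _ = _ := by group
    rcases h.bw BW hr hg hx with h5 | h5
    · exact h5
    exfalso
    rw [← hy, ← hu] at h5
    have h6 : g * y' * g⁻¹ = u * y' := by rw [h3, h5, mul_assoc, ← h2]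
    have h7 := h.bw BW (mul_mem haR hr) hg hx
    have e1 : a * r * x * (a * r)⁻¹ = y' := by rw [hy', hy]; group
    have e2 : a * r * z * (a * r)⁻¹ = u' := by rw [hu', hu]; group
    rw [e1, e2] at h7
    rcases h7 with h7 | h7
    · exact hu1 (mul_right_cancel ((h6.symm.trans h7).trans (one_mul y').symm))
    · exact hne (mul_right_cancel (h6.symm.trans h7)).symm
  · exfalso
    push Not at hcase
    obtain ⟨e, he, hey⟩ := hcase
    obtain ⟨c₀, hc₀, x₀, hx₀, hecx⟩ := hdec e he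
    have hE₀y : ∀ b ∈ E₀, b * y ≠ y * b → b * y * b⁻¹ = u * y := by
      intro b hb hby
      rcases h.bw BW hr (hEQ hb) hx with h5 | h5
      · exact absurd (mul_inv_eq_iff_eq_mul.1 h5) hby
      · exact h5
    -- `C`
    set C := E₀ ⊓ centralizer ({y} : Set G) with hC
    have hrel : (centralizer ({y} : Set G)).relIndex E₀ = 2 := by
      rw [relIndex_eq_two_iff]
      refine ⟨e, he, fun b hb => ?_⟩
      simp only [mem_centralizer_singleton_iff]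
      by_cases hby : b * y = y * b
      · refine Or.inr ⟨hby, fun hbe => hey ?_⟩
        have h1 : b * (e * y) = b * (y * e) := by
          calc b * (e * y) = b * e * y := by group
            _ = y * (b * e) := hbe
            _ = (y * b) * e := by group
            _ = b * (y * e) := by rw [← hby]; group
        exact mul_left_cancel h1
      · refine Or.inl ⟨?_, hby⟩
        have h1 := hE₀y b hb hby
        have h2 := hE₀y e he hey
        have h3 : (b * e) * y * (b * e)⁻¹ = y := by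
          calc (b * e) * y * (b * e)⁻¹ = b * (e * y * e⁻¹) * b⁻¹ := by group
            _ = b * (u * y) * b⁻¹ := by rw [h2]
            _ = (b * u * b⁻¹) * (b * y * b⁻¹) := by group
            _ = u * (u * y) := by rw [hqu b (hEQ hb), h1]
            _ = y := by rw [← mul_assoc, huu, one_mul]
        exact mul_inv_eq_iff_eq_mul.1 h3
    have hcardE : Nat.card E₀ = Nat.card C * 2 := by
      rw [← hrel]; exact Cfsg.Agent.Omega.TC.LemZ.card_eq E₀ (centralizer ({y} : Set G))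
    have hyE₀ : y ∉ E₀ := fun h1 => hey (by
      have := mem_centralizer_iff.1 (hMx.comm he) y h1
      exact this.symm)
    have hCy : ∀ c ∈ C, c * y = y * c := fun c hc => mem_centralizer_singleton_iff.1 hc.2
    have hCy' : ∀ c ∈ C, c * y' = y' * c := by
      intro c hc
      obtain ⟨c₁, hc₁, x₁, hx₁, rfl⟩ := hdec c hc.1
      have h1 := hCy _ hc
      have h2 : c₁ * y = y * c₁ := by
        have h3 : c₁ * y * x₁ = y * c₁ * x₁ := by
          calc c₁ * y * x₁ = c₁ * (x₁ * y) := by rw [hxy x₁ hx₁]; group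
            _ = (c₁ * x₁) * y := by group
            _ = y * (c₁ * x₁) := h1
            _ = y * c₁ * x₁ := by group
        exact mul_right_cancel h3
      have h4 : c₁ * y' * c₁⁻¹ = y' := by
        rw [hact c₁ hc₁.1, h2, mul_inv_cancel_right]
      have h5 : c₁ * y' = y' * c₁ := mul_inv_eq_iff_eq_mul.1 h4
      calc c₁ * x₁ * y' = c₁ * (x₁ * y') := by group
        _ = c₁ * y' * x₁ := by rw [hxy' x₁ hx₁]; group
        _ = y' * (c₁ * x₁) := by rw [h5]; group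
    -- `M = C ⟨y⟩`
    have hysq : y * y = 1 := by rw [← pow_two]; exact h.Esq y hyE
    have hzp : ∀ w ∈ zpowers y, w = 1 ∨ w = y := by
      rintro _ ⟨k, rfl⟩
      change y ^ k = 1 ∨ y ^ k = y
      rcases Int.even_or_odd k with ⟨m, hm⟩ | ⟨m, hm⟩
      · left; rw [hm, ← two_mul, zpow_mul, zpow_ofNat, h.Esq y hyE, one_zpow]
      · right; rw [hm, zpow_add, zpow_mul, zpow_ofNat, h.Esq y hyE, one_zpow, one_mul, zpow_one]
    have hMdec : ∀ w ∈ C ⊔ zpowers y, ∃ c ∈ C, w = c ∨ w = c * y := by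
      intro w hw
      have hCn : zpowers y ≤ normalizer (C : Set G) := by
        refine le_trans ?_ (centralizer_le_normalizer _)
        rw [zpowers_le, mem_centralizer_iff]
        exact fun c hc => hCy c hc
      obtain ⟨c, hc, v, hv, e0⟩ := Cfsg.Agent.Omega.OM.KTwo.exists_mul_of_mem_sup hCn hw
      rw [e0]
      refine ⟨c, hc, ?_⟩
      rcases hzp v hv with e | e
      · left; rw [e, mul_one]
      · right; rw [e]
    have hCsq : ∀ c ∈ C, c ^ 2 = 1 := fun c hc => hMx.sq c hc.1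
    have hMsq : ∀ w ∈ C ⊔ zpowers y, w ^ 2 = 1 := by
      intro w hw
      obtain ⟨c, hc, e | e⟩ := hMdec w hw
      · rw [e]; exact hCsq c hc
      · have h1 := hCsq c hc
        rw [pow_two] at h1
        rw [e, pow_two]
        calc c * y * (c * y) = c * (y * c) * y := by group
          _ = c * (c * y) * y := by rw [hCy c hc]
          _ = (c * c) * (y * y) := by group
          _ = 1 := by rw [h1, hysq, one_mul]
    have hMO : C ⊔ zpowers y ≤ O := sup_le (inf_le_left.trans hMx.le) (zpowers_le.2 (h.EO hyE))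
    have hyC : y ∉ C := fun h1 => hyE₀ h1.1
    have hMx' : Mx O (C ⊔ zpowers y) := by
      refine hMx.of_card hMO hMsq ?_
      rw [hcardE]
      have hlt : C < C ⊔ zpowers y := by
        refine lt_of_le_of_ne le_sup_left fun e1 => hyC ?_
        rw [e1]; exact mem_sup_right (mem_zpowers y)
      obtain ⟨k, hk⟩ := Subgroup.card_dvd_of_le hlt.le
      have hp : 0 < Nat.card C := Nat.card_pos
      have hp' : 0 < Nat.card (C ⊔ zpowers y : Subgroup G) := Nat.card_pos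
      have hk2 : 2 ≤ k := by
        rcases k with _ | _ | k
        · rw [hk] at hp'; simp at hp'
        · exfalso
          refine hlt.ne (Subgroup.eq_of_le_of_card_ge hlt.le ?_)
          rw [hk]; simp
        · omega
      rw [hk]
      exact Nat.mul_le_mul_left _ hk2
    have hy'M : y' ∈ C ⊔ zpowers y := by
      have h1 : zpowers y' ≤ C ⊔ zpowers y := by
        refine hMx'.le_of_comm (zpowers_le.2 (h.EO hy'E)) ?_ ?_
        · rintro _ ⟨k, rfl⟩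
          change (y' ^ k) ^ 2 = 1
          rw [← zpow_natCast, ← zpow_mul, mul_comm, zpow_mul, zpow_natCast, h.Esq y' hy'E, one_zpow]
        · rw [zpowers_le, mem_centralizer_iff]
          intro w hw
          obtain ⟨c, hc, e1 | e1⟩ := hMdec w hw
          · rw [e1]; exact hCy' c hc
          · rw [e1]
            calc c * y * y' = c * (y' * y) := by rw [mul_assoc, h.ecomm hyE hy'E]
              _ = (c * y') * y := by group
              _ = y' * (c * y) := by rw [hCy' c hc]; group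
      exact h1 (mem_zpowers y')
    -- the action of `e` on `y'`
    have hey' : e * y' * e⁻¹ = u' * y' := by
      have hc₀y : c₀ * y * c₀⁻¹ = u * y := by
        have h1 := hE₀y e he hey
        rw [hecx] at h1
        calc c₀ * y * c₀⁻¹ = c₀ * (x₀ * y * x₀⁻¹) * c₀⁻¹ := by rw [hxy x₀ hx₀]; group
          _ = c₀ * x₀ * y * (c₀ * x₀)⁻¹ := by group
          _ = u * y := h1
      calc e * y' * e⁻¹ = c₀ * (x₀ * y' * x₀⁻¹) * c₀⁻¹ := by rw [hecx]; group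
        _ = c₀ * y' * c₀⁻¹ := by rw [hxy' x₀ hx₀]; group
        _ = a * (u * y) * a⁻¹ := by rw [hact c₀ hc₀.1, hc₀y]
        _ = u' * y' := by rw [hu', hy']; group
    have hec : ∀ c ∈ C, e * c * e⁻¹ = c := by
      intro c hc
      have := mem_centralizer_iff.1 (hMx.comm he) c hc.1
      rw [← this]; group
    obtain ⟨c, hc, e1 | e1⟩ := hMdec y' hy'M
    · rw [e1, hec c hc] at hey'
      exact hu'1 (mul_right_cancel (hey'.symm.trans (one_mul c).symm))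
    · have h1 : e * y' * e⁻¹ = u * y' := by
        rw [e1]
        calc e * (c * y) * e⁻¹ = (e * c * e⁻¹) * (e * y * e⁻¹) := by group
          _ = c * (u * y) := by rw [hec c hc, hE₀y e he hey]
          _ = (c * u) * y := by group
          _ = (u * c) * y := by rw [h.QU c (hEQ hc.1) u huU]
          _ = u * (c * y) := by group
      exact hne (mul_right_cancel (h1.symm.trans hey')).symm

/-- **exchange**: `Q` centralises `V` -/
theorem exch' (hV : V ≤ E) (hzU : z ∈ U) (hz1 : z ≠ 1)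
    (BW : ∀ g ∈ Q, ∀ x ∈ V, g * x * g⁻¹ = x ∨ g * x * g⁻¹ = z * x) (hA : Mx O A)
    (hex : (centralizer (U : Set G)).relIndex A ≤ (centralizer (A : Set G)).relIndex U) {r a : G} (hr : r ∈ R)
    (ha : a ∈ A) (hne : a * (r * z * r⁻¹) * a⁻¹ ≠ r * z * r⁻¹) : ∀ g ∈ Q, ∀ x ∈ V, g * x = x * g := by
  intro g hg x hx
  have h1 := h.exch hV hzU hz1 BW hA hex hr ha hne _ ((mem_normalizer_iff.1 (h.nQ hr) g).1 hg) x hx
  have h2 : r * (g * x * g⁻¹) * r⁻¹ = r * x * r⁻¹ := by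
    calc r * (g * x * g⁻¹) * r⁻¹ = r * g * r⁻¹ * (r * x * r⁻¹) * (r * g * r⁻¹)⁻¹ := by group
      _ = r * x * r⁻¹ := h1
  have h3 : g * x * g⁻¹ = x := mul_left_cancel (mul_right_cancel h2)
  exact mul_inv_eq_iff_eq_mul.1 h3

end Ex

end Cfsg.Agent.Omega.EDel.AOF

end

section


/-!
# LEMMA ZJ+, step (2) (helper285 #25856 (1), (2); helper271 #26119 (2); literal of #26356)

`E` elementary abelian (`E = Ω₁Z(J(Q_b))`), `A` of maximal order in `O`, `E ≤ N C_E(A)`, `t ∈ A` moves `e ∈ N` to `e z`;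
`X` central. `y ∈ E` with `[Q, y] ⊆ X ∪ eX`. Then `[Q, y] ⊆ X`.

* `cnt` : the count `|F| |C_E(F)| ≤ |F C_E(F)| |C_E(A)|` for `F ≤ A`;
* **`step2`**.
-/

set_option autoImplicit false
set_option linter.unusedVariables false

namespace Cfsg.Agent.Omega.EDel.LamZJ

open Subgroup
open Cfsg.Agent.Omega.KL.TwoS (Mx comm_of_sq sq_sup)
open Cfsg.Agent.Omega.NoFF.ThmJFam (card_sup_inf)
open Cfsg.Agent.Omega.NoFF.Basic (comm_symm)
open Cfsg.Agent.Omega.OM.KTwo (exists_mul_of_mem_sup)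

universe u

variable {G : Type u} [Group G] [Finite G]

/-- the count -/
theorem cnt {O A E F : Subgroup G} (hA : Mx O A) (FA : F ≤ A) :
    Nat.card F * Nat.card (E ⊓ centralizer (F : Set G) : Subgroup G) ≤
      Nat.card (F ⊔ E ⊓ centralizer (F : Set G) : Subgroup G) *
        Nat.card (E ⊓ centralizer (A : Set G) : Subgroup G) := by
  have h1 := card_sup_inf (A := F) (B := E ⊓ centralizer (F : Set G)) (comm_symm inf_le_right)
  have h2 : F ⊓ (E ⊓ centralizer (F : Set G)) ≤ E ⊓ centralizer (A : Set G) :=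
    le_inf (inf_le_right.trans inf_le_left) (inf_le_left.trans (FA.trans hA.comm))
  have h3 := Subgroup.card_le_of_le h2
  calc _ = _ := h1.symm
    _ ≤ _ := Nat.mul_le_mul_left _ h3

/-- a proper subgroup has index at least 2 -/
theorem two_mul_le {H K : Subgroup G} (h : H ≤ K) {x : G} (hx : x ∈ K) (hx' : x ∉ H) :
    2 * Nat.card H ≤ Nat.card K := by
  obtain ⟨m, hm⟩ := Subgroup.card_dvd_of_le h
  have hK : 0 < Nat.card K := Nat.card_pos
  have h1 : m ≠ 0 := by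
    rintro rfl
    omega
  have h2 : m ≠ 1 := by
    rintro rfl
    rw [mul_one] at hm
    exact hx' ((Subgroup.eq_of_le_of_card_ge h hm.le).ge hx)
  rw [hm, mul_comm 2]
  exact Nat.mul_le_mul_left _ (by omega)

/-- in index 2 the product of two elements outside lies inside -/
theorem mul_inv_mem_of {H K : Subgroup G} (h : H ≤ K) (hc : Nat.card K ≤ 2 * Nat.card H) {x y : G} (hx : x ∈ K)
    (hx' : x ∉ H) (hy : y ∈ K) (hy' : y ∉ H) : y * x⁻¹ ∈ H := by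
  have h1 : H.relIndex K ≤ 2 := by
    have h2 := Subgroup.card_mul_index (H.subgroupOf K)
    have h3 : Nat.card (H.subgroupOf K) = Nat.card H :=
      Nat.card_congr (Subgroup.subgroupOfEquivOfLe h).toEquiv
    rw [h3] at h2
    have hH : 0 < Nat.card H := Nat.card_pos
    change (H.subgroupOf K).index ≤ 2
    by_contra h4
    push Not at h4
    have h5 : Nat.card H * 3 ≤ Nat.card H * (H.subgroupOf K).index := Nat.mul_le_mul_left _ h4
    rw [h2] at h5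
    omega
  have h2 : (H.subgroupOf K).index = 2 := by
    have h3 : (H.subgroupOf K).index ≠ 0 := Subgroup.index_ne_zero_of_finite
    have h4 : (H.subgroupOf K).index ≠ 1 := by
      intro h5
      rw [Subgroup.index_eq_one] at h5
      apply hx'
      have h6 : (⟨x, hx⟩ : K) ∈ H.subgroupOf K := h5 ▸ mem_top _
      exact mem_subgroupOf.1 h6
    have h5 : (H.subgroupOf K).index ≤ 2 := h1
    omega
  have h3 := (Subgroup.mul_mem_iff_of_index_two h2 (a := (⟨y, hy⟩ : K)) (b := (⟨x, hx⟩ : K)⁻¹)).2 (by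
    rw [inv_mem_iff]
    simp only [mem_subgroupOf]
    exact ⟨fun h => absurd h hy', fun h => absurd h hx'⟩)
  exact mem_subgroupOf.1 h3

/-- `K = H ∪ t⁻¹ H` -/
theorem card_le_of {H K : Subgroup G} {t : G} (h : ∀ x ∈ K, x ∈ H ∨ t * x ∈ H) : Nat.card K ≤ 2 * Nat.card H := by
  classical
  let f : K → H ⊕ H := fun x =>
    if hx : (x : G) ∈ H then Sum.inl ⟨x, hx⟩ else Sum.inr ⟨t * x, (h x x.2).resolve_left hx⟩
  have hf : Function.Injective f := by
    intro x y hxy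
    by_cases hx : (x : G) ∈ H <;> by_cases hy : (y : G) ∈ H <;> simp only [f, hx, hy, dif_pos, dif_neg,
      not_false_eq_true, Sum.inl.injEq, Sum.inr.injEq, reduceCtorEq, Subtype.mk.injEq] at hxy
    · exact Subtype.ext hxy
    · exact Subtype.ext (mul_left_cancel hxy)
  have h1 := Nat.card_le_card_of_injective f hf
  rw [Nat.card_sum] at h1
  omega

/-- **Step (2) of LEMMA ZJ+.** -/
theorem step2 {O E N X Q A : Subgroup G} {t z e y : G} (hA : Mx O A) (EO : E ≤ O) (Esq : ∀ x ∈ E, x ^ 2 = 1)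
    (NE : N ≤ E) (EN : E ≤ N ⊔ (E ⊓ centralizer (A : Set G))) (AE : A ≤ normalizer (E : Set G)) (ht : t ∈ A)
    (he : e ∈ N) (hz : z ∈ E) (hte : t * e * t⁻¹ = e * z) (htz : t * z = z * t) (zQ : ∀ g ∈ Q, g * z = z * g)
    (zX : z ∉ X) (XA : ∀ x ∈ X, ∀ a ∈ A, a * x = x * a) (XE : X ≤ E)
    (Ae : ∀ a ∈ A, a * e = e * a ∨ a * e * a⁻¹ = e * z) (AQ : ∀ a ∈ A, a * e = e * a → a ∈ Q)
    (tQ : t ∈ normalizer (Q : Set G))
    (k3 : ∀ A' : Subgroup G, Mx O A' → ∀ w ∈ N, (∀ a ∈ A', a * w * a⁻¹ * w⁻¹ ∈ X) → ∀ a ∈ A', a * w = w * a)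
    (hy : y ∈ E) (hyQ : ∀ g ∈ Q, g * y * g⁻¹ * y⁻¹ ∈ X ∨ ∃ x ∈ X, g * y * g⁻¹ * y⁻¹ = e * x) :
    ∀ g ∈ Q, g * y * g⁻¹ * y⁻¹ ∈ X := by
  have hEc : ∀ a ∈ E, ∀ b ∈ E, a * b = b * a := fun a ha b hb =>
    (mem_centralizer_iff.1 (comm_of_sq Esq ha) b hb).symm
  have hAc : ∀ a ∈ A, ∀ b ∈ A, a * b = b * a := fun a ha b hb => (mem_centralizer_iff.1 (hA.comm ha) b hb).symm
  have heE : e ∈ E := NE he
  have hinv : ∀ a ∈ E, a⁻¹ = a := fun a ha => inv_eq_of_mul_eq_one_right (by rw [← pow_two]; exact Esq a ha)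
  have sqE : ∀ a ∈ E, a * a = 1 := fun a ha => by rw [← pow_two]; exact Esq a ha
  have conjE : ∀ a ∈ A, ∀ x ∈ E, a * x * a⁻¹ ∈ E := fun a ha x hx => (mem_normalizer_iff.1 (AE ha) x).1 hx
  -- `A₀ = C_A(e)`, index 2
  set A0 : Subgroup G := A ⊓ centralizer ({e} : Set G) with hA0
  have mem0 : ∀ {a : G}, a ∈ A0 ↔ a ∈ A ∧ a * e = e * a := by
    intro a
    rw [hA0, mem_inf, mem_centralizer_singleton_iff]
  have z1 : z ≠ 1 := fun h => zX (h ▸ one_mem _)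
  have hte' : ¬ t * e = e * t := by
    intro h1
    rw [h1, mul_inv_cancel_right] at hte
    exact z1 (mul_left_cancel (a := e) (by rw [mul_one, ← hte]))
  have hA0card : Nat.card A ≤ 2 * Nat.card A0 := by
    refine card_le_of (t := t) fun x hx => ?_
    rcases Ae x hx with h1 | h1
    · exact Or.inl (mem0.2 ⟨hx, h1⟩)
    · right
      refine mem0.2 ⟨mul_mem ht hx, ?_⟩
      have h2 : t * x * e * (t * x)⁻¹ = e := by
        calc t * x * e * (t * x)⁻¹ = t * (x * e * x⁻¹) * t⁻¹ := by group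
          _ = t * (e * z) * t⁻¹ := by rw [h1]
          _ = (t * e * t⁻¹) * (t * z * t⁻¹) := by group
          _ = e * z * z := by rw [hte, htz, mul_inv_cancel_right]
          _ = e := by rw [mul_assoc, sqE z hz, mul_one]
      calc t * x * e = t * x * e * (t * x)⁻¹ * (t * x) := by group
        _ = e * (t * x) := by rw [h2]
  -- the group `H = C_E(A)` and the decomposition `y = w c`
  set H : Subgroup G := E ⊓ centralizer (A : Set G) with hH
  have memH : ∀ {x : G}, x ∈ H ↔ x ∈ E ∧ ∀ a ∈ A, a * x = x * a := by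
    intro x
    rw [hH, mem_inf, mem_centralizer_iff]
    exact Iff.rfl
  have eH : e ∉ H := fun h => hte' ((memH.1 h).2 t ht)
  obtain ⟨w, hw, c, hc, rfl⟩ := exists_mul_of_mem_sup (F := N) (N := H)
    (((inf_le_left.trans (comm_of_sq Esq)).trans (centralizer_le NE)).trans (centralizer_le_normalizer _)) (EN hy)
  have hwE : w ∈ E := NE hw
  have hcE : c ∈ E := (memH.1 hc).1
  have hcA := (memH.1 hc).2
  -- `k3` for `F C_E(F)`
  have use : ∀ F : Subgroup G, F ≤ A → (∀ f ∈ F, f * (w * c) * f⁻¹ * (w * c)⁻¹ ∈ X) →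
      Mx O (F ⊔ E ⊓ centralizer (F : Set G)) → w * c ∈ E ⊓ centralizer (F : Set G) := by
    intro F FA hF hMx
    refine mem_inf.2 ⟨hy, ?_⟩
    have h1 : ∀ a ∈ F ⊔ E ⊓ centralizer (F : Set G), a * w * a⁻¹ * w⁻¹ ∈ X := by
      intro a ha
      obtain ⟨f, hf, d, hd, rfl⟩ := exists_mul_of_mem_sup (F := F) (N := E ⊓ centralizer (F : Set G))
        (inf_le_right.trans (centralizer_le_normalizer _)) ha
      have e1 : f * d * w * (f * d)⁻¹ * w⁻¹ = f * (w * c) * f⁻¹ * (w * c)⁻¹ := by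
        have e2 : d * w * d⁻¹ = w := by rw [hEc d hd.1 w hwE, mul_inv_cancel_right]
        have e3 : f * c * f⁻¹ = c := by rw [hcA f (FA hf), mul_inv_cancel_right]
        calc f * d * w * (f * d)⁻¹ * w⁻¹ = f * (d * w * d⁻¹) * f⁻¹ * w⁻¹ := by group
          _ = f * w * f⁻¹ * w⁻¹ := by rw [e2]
          _ = f * w * f⁻¹ * (c * c⁻¹) * w⁻¹ := by group
          _ = f * w * f⁻¹ * ((f * c * f⁻¹) * c⁻¹) * w⁻¹ := by rw [e3]
          _ = f * (w * c) * f⁻¹ * (w * c)⁻¹ := by group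
      rw [e1]
      exact hF f hf
    have h2 := k3 _ hMx w hw h1
    rw [mem_centralizer_iff]
    intro f hf
    have h3 := h2 f (mem_sup_left hf)
    calc f * (w * c) = f * w * c := by group
      _ = w * (f * c) := by rw [h3]; group
      _ = w * c * f := by rw [hcA f (FA hf)]; group
  set y : G := w * c with hydef
  have kE : ∀ a ∈ A, a * y * a⁻¹ * y⁻¹ ∈ E := fun a ha => mul_mem (conjE a ha y hy) (inv_mem hy)
  -- the product formula
  have hprod : ∀ a ∈ A, ∀ b ∈ A, a * b * y * (a * b)⁻¹ * y⁻¹ = a * (b * y * b⁻¹ * y⁻¹) * a⁻¹ * (a * y * a⁻¹ * y⁻¹) := by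
    intro a _ b _
    group
  by_cases hb : ∀ x ∈ A0, x * y * x⁻¹ * y⁻¹ ∈ X
  · -- β = 0
    have cF := cnt (E := E) hA (inf_le_left : A0 ≤ A)
    rw [← hH] at cF
    set L : Subgroup G := E ⊓ centralizer (A0 : Set G) with hL
    have HL : H ≤ L := le_inf inf_le_left (inf_le_right.trans (centralizer_le inf_le_left))
    have eL : e ∈ L := ⟨heE, mem_centralizer_iff.2 fun a ha => (mem0.1 ha).2⟩
    have h1 := two_mul_le HL eL eH
    have pH : 0 < Nat.card H := Nat.card_pos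
    have hle : A0 ⊔ L ≤ O := sup_le (inf_le_left.trans hA.le) (inf_le_left.trans EO)
    have hsq : ∀ a ∈ A0 ⊔ L, a ^ 2 = 1 :=
      sq_sup (fun a ha => hA.sq a ha.1) (fun a ha => Esq a ha.1) (comm_symm inf_le_right)
    have hmax := hA.max _ hle hsq
    have hMx : Mx O (A0 ⊔ L) := by
      refine hA.of_card hle hsq ?_
      apply Nat.le_of_mul_le_mul_right _ pH
      calc Nat.card A * Nat.card H ≤ 2 * Nat.card A0 * Nat.card H := Nat.mul_le_mul_right _ hA0card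
        _ = Nat.card A0 * (2 * Nat.card H) := by ring
        _ ≤ Nat.card A0 * Nat.card L := Nat.mul_le_mul_left _ h1
        _ ≤ _ := cF
    have hLcard : Nat.card L ≤ 2 * Nat.card H := by
      have p0 : 0 < Nat.card A0 := Nat.card_pos
      apply Nat.le_of_mul_le_mul_left _ p0
      calc Nat.card A0 * Nat.card L ≤ Nat.card (A0 ⊔ L : Subgroup G) * Nat.card H := cF
        _ ≤ Nat.card A * Nat.card H := Nat.mul_le_mul_right _ hmax
        _ ≤ 2 * Nat.card A0 * Nat.card H := Nat.mul_le_mul_right _ hA0card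
        _ = _ := by ring
    have hyL : y ∈ L := use A0 inf_le_left hb hMx
    -- `t y t⁻¹ ∈ {y, y z}`
    have hty : ∀ g ∈ Q, g * (t * y * t⁻¹) * g⁻¹ * (t * y * t⁻¹)⁻¹ = g * y * g⁻¹ * y⁻¹ := by
      intro g hg
      by_cases hyH : y ∈ H
      · have h2 : t * y * t⁻¹ = y := by rw [(memH.1 hyH).2 t ht, mul_inv_cancel_right]
        rw [h2]
      · have h2 := mul_inv_mem_of HL hLcard eL eH hyL hyH
        have h3 := (memH.1 h2).2 t ht
        have h4 : t * y * t⁻¹ = y * z := by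
          calc t * y * t⁻¹ = t * (y * e⁻¹) * t⁻¹ * (t * e * t⁻¹) := by group
            _ = y * e⁻¹ * (e * z) := by rw [h3, mul_inv_cancel_right, hte]
            _ = y * z := by group
        have h5 : g * z * g⁻¹ = z := by rw [zQ g hg, mul_inv_cancel_right]
        rw [h4]
        calc g * (y * z) * g⁻¹ * (y * z)⁻¹ = g * y * g⁻¹ * (g * z * g⁻¹) * z⁻¹ * y⁻¹ := by group
          _ = g * y * g⁻¹ * y⁻¹ := by rw [h5, mul_inv_cancel_right]
    intro g hg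
    have hg' : t⁻¹ * g * t ∈ Q := by
      have h2 := (mem_normalizer_iff.1 (inv_mem tQ) g).1 hg
      rwa [inv_inv] at h2
    have e1 : t * (t⁻¹ * g * t * y * (t⁻¹ * g * t)⁻¹ * y⁻¹) * t⁻¹ = g * y * g⁻¹ * y⁻¹ := by
      rw [← hty g hg]
      group
    have hXt : ∀ x ∈ X, t * x * t⁻¹ = x := fun x hx => by rw [XA x hx t ht, mul_inv_cancel_right]
    rcases hyQ _ hg' with h2 | ⟨x', hx', h2⟩
    · rw [← e1, hXt _ h2]
      exact h2
    · rcases hyQ g hg with h3 | ⟨x, hx, h3⟩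
      · exact h3
      · exfalso
        rw [h2, h3] at e1
        have h4 : t * (e * x') * t⁻¹ = e * z * x' := by
          calc t * (e * x') * t⁻¹ = (t * e * t⁻¹) * (t * x' * t⁻¹) := by group
            _ = e * z * x' := by rw [hte, hXt x' hx']
        rw [h4, mul_assoc] at e1
        have h5 : z * x' = x := mul_left_cancel e1
        apply zX
        have h6 : z = x * x'⁻¹ := by rw [← h5]; group
        rw [h6]
        exact mul_mem hx (inv_mem hx')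
  · -- β ≠ 0
    exfalso
    push Not at hb
    obtain ⟨x0, hx0, hx0'⟩ := hb
    have hx0A := (mem0.1 hx0).1
    have k0 : ∀ {x : G}, x ∈ A0 → x * y * x⁻¹ * y⁻¹ ∉ X → ∃ ξ ∈ X, x * y * x⁻¹ * y⁻¹ = e * ξ := by
      intro x hx hxX
      rcases hyQ x (AQ x (mem0.1 hx).1 (mem0.1 hx).2) with h | ⟨ξ, hξ, h⟩
      · exact absurd h hxX
      · exact ⟨ξ, hξ, h⟩
    obtain ⟨ξ0, hξ0, hk0⟩ := k0 hx0 hx0'
    -- `F = ker β`
    let F : Subgroup G :=
      { carrier := {x | x ∈ A0 ∧ x * y * x⁻¹ * y⁻¹ ∈ X}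
        one_mem' := ⟨one_mem _, by simp⟩
        mul_mem' := by
          rintro a b ⟨ha, ha'⟩ ⟨hb, hb'⟩
          refine ⟨mul_mem ha hb, ?_⟩
          rw [hprod a (mem0.1 ha).1 b (mem0.1 hb).1]
          refine mul_mem ?_ ha'
          rw [XA _ hb' a (mem0.1 ha).1, mul_inv_cancel_right]
          exact hb'
        inv_mem' := by
          rintro a ⟨ha, ha'⟩
          have h2 : a⁻¹ = a := inv_eq_of_mul_eq_one_right (by rw [← pow_two]; exact hA.sq a (mem0.1 ha).1)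
          rw [h2]
          exact ⟨ha, ha'⟩ }
    have memF : ∀ {x : G}, x ∈ F ↔ x ∈ A0 ∧ x * y * x⁻¹ * y⁻¹ ∈ X := Iff.rfl
    have FA0 : F ≤ A0 := fun x hx => (memF.1 hx).1
    have FA : F ≤ A := FA0.trans inf_le_left
    have ce : ∀ x ∈ A0, x * e * x⁻¹ = e := fun x hx => by rw [(mem0.1 hx).2, mul_inv_cancel_right]
    have hFcard : Nat.card A0 ≤ 2 * Nat.card F := by
      refine card_le_of (t := x0) fun x hx => ?_
      by_cases h1 : x * y * x⁻¹ * y⁻¹ ∈ X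
      · exact Or.inl (memF.2 ⟨hx, h1⟩)
      · right
        obtain ⟨ξ, hξ, hk⟩ := k0 hx h1
        refine memF.2 ⟨mul_mem hx0 hx, ?_⟩
        rw [hprod x0 hx0A x (mem0.1 hx).1, hk, hk0]
        have h2 : x0 * (e * ξ) * x0⁻¹ = e * ξ := by
          have h3 : x0 * ξ * x0⁻¹ = ξ := by rw [XA ξ hξ x0 hx0A, mul_inv_cancel_right]
          calc x0 * (e * ξ) * x0⁻¹ = (x0 * e * x0⁻¹) * (x0 * ξ * x0⁻¹) := by group
            _ = e * ξ := by rw [ce x0 hx0, h3]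
        rw [h2]
        have h4 : e * ξ * (e * ξ0) = ξ * ξ0 := by
          calc e * ξ * (e * ξ0) = (e * ξ) * e * ξ0 := by group
            _ = (ξ * e) * e * ξ0 := by rw [hEc e heE ξ (XE hξ)]
            _ = ξ * (e * e) * ξ0 := by group
            _ = ξ * ξ0 := by rw [sqE e heE, mul_one]
        rw [h4]
        exact mul_mem hξ hξ0
    have cF := cnt (E := E) hA FA
    rw [← hH] at cF
    set L1 : Subgroup G := E ⊓ centralizer (A0 : Set G) with hL1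
    set L : Subgroup G := E ⊓ centralizer (F : Set G) with hL
    have HL1 : H ≤ L1 := le_inf inf_le_left (inf_le_right.trans (centralizer_le inf_le_left))
    have L1L : L1 ≤ L := le_inf inf_le_left (inf_le_right.trans (centralizer_le FA0))
    have eL1 : e ∈ L1 := ⟨heE, mem_centralizer_iff.2 fun a ha => (mem0.1 ha).2⟩
    -- `y_t = [t, y]`
    set yt : G := t * y * t⁻¹ * y⁻¹ with hyt
    have ytE : yt ∈ E := kE t ht
    have comt : ∀ x ∈ A, x * yt * x⁻¹ = t * (x * y * x⁻¹ * y⁻¹) * t⁻¹ * (x * y * x⁻¹ * y⁻¹)⁻¹ * yt := by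
      intro x hx
      have h1 : x * t = t * x := hAc x hx t ht
      have h2 : x * (t * y * t⁻¹) * x⁻¹ = t * (x * y * x⁻¹) * t⁻¹ := by
        calc x * (t * y * t⁻¹) * x⁻¹ = (x * t) * y * (x * t)⁻¹ := by group
          _ = t * (x * y * x⁻¹) * t⁻¹ := by rw [h1]; group
      set k : G := x * y * x⁻¹ * y⁻¹ with hk
      have h3 : x * y * x⁻¹ = k * y := by rw [hk]; group
      have h4 : x * yt * x⁻¹ = t * (x * y * x⁻¹) * t⁻¹ * (x * y * x⁻¹)⁻¹ := by
        rw [← h2, hyt]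
        group
      rw [h4, h3]
      have h5 : k⁻¹ * yt = yt * k⁻¹ := hEc _ (inv_mem (kE x hx)) _ ytE
      calc t * (k * y) * t⁻¹ * (k * y)⁻¹ = t * k * t⁻¹ * (t * y * t⁻¹ * y⁻¹) * k⁻¹ := by group
        _ = t * k * t⁻¹ * (yt * k⁻¹) := by rw [← hyt]; group
        _ = t * k * t⁻¹ * k⁻¹ * yt := by rw [← h5]; group
    have hXt : ∀ x ∈ X, t * x * t⁻¹ = x := fun x hx => by rw [XA x hx t ht, mul_inv_cancel_right]
    have ytL : yt ∈ L := by
      refine ⟨ytE, mem_centralizer_iff.2 fun x hx => ?_⟩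
      have h1 := comt x (FA hx)
      rw [hXt _ (memF.1 hx).2, mul_inv_cancel, one_mul] at h1
      calc x * yt = x * yt * x⁻¹ * x := by group
        _ = yt * x := by rw [h1]
    have hx0t : x0 * yt * x0⁻¹ = z * yt := by
      rw [comt x0 hx0A, hk0]
      congr 1
      calc t * (e * ξ0) * t⁻¹ * (e * ξ0)⁻¹ = (t * e * t⁻¹) * (t * ξ0 * t⁻¹) * ξ0⁻¹ * e⁻¹ := by group
        _ = e * z * e⁻¹ := by rw [hte, hXt ξ0 hξ0, mul_inv_cancel_right]
        _ = z := by rw [hEc e heE z hz, mul_inv_cancel_right]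
    have ytL1 : yt ∉ L1 := by
      intro h1
      have h2 : x0 * yt = yt * x0 := mem_centralizer_iff.1 h1.2 x0 hx0
      rw [h2, mul_inv_cancel_right] at hx0t
      exact z1 (mul_right_cancel (b := yt) (by rw [one_mul, ← hx0t]))
    have h1 := two_mul_le HL1 eL1 eH
    have h2 := two_mul_le L1L ytL ytL1
    have pH : 0 < Nat.card H := Nat.card_pos
    have pF : 0 < Nat.card F := Nat.card_pos
    have hle : F ⊔ L ≤ O := sup_le (FA.trans hA.le) (inf_le_left.trans EO)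
    have hsq : ∀ a ∈ F ⊔ L, a ^ 2 = 1 :=
      sq_sup (fun a ha => hA.sq a (FA ha)) (fun a ha => Esq a ha.1) (comm_symm inf_le_right)
    have hmax := hA.max _ hle hsq
    have hA4 : Nat.card A ≤ 4 * Nat.card F := by omega
    have hMx : Mx O (F ⊔ L) := by
      refine hA.of_card hle hsq ?_
      apply Nat.le_of_mul_le_mul_right _ pH
      calc Nat.card A * Nat.card H ≤ 4 * Nat.card F * Nat.card H := Nat.mul_le_mul_right _ hA4
        _ = Nat.card F * (4 * Nat.card H) := by ring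
        _ ≤ Nat.card F * Nat.card L := Nat.mul_le_mul_left _ (by omega)
        _ ≤ _ := cF
    have hLcard : Nat.card L ≤ 4 * Nat.card H := by
      apply Nat.le_of_mul_le_mul_left _ pF
      calc Nat.card F * Nat.card L ≤ Nat.card (F ⊔ L : Subgroup G) * Nat.card H := cF
        _ ≤ Nat.card A * Nat.card H := Nat.mul_le_mul_right _ hmax
        _ ≤ 4 * Nat.card F * Nat.card H := Nat.mul_le_mul_right _ hA4
        _ = _ := by ring
    have hyL : y ∈ L := use F FA (fun f hf => (memF.1 hf).2) hMx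
    have hyL1 : y ∉ L1 := by
      intro h3
      have h4 : x0 * y = y * x0 := mem_centralizer_iff.1 h3.2 x0 hx0
      apply hx0'
      rw [h4, mul_inv_cancel_right, mul_inv_cancel]
      exact one_mem _
    have h3 := mul_inv_mem_of L1L (by omega) ytL ytL1 hyL hyL1
    have h4 : x0 * (y * yt⁻¹) * x0⁻¹ = y * yt⁻¹ := by
      have h5 : x0 * (y * yt⁻¹) = (y * yt⁻¹) * x0 := mem_centralizer_iff.1 h3.2 x0 hx0
      rw [h5, mul_inv_cancel_right]
    have h5 : x0 * y * x0⁻¹ = e * ξ0 * y := by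
      rw [← hk0]
      group
    have h6 : x0 * (y * yt⁻¹) * x0⁻¹ = e * ξ0 * y * (z * yt)⁻¹ := by
      rw [← h5, ← hx0t]
      group
    rw [h6] at h4
    -- `e ξ0 = z`
    have h7 : e * ξ0 = z := by
      have h8 : e * ξ0 * y * (z * yt)⁻¹ = e * ξ0 * z⁻¹ * (y * yt⁻¹) := by
        have h9 : y * yt⁻¹ * z⁻¹ = z⁻¹ * (y * yt⁻¹) := hEc _ (mul_mem hy (inv_mem ytE)) _ (inv_mem hz)
        calc e * ξ0 * y * (z * yt)⁻¹ = e * ξ0 * (y * yt⁻¹ * z⁻¹) := by group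
          _ = e * ξ0 * z⁻¹ * (y * yt⁻¹) := by rw [h9]; group
      rw [h8] at h4
      have h9 : e * ξ0 * z⁻¹ = 1 := mul_right_cancel (b := y * yt⁻¹) (by rw [h4, one_mul])
      exact mul_inv_eq_one.1 h9
    have h8 : t * (e * ξ0) * t⁻¹ = e * z * ξ0 := by
      calc t * (e * ξ0) * t⁻¹ = (t * e * t⁻¹) * (t * ξ0 * t⁻¹) := by group
        _ = e * z * ξ0 := by rw [hte, hXt ξ0 hξ0]
    have h9 : t * z * t⁻¹ = z := by rw [htz, mul_inv_cancel_right]
    rw [h7, h9] at h8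
    -- `z = e z ξ0 = z (e ξ0) = z z = 1`
    have h10 : e * z * ξ0 = z * (e * ξ0) := by rw [hEc e heE z hz]; group
    rw [h10, h7, sqE z hz] at h8
    exact z1 h8

end Cfsg.Agent.Omega.EDel.LamZJ

end

end

-- merged: Cfsg.Agent.Mrg.Omega.OM.SwapV.Q.QF
section

section


/-!
# Uniqueness of the blocks over `B` for `q ≥ 8`, frame-free

* `QF S B V ZJ L W Z C q` : what is needed of a frame (any stage, any level `(K, X)`);
* `QF.cj_W` : `x ∈ N_G(B)`, `Z_i^x = Z_i`, `x` centralises `Z_J ∩ C i` : `x` normalises `W i` (`q > 2`);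
* `QF.V_eq` : an FF-block over `B` with `Z' = Z i`, `V' ≤ W i Z_J`, `Z_J ∩ C i ≤ C(L')` has `V' = W i` (`q > 2`);
* `QF.uniTwo8` : then `L' ≤ L i ⊔ C_G(W i ⊔ Z_J)` (`q ≥ 8`).
-/

set_option autoImplicit false
set_option linter.unusedSectionVars false

namespace Cfsg.Agent.Omega.OM.SwapV.Q

open Subgroup Cfsg Cfsg.Agent.ZN.ChoiceBase Cfsg.Agent.ZN.ChoiceSit
open Cfsg.Agent.ZN (jj zj bau zc zl o2)
open Cfsg.Agent.Omega.OM.FourF (Act)
open Cfsg.Agent.Omega.OM.WeakCl (WC)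
open Cfsg.Agent.Omega.OM.Uni (FB)
open Cfsg.Agent.Omega.OM.UniPlus (NB)
open Cfsg.Agent.Omega.NO3S.EMany.AltQ (Rt sup_eq exists_ne)
open Cfsg.Agent.Omega.NO3S.EMany.FourDQ (trN)
open Cfsg.Agent.Omega.SQ1.Bau (mem_sup_comm)

universe u

variable {G : Type u} [Group G] [Finite G] {ι : Type}

/-- What is needed of a frame over `B`, `Z_J = Ω₁Z(B)`, `V`. -/
structure QF (S B V ZJ : Subgroup G) (L W Z C : ι → Subgroup G) (q : ℕ) : Prop where
  B2 : IsPGroup 2 B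
  BS : B ≤ S
  wc : WC B
  syl : ∀ R : Subgroup G, R ≤ centralizer (ZJ : Set G) → IsPGroup 2 R → B ≤ R → R = B
  sq : ∀ z ∈ ZJ, z ^ 2 = 1
  Bc : B ≤ centralizer (ZJ : Set G)
  zcB : zc B = ZJ
  Vc : ∀ v ∈ V, ∀ w ∈ V, v * w = w * v
  WV : ∀ i, W i ≤ V
  CV : ∀ i, C i ≤ V
  ZJV : ZJ ≤ V
  dir : ∀ i, W i ⊓ C i = ⊥
  WjC : ∀ i j, i ≠ j → W j ≤ C i
  blk : ∀ i, FB B (L i) (W i) (Z i) q
  nb : ∀ i, NB B (L i) (W i) (Z i) q
  cardZ : ∀ i, Nat.card (Z i) = q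
  Zle : ∀ i, Z i ≤ ZJ
  split : ∀ i, ∀ z ∈ ZJ, ∃ w ∈ Z i, ∃ c ∈ ZJ, c ∈ C i ∧ z = w * c
  LC : ∀ i, ∀ l ∈ L i, ∀ z ∈ ZJ, z ∈ C i → l * z = z * l
  root : ∀ i, ∀ w ∈ W i, w ∉ Z i → ∀ z ∈ Z i, ∃ b ∈ B, b * w * b⁻¹ * w⁻¹ = z
  norm : ∀ g ∈ normalizer (B : Set G), ∀ i, ∃ j, cj g (Z i) = Z j ∧ cj g (W i) ≤ W j ⊔ ZJ
  co : ∀ i, ∃ (F : Type) (_ : Field F) (_ : Finite F) (_ : CharP F 2), Nat.card F = q ∧
    ∃ e : G → F × F, Cor F S B L W Z i e

namespace QF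

variable {S B V ZJ : Subgroup G} {L W Z C : ι → Subgroup G} {q : ℕ}

/-- `y ∈ N_G(B)`, a 2-element which centralises `Z_J`, is in `B` -/
theorem mem_B (h : QF S B V ZJ L W Z C q) {y : G} (hy : y ∈ normalizer (B : Set G))
    (hz : ∀ z ∈ ZJ, y * z = z * y) (h2 : IsPGroup 2 (zpowers y)) : y ∈ B := by
  have h1 : IsPGroup 2 ↥(B ⊔ zpowers y) := h.B2.to_sup_of_normal_left' h2 (zpowers_le.2 hy)
  have h3 : B ⊔ zpowers y ≤ centralizer (ZJ : Set G) :=
    sup_le h.Bc (zpowers_le.2 (mem_centralizer_iff.2 fun z hz' => (hz z hz').symm))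
  have h4 := h.syl _ h3 h1 le_sup_left
  rw [← h4]
  exact mem_sup_right (mem_zpowers y)

section one

variable {F : Type} [Field F] {e : G → F × F}

/-- **One block of the frame.** -/
theorem bk (h : QF S B V ZJ L W Z C q) (i : ι) (hc : Cor F S B L W Z i e) :
    Bk B ZJ (L i) (W i) (Z i) (ZJ ⊓ C i) e where
  B2 := h.B2
  BL := (h.blk i).BL
  syl := (h.blk i).syl
  comm := fun v hv w hw => h.Vc _ (h.WV i hv) _ (h.WV i hw)
  WC := fun w hw c hc => h.Vc _ (h.WV i hw) _ (h.CV i hc.2)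
  CC := fun c hc d hd => h.Vc _ (h.CV i hc.2) _ (h.CV i hd.2)
  sqJ := h.sq
  dir := by
    rw [eq_bot_iff, ← h.dir i]
    exact inf_le_inf_left _ inf_le_right
  ZW := (h.blk i).ZV
  ZJeq := by
    apply le_antisymm
    · intro z hz
      obtain ⟨w, hw, c, hcJ, hc, rfl⟩ := h.split i z hz
      exact mul_mem (mem_sup_left hw) (mem_sup_right ⟨hcJ, hc⟩)
    · exact sup_le (h.Zle i) inf_le_left
  nW := (h.blk i).nV
  LC := fun l hl c hc => h.LC i l hl c hc.1 hc.2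
  mem_B := fun y hy hz h2 => h.mem_B hy hz h2
  mul := hc.mul
  inj := hc.inj
  surj := hc.surj
  memZ := hc.memZ
  bact := fun b hb => by
    have hbZ : ∀ z ∈ Z i, b * z * b⁻¹ = z := fun z hz => by rw [(h.blk i).cZ b hb z hz]; group
    have h1 : cj b (Z i) = Z i := by
      refine Subgroup.eq_of_le_of_card_ge ?_ (by rw [card_cj])
      rintro _ ⟨z, hz, rfl⟩
      show b * z * b⁻¹ ∈ Z i
      rw [hbZ z hz]; exact hz
    obtain ⟨s, l, hs⟩ := hc.act b (h.BS hb) h1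
    refine ⟨l, fun w hw => ?_⟩
    have hs1 : ∀ a : F, s a = a := by
      intro a
      obtain ⟨v, hv, e1⟩ := hc.surj (a, 0)
      have hvZ : v ∈ Z i := (hc.memZ v).2 ⟨hv, by rw [e1]⟩
      have h2 := hs v hv
      rw [hbZ v hvZ, e1] at h2
      have h3 := congrArg Prod.fst h2
      simp only [map_zero, mul_zero, add_zero] at h3
      exact h3.symm
    rw [hs w hw]
    simp only [hs1]
  full := hc.full
  dg := fun l hl => by
    obtain ⟨g, hg, -, ha, -⟩ := hc.sl l 0 0 l⁻¹ (by rw [mul_inv_cancel₀ hl]; ring)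
    refine ⟨g, hg, fun w hw => ?_⟩
    rw [ha w hw]
    ext <;> simp

end one

theorem Z_inj (h : QF S B V ZJ L W Z C q) {i j : ι} (e : Z i = Z j) : i = j := by
  by_contra hne
  have h1 : Z i ≤ W i ⊓ C i := le_inf (h.blk i).ZV (by rw [e]; exact (h.blk j).ZV.trans (h.WjC i j hne))
  rw [h.dir i] at h1
  have h2 := Subgroup.card_le_of_le h1
  rw [Subgroup.card_bot, h.cardZ i] at h2
  have := (h.blk i).one
  omega

/-- **`x ∈ N_G(B)` which fixes `Z i` and centralises `Z_J ∩ C i` normalises `W i`** (`q > 2`). -/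
theorem cj_W (h : QF S B V ZJ L W Z C q) (hq : 2 < q) {i : ι} {x : G}
    (hx : x ∈ normalizer (B : Set G)) (hZ : cj x (Z i) = Z i)
    (hC : ∀ z ∈ ZJ, z ∈ C i → x * z = z * x) : ∀ w ∈ W i, x * w * x⁻¹ ∈ W i := by
  obtain ⟨F, _, _, _, hF, e, hc⟩ := h.co i
  have hb := h.bk i hc
  have hle : W i ⊔ ZJ ≤ W i ⊔ (ZJ ⊓ C i) := by
    refine sup_le le_sup_left ?_
    conv_lhs => rw [hb.ZJeq]
    exact sup_le_sup_right hb.ZW _
  have key : ∀ g ∈ normalizer (B : Set G), cj g (Z i) = Z i → cj g (W i) ≤ W i ⊔ (ZJ ⊓ C i) := by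
    intro g hg hgZ
    obtain ⟨j, hj, h2⟩ := h.norm g hg i
    rw [hgZ] at hj
    have := h.Z_inj hj
    subst this
    exact h2.trans hle
  refine hb.cjW ?_ hx hZ (fun c hc => hC c hc.1 hc.2) (fun w hw => key x hx hZ ⟨w, hw, rfl⟩) (fun w hw => ?_)
  · by_contra hcon
    push Not at hcon
    have := Fintype.ofFinite F
    have h1 : (Set.univ : Set F) ⊆ {0, 1} := fun l _ => by
      by_cases hl : l = 0
      · exact Or.inl hl
      · exact Or.inr (hcon l hl)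
    have h2 := Set.ncard_le_ncard h1 (Set.toFinite _)
    rw [Set.ncard_univ, hF] at h2
    have h3 := Set.ncard_insert_le (0 : F) {1}
    rw [Set.ncard_singleton] at h3
    omega
  · have h1 : cj x⁻¹ (Z i) = Z i := by
      conv_lhs => rw [← hZ]
      exact cj_inv_cj _ _
    have h2 := key x⁻¹ (inv_mem hx) h1 ⟨w, hw, rfl⟩
    have e1 : (MulAut.conj x⁻¹).toMonoidHom w = x⁻¹ * w * x := by simp
    rwa [e1] at h2

theorem cB (h : QF S B V ZJ L W Z C q) {b z : G} (hb : b ∈ B) (hz : z ∈ ZJ) : b * z = z * b :=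
  (mem_centralizer_iff.1 (h.Bc hb) z hz).symm

/-- `[v, B] = Z i` for `v ∈ V' - Z i`, `V' ≤ W i Z_J`. -/
theorem rtV (h : QF S B V ZJ L W Z C q) {i : ι} {L' V' : Subgroup G}
    (hN : NB B L' V' (Z i) q) (hV : V' ≤ W i ⊔ ZJ) : Rt B V' (Z i) := by
  intro v hv hvZ z hz
  obtain ⟨w, hw, c, hc, rfl⟩ := mem_sup_comm (fun a ha b hb => h.Vc _ (h.WV i ha) _ (h.ZJV hb)) (hV hv)
  have hwZ : w ∉ Z i := by
    intro hwZ
    refine hvZ (hN.toMd.mem_Z_iff.2 ⟨hv, fun b hb => ?_⟩)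
    have c1 : Commute b w := (h.blk i).cZ b hb w hwZ
    have c2 : Commute b c := h.cB hb hc
    exact (c1.mul_right c2).eq
  obtain ⟨b, hb, e⟩ := h.root i w hw hwZ z hz
  refine ⟨b, hb, ?_⟩
  have e2 : b * c * b⁻¹ = c := by rw [h.cB hb hc]; group
  calc b * (w * c) * b⁻¹ * (w * c)⁻¹ = b * w * b⁻¹ * (b * c * b⁻¹) * c⁻¹ * w⁻¹ := by group
    _ = b * w * b⁻¹ * w⁻¹ := by rw [e2]; group
    _ = z := e

/-- **`V_{L'} = W i`** (`q > 2`). -/
theorem V_eq (h : QF S B V ZJ L W Z C q) (hq : 2 < q) {i : ι} {L' V' : Subgroup G}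
    (hN : NB B L' V' (Z i) q) (hV : V' ≤ W i ⊔ ZJ)
    (hcen : ∀ z ∈ ZJ, z ∈ C i → ∀ l ∈ L', l * z = z * l) : V' = W i := by
  refine Subgroup.eq_of_le_of_card_ge ?_ (by rw [hN.card, (h.blk i).card])
  -- `[V', N_{L'}(B)] ≤ W i`
  have key : ∀ x ∈ L', x ∈ normalizer (B : Set G) → ∀ v ∈ V', x * v * x⁻¹ * v⁻¹ ∈ W i := by
    intro x hx hxB v hv
    obtain ⟨w, hw, c, hc, rfl⟩ := mem_sup_comm (fun a ha b hb => h.Vc _ (h.WV i ha) _ (h.ZJV hb)) (hV hv)
    obtain ⟨z, hz, d, hdJ, hd, rfl⟩ := h.split i c hc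
    have hxZ : cj x (Z i) = Z i := by
      refine Subgroup.eq_of_le_of_card_ge ?_ (by rw [card_cj])
      rintro _ ⟨z, hz, rfl⟩
      exact hN.nZ hx hxB hz
    have hwz : w * z ∈ W i := mul_mem hw ((h.blk i).ZV hz)
    have h1 : x * (w * z) * x⁻¹ ∈ W i := h.cj_W hq hxB hxZ (fun z hz hzC => hcen z hz hzC x hx) _ hwz
    have h2 : x * d * x⁻¹ = d := by rw [hcen d hdJ hd x hx]; group
    have e : x * (w * (z * d)) * x⁻¹ * (w * (z * d))⁻¹ = x * (w * z) * x⁻¹ * (x * d * x⁻¹) * d⁻¹ * (w * z)⁻¹ := by group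
    rw [e, h2, mul_inv_cancel_right]
    exact mul_mem h1 (inv_mem hwz)
  obtain ⟨k, hk, hne⟩ := exists_ne hN
  rw [← sup_eq hN hk hne]
  refine sup_le (h.blk i).ZV fun y₀ hy₀ => ?_
  by_cases hy01 : y₀ = 1
  · rw [hy01]; exact one_mem _
  -- `y₁ ≠ 1, y₀`
  have hcard : Nat.card (cj k (Z i)) = q := by rw [card_cj, h.cardZ]
  obtain ⟨y₁, hy₁, h1, h2⟩ : ∃ y ∈ cj k (Z i), y ≠ 1 ∧ y ≠ y₀⁻¹ := by
    by_contra hcon
    push Not at hcon
    have h1 : (cj k (Z i) : Set G) ⊆ {1, y₀⁻¹} := by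
      intro x hx
      by_cases hx1 : x = 1
      · exact Or.inl hx1
      · exact Or.inr (hcon x hx hx1)
    have h2 := Set.ncard_le_ncard h1 (Set.toFinite _)
    have h3 : (cj k (Z i) : Set G).ncard = Nat.card (cj k (Z i)) := rfl
    rw [h3, hcard] at h2
    have h4 := Set.ncard_insert_le (1 : G) {y₀⁻¹}
    rw [Set.ncard_singleton] at h4
    omega
  have hy₂ : y₀ * y₁ ∈ cj k (Z i) := mul_mem hy₀ hy₁
  have hy₂1 : y₀ * y₁ ≠ 1 := fun e => h2 (eq_inv_of_mul_eq_one_right e)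
  obtain ⟨x, hx, hxB, hxy⟩ := trN hN h.B2 (h.rtV hN hV) hk hne hy₁ h1 hy₂ hy₂1
  have h3 := key x hx hxB y₁ (hN.cjV hk hy₁)
  have h4 : y₀ = (x * y₁ * x⁻¹ * (y₀ * y₁)⁻¹)⁻¹ * (x * y₁ * x⁻¹ * y₁⁻¹) := by
    have hc : y₁ * y₀ = y₀ * y₁ := hN.comm (hN.cjV hk hy₁) (hN.cjV hk hy₀)
    group
  rw [h4]
  exact mul_mem (inv_mem ((h.blk i).ZV hxy)) h3

/-- **An FF-block `L'` over `B` of index `i` lies in `L i ⊔ C_G(W i ⊔ Z_J)`** (`q ≥ 8`). -/
theorem uniTwo8 (h : QF S B V ZJ L W Z C q) (hq : 8 ≤ q) {i : ι} {L' V' : Subgroup G}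
    (hN : NB B L' V' (Z i) q) (hV : V' ≤ W i ⊔ ZJ) (hcen : ∀ z ∈ ZJ, z ∈ C i → ∀ l ∈ L', l * z = z * l) :
    V' = W i ∧ L' ≤ L i ⊔ centralizer ((W i ⊔ ZJ : Subgroup G) : Set G) := by
  have hVW := h.V_eq (by omega) hN hV hcen
  subst hVW
  refine ⟨rfl, ?_⟩
  obtain ⟨F, _, _, _, hFc, e, hc⟩ := h.co i
  obtain ⟨k, hk, hkW, hka, -⟩ := hc.sl 0 (-1) 1 0 (by ring)
  have h2 := Var.Spread.uniTwo8 h.wc h.B2 (h.nb i) hN
    (⟨hc.mul, hc.inj, hc.surj, hc.memZ⟩ : Var.Spread.Crd (W i) (Z i) e) (by omega) hc.full (k₁ := k) hk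
    (fun u => ?_) (fun R hR hR2 hBR => ?_) (fun z hz => ?_)
  · rwa [h.zcB] at h2
  · constructor
    · intro hu
      rw [mem_cj] at hu
      have h3 := (hc.memZ _).1 hu
      have h4 : u = k * (k⁻¹ * u * k) * k⁻¹ := by group
      have h5 := hka _ h3.1
      rw [← h4] at h5
      refine ⟨?_, ?_⟩
      · rw [h4]
        exact (h.blk i).nV k hk _ h3.1
      · rw [h5]
        simp only
        rw [h3.2]
        ring
    · rintro ⟨hu, hu0⟩
      rw [mem_cj]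
      have h3 : k⁻¹ * u * k ∈ W i := by
        have h4 := (h.blk i).nV k⁻¹ (inv_mem hk) u hu
        rwa [inv_inv] at h4
      refine (hc.memZ _).2 ⟨h3, ?_⟩
      have h4 : u = k * (k⁻¹ * u * k) * k⁻¹ := by group
      have h5 := hka _ h3
      rw [← h4] at h5
      rw [h5] at hu0
      simpa using hu0
  · rw [h.zcB] at hR
    exact h.syl R hR hR2 hBR
  · rw [h.zcB] at hz
    obtain ⟨w, hw, c, hcJ, hc', e1⟩ := h.split i z hz
    exact ⟨w, hw, c, fun l hl => h.LC i l hl c hcJ hc', fun l hl => hcen c hcJ hc' l hl, e1⟩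

end QF

end Cfsg.Agent.Omega.OM.SwapV.Q

end

section


/-!
# (Om) for `q ≥ 4` over an abstract `V`, stage `-1`: the weak form and uniqueness of the blocks for `q ≥ 8`

* `NegQ.qf`, `LnQ.qf` : the frame-free frame `QF` at the stages `-1` and `n ≥ 0`;
* `NegQ.fam0`, `NegQ.nonLocK` : if `⟨C_G(Z_J), all FF-blocks over B⟩` normalises a 2-group `≠ 1` then `M = N_G(O)`,
  `O = O₂(K0) ≠ 1`, contains `N_G(B)`, all `L i` and all subgroups of characteristic 2 over `B`;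
* `NegQ.K0_le8` : `K0 ≤ ⟨C_G(Z_J), L i : i⟩` (`q ≥ 8`).
-/

set_option autoImplicit false
set_option linter.unusedSectionVars false

namespace Cfsg.Agent.Omega.OM.SwapV.Q

open Subgroup Cfsg Cfsg.Agent.ZN.ChoiceBase Cfsg.Agent.ZN.ChoiceSit
open Cfsg.Agent.ZN (jj zj bau zc zl o2)
open Cfsg.Agent.MinSimple.MinParabolic (IsMinPar)
open Cfsg.Agent.Omega.OM.LevD (LB)
open Cfsg.Agent.Omega.OM.Uni (Fr FB)
open Cfsg.Agent.Omega.OM.SwapL (ZL BL lb wc norm_lev)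

universe u

variable {G : Type u} [Group G] [Finite G] {ι : Type} [Finite ι] {S : Sylow 2 G} {V Q : Subgroup G} {n : ℕ}
  {L W Z C A : ι → Subgroup G} {q : ℕ}

/-- **The frame `QF` at stage `-1`.** -/
theorem NegQ.qf (h : NegQ S V Q L W Z C A q) :
    QF (S : Subgroup G) (bau (S : Subgroup G)) V (zj (S : Subgroup G)) L W Z C q where
  B2 := (LB.neg S).Bp
  BS := bau_le _
  wc := UniPlus.wc_bau S
  syl := fun R hR hR2 hBR => (LB.neg S).syl.2.2 R hR hR2 hBR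
  sq := (LB.neg S).sq
  Bc := (LB.neg S).Bc
  zcB := h.fr.zcB
  Vc := fun v hv w hw => h.fr.Vc hv hw
  WV := h.fr.WV
  CV := h.fr.CV
  ZJV := h.fr.ZJV
  dir := h.fr.dir
  WjC := h.fr.WjC
  blk := h.fr.blk
  nb := fun i => ⟨h.fr.blk i, h.fr.cardZ i⟩
  cardZ := h.fr.cardZ
  Zle := h.fr.Z_le
  split := fun i z hz => by
    obtain ⟨w, hw, c, hc, hcJ, e⟩ := h.fr.split_ZJ i hz
    exact ⟨w, hw, c, hcJ, hc, e⟩
  LC := h.fr.LC
  root := fun i w hw hwZ z hz => by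
    obtain ⟨a, ha, e⟩ := NegMod.root h.fr hw hwZ hz
    exact ⟨a, h.fr.AB i ha, e⟩
  norm := fun g hg i => (h.norm hg).2 i
  co := h.co

/-- **The frame `QF` at stage `n ≥ 0`.** -/
theorem LnQ.qf (h : LnQ S V Q n L W Z C A q) :
    QF (S : Subgroup G) (BL (S : Subgroup G) n) V (ZL (S : Subgroup G) n) L W Z C q where
  B2 := (lb S n).Bp
  BS := (lb S n).BS
  wc := wc S n
  syl := fun R hR hR2 hBR => (lb S n).syl.2.2 R hR hR2 hBR
  sq := (lb S n).sq
  Bc := (lb S n).Bc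
  zcB := h.fr.zcB
  Vc := fun v hv w hw => h.fr.Vc hv hw
  WV := h.fr.WV
  CV := h.fr.CV
  ZJV := h.fr.ZJV
  dir := h.fr.dir
  WjC := h.fr.WjC
  blk := h.fr.blk
  nb := fun i => ⟨h.fr.blk i, h.fr.cardZ i⟩
  cardZ := h.fr.cardZ
  Zle := h.fr.Z_le
  split := fun i z hz => by
    obtain ⟨w, hw, c, hc, hcJ, e⟩ := h.fr.split_ZJ i hz
    exact ⟨w, hw, c, hcJ, hc, e⟩
  LC := h.fr.LC
  root := fun i w hw hwZ z hz => by
    obtain ⟨a, ha, e⟩ := SWQ.ModQ.root h.fr hw hwZ hz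
    exact ⟨a, h.fr.AB i ha, e⟩
  norm := fun g hg i => (h.fr.norm_of hg (NO3S.Level.normalizer_le_zc _ (norm_lev S (by omega) hg))).2 i
  co := h.co

/-- the members of `K0`, stage `-1` -/
theorem NegQ.fblk (h : NegQ S V Q L W Z C A q) (i : ι) : BlkGen.FBlk (S : Subgroup G) (L i) (W i) where
  fb := ⟨_, _, h.fr.blk i⟩
  blk := (h.fr.blk i).toBlock (h.fr.cardZ i) (LB.neg S).Bp (LB.neg S).weakNormal

theorem NegQ.fam0 (h : NegQ S V Q L W Z C A q) : Dich.Fam S (BlkGen.FBlk (S : Subgroup G)) :=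
  BlkGen.fam (((NegMod.ZJ_le_sup h.fr).trans (iSup_mono fun i => (h.fr.blk i).ZV)).trans (iSup_le fun i => le_iSup
    (fun i : {x : Subgroup G × Subgroup G // BlkGen.FBlk (S : Subgroup G) x.1 x.2} => i.1.2) ⟨(L i, W i), h.fblk i⟩))

/-- **(Om), stage `-1`**: if `⟨C_G(Z_J), all FF-blocks over B⟩` normalises a nontrivial 2-group, then
`M = N_G(O₂(K0))` contains `N_G(B)`, all `L i` and every subgroup of characteristic 2 over `B`. -/
theorem NegQ.nonLocK [Nonempty ι] (h : NegQ S V Q L W Z C A q) (hq : 4 ≤ q) {R : Subgroup G}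
    (hR : IsPGroup 2 R) (hR1 : R ≠ ⊥)
    (hY : Dich.K0 (S : Subgroup G) (BlkGen.FBlk (S : Subgroup G)) ≤ normalizer (R : Set G)) :
    ∃ O : Subgroup G, IsPGroup 2 O ∧ O ≠ ⊥ ∧ O ≤ bau (S : Subgroup G) ∧
      centralizer (zj (S : Subgroup G) : Set G) ≤ normalizer (O : Set G) ∧ (∀ i, L i ≤ normalizer (O : Set G)) ∧
      normalizer (bau (S : Subgroup G) : Set G) ≤ normalizer (O : Set G) ∧
      ∀ H : Subgroup G, bau (S : Subgroup G) ≤ H → H ⊓ centralizer (o2 H : Set G) ≤ o2 H →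
        H ≤ normalizer (O : Set G) := by
  obtain ⟨ho, hoB, hle⟩ := h.fam0.dich hR hR1 hY
  set O : Subgroup G := o2 (Dich.K0 (S : Subgroup G) (BlkGen.FBlk (S : Subgroup G))) with hO
  have hK : Dich.K0 (S : Subgroup G) (BlkGen.FBlk (S : Subgroup G)) ≤ normalizer (O : Set G) :=
    le_sup_left.trans hle
  have hN : normalizer (bau (S : Subgroup G) : Set G) ≤ normalizer (O : Set G) := le_sup_right.trans hle
  have hLM : ∀ i, L i ≤ normalizer (O : Set G) := fun i => (Dich.blk_le_K0 (h.fblk i)).trans hK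
  have hDM : centralizer (zj (S : Subgroup G) : Set G) ≤ normalizer (O : Set G) := Dich.cent_le_K0.trans hK
  refine ⟨O, isPGroup_o2 _, ho, hoB, hDM, hLM, hN, fun H hB hc => ?_⟩
  refine h.gr.le_of_char2 ‹_› (fun _ => hq) (fun _ _ e => e) ?_ hLM hDM hN hB hc
  intro T Y hT hBT hP hcY hn hZ
  have hJ : ¬ jj T ≤ o2 Y := by
    rw [LemmaK.Main.jj_eq S hT.2.1 hBT]
    exact hn
  obtain ⟨L', V', h1, -, h3⟩ := Var.exists_blk FF.Glob.ffthm S hT hBT hP hcY hJ hZ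
  exact h3.trans (sup_le ((Dich.blk_le_K0 h1).trans hK) ((Dich.two_le S hT.2.1 hBT).trans hN))

/-- **`K0 ≤ ⟨C_G(Z_J), L i : i⟩`**, stage `-1` (`q ≥ 8`). -/
theorem NegQ.K0_le8 [Nonempty ι] (h : NegQ S V Q L W Z C A q) (hq : 8 ≤ q) (h2 : ∀ i : ι, ∃ j, j ≠ i) :
    Dich.K0 (S : Subgroup G) (BlkGen.FBlk (S : Subgroup G)) ≤
      centralizer (zj (S : Subgroup G) : Set G) ⊔ ⨆ i, L i := by
  refine sup_le le_sup_left (iSup_le ?_)
  rintro ⟨⟨L', V'⟩, ⟨Z', q', hF⟩, hb⟩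
  obtain ⟨i, rfl, -, hN, hV, -, h1⟩ := (h.bfr (by omega) h2).blk hF
  obtain ⟨-, hle⟩ := h.qf.uniTwo8 hq hN hV fun z hz hzC => (h1 z hz).1 hzC
  refine hle.trans (sup_le ((le_iSup L i).trans le_sup_right) ((centralizer_le ?_).trans le_sup_left))
  exact_mod_cast (le_sup_right : zj (S : Subgroup G) ≤ W i ⊔ zj (S : Subgroup G))

end Cfsg.Agent.Omega.OM.SwapV.Q

end

section


/-!
# (LL) for `q > 2` over `FrL` only (box R, stage `n ≥ 0`)

* `low_four` : `T ≥ B = BL S n` a Sylow 2-subgroup of the minimal parabolic `Y` of characteristic 2, `Y` moves `Ω₁(Z(T))`: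
  `lev S n ≤ O₂(Y)`;
* `blk_four` : if moreover `lev S (n+1) ≰ O₂(Y)`: `Y ≤ ⟨L', T⟩` for an FF-block `L' ≤ Y` over `B`.
-/

set_option autoImplicit false

namespace Cfsg.Agent.Omega.OM.SwapV.LowFour

open Subgroup Cfsg Cfsg.Agent.ZN.ChoiceBase Cfsg.Agent.ZN.ChoiceSit
open Cfsg.Agent.ZN (jj zj bau zc zl o2)
open Cfsg.Agent.MinSimple.MinParabolic (IsMinPar)
open Cfsg.Agent.Omega.NO3S.Level (lev nxt Lev lev_isLev)
open Cfsg.Agent.Omega.OM.Lev.Uni (FrL)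
open Cfsg.Agent.Omega.OM.SwapL (ZL BL lb)

universe u

variable {G : Type u} [Group G] [Finite G] {ι : Type} [Finite ι] {S : Sylow 2 G} {V Q : Subgroup G} {n : ℕ}
  {L W Z C A : ι → Subgroup G} {q : ℕ}

/-- **(LL), `q > 2`, over `FrL`.** -/
theorem low_four
    (h : FrL (BL (S : Subgroup G) n) Q V (zc (lev (S : Subgroup G) n)) (ZL (S : Subgroup G) n) L W Z C A q)
    (hq : 2 < q) {T Y : Subgroup G} (hT : Syl T Y) (hB : BL (S : Subgroup G) n ≤ T) (hP : IsMinPar T Y)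
    (hc : Y ⊓ centralizer (o2 Y : Set G) ≤ o2 Y) (hZ : ¬ Y ≤ centralizer (zc T : Set G)) :
    lev (S : Subgroup G) n ≤ o2 Y := by
  by_contra hn
  obtain ⟨j, hj, hlow, hnj⟩ := Lev.Low.exists_stg (S : Subgroup G) hn
  have hBj : LevB.BL (S : Subgroup G) j ≤ T := (Lev.Low.BL_mono (S : Subgroup G) (by omega : j ≤ n + 1)).trans hB
  obtain ⟨Λ, _, N, c, hy, l, hl⟩ := Lev.Low.exists_ybj S hT hBj hP hc hlow hnj hZ
  have h1 := Lev.Low.no_low h hq hy (LowZ.qv h hT.2.1 hB hj) hB l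
  exact hl ((Lev.Low.zc_T_le S hT.2.1 hB).trans h1)

/-- **The block of `Y`, `q > 2`.** -/
theorem blk_four
    (h : FrL (BL (S : Subgroup G) n) Q V (zc (lev (S : Subgroup G) n)) (ZL (S : Subgroup G) n) L W Z C A q)
    (hq : 2 < q) {T Y : Subgroup G} (hT : Syl T Y) (hB : BL (S : Subgroup G) n ≤ T) (hP : IsMinPar T Y)
    (hc : Y ⊓ centralizer (o2 Y : Set G) ≤ o2 Y) (hn1 : ¬ lev (S : Subgroup G) (n + 1) ≤ o2 Y)
    (hZ : ¬ Y ≤ centralizer (zc T : Set G)) :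
    ∃ L' V' : Subgroup G, L' ≤ Y ∧ LevB.FBlk (BL (S : Subgroup G) n) L' V' ∧ Y ≤ L' ⊔ T := by
  have hK := low_four h hq hT hB hP hc hZ
  obtain ⟨L', V', h1, hF, hsup⟩ := LevB.exists_fblk S hT hB hP hc hK hn1 hZ
  exact ⟨L', V', h1, hF, hsup.trans (by rw [sup_comm])⟩

end Cfsg.Agent.Omega.OM.SwapV.LowFour

end

section


/-!
# `par` of `TypT` for natural blocks over `GF(q)`, `q > 2`, at a level `n ≥ 0` (LL(q), UNI+, FIX-X)

Frame `FrL (BL S n) Q V (zc (lev S n)) (ZL S n) L W Z C A q`, `T ≥ B = BL S n` any 2-group, `1 ≠ F i ≤ Z i ∩ Ω₁(Z(T))`, `T`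
Sylow in `Y_j = C_G(F l : l ≠ j)`.

* `norm_V` : `P ≤ Y_j` minimal over `T`, `P` moves `F j` ⟹ `P ≤ N_G(V)`;
* `norm_W` : then `P` normalises all the `W i` (if `N_G(V)` permutes them);
* `parT_lev` : the field `par` of `TypT`.
-/

set_option autoImplicit false

namespace Cfsg.Agent.Omega.NOThreeL.RWide.ParLev

open Subgroup Cfsg Cfsg.Agent.ZN.ChoiceBase Cfsg.Agent.ZN.ChoiceSit
open Cfsg.Agent.ZN (jj zj bau zc zl o2)
open Cfsg.Agent.MinSimple.MinParabolic (IsMinPar)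
open Cfsg.Agent.Omega.NO3S.Level (lev nxt Lev lev_isLev)
open Cfsg.Agent.Omega.OM Cfsg.Agent.Omega.OM.Uni
open Cfsg.Agent.Omega.OM.Lev.Uni (FrL)
open Cfsg.Agent.Omega.OM.SwapL (ZL BL lb wc)

universe u v

variable {G : Type u} [Group G]

/-- `Y_j` is the centraliser of a group. -/
theorem YY_eq {ι : Type v} (F : ι → Subgroup G) (j : ι) :
    YY F j = centralizer ((⨆ l : {l // l ≠ j}, F l : Subgroup G) : Set G) := by
  apply le_antisymm
  · rw [← le_centralizer_iff]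
    refine iSup_le fun l => ?_
    rw [le_centralizer_iff]
    exact YY_le_cent l.2
  · refine centralizer_le ?_
    rintro x ⟨l, hl, hx⟩
    exact (le_iSup (fun l : {l // l ≠ j} => F l) ⟨l, hl⟩) hx

/-- `T ≤ P ≤ Y_j`, `T` Sylow in `Y_j`: `P` has characteristic 2. -/
theorem char2 [Finite G] (hG : IsCharacteristicTwoType G) {ι : Type v} {F : ι → Subgroup G} {T P : Subgroup G}
    {j l : ι} (hl : l ≠ j) (hne : F l ≠ ⊥) (hF : ∀ i, F i ≤ zc T) (syl : Syl T (YY F j)) (hTP : T ≤ P)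
    (hP : P ≤ YY F j) : P ⊓ centralizer (o2 P : Set G) ≤ o2 P := by
  set E : Subgroup G := ⨆ l : {l // l ≠ j}, F l with hE
  have hE2 : IsPGroup 2 E := syl.2.1.to_le (iSup_le fun l => (hF l).trans (zc_le T))
  have hE1 : E ≠ ⊥ := by
    intro h1
    apply hne
    rw [eq_bot_iff, ← h1]
    exact le_iSup (fun l : {l // l ≠ j} => F l) ⟨l, hl⟩
  have h1 := NOne.LemmaT.char2_centralizer hG hE2 hE1
  rw [← YY_eq] at h1
  have h2 : o2 (YY F j) ≤ o2 P :=
    le_o2 (isPGroup_o2 _) ((o2_le_syl syl).trans hTP) (hP.trans (le_normalizer_o2 _))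
  rintro x ⟨hx, hxc⟩
  exact h2 (h1 ⟨hP hx, centralizer_le (by exact_mod_cast h2) hxc⟩)

section fr

variable {ι : Type v} {B Q V X ZJ : Subgroup G} {L W Z C A : ι → Subgroup G} {q : ℕ}

/-- the elements of `Y_j` normalising `V` normalise the `W i`. -/
theorem norm_W (h : FrL B Q V X ZJ L W Z C A q) {F : ι → Subgroup G} (hF1 : ∀ i, F i ≠ ⊥) (hFZ : ∀ i, F i ≤ Z i)
    (hV : ∀ g ∈ normalizer (V : Set G), ∀ i, ∃ k, cj g (W i) = W k) {j : ι} {P : Subgroup G} (hPY : P ≤ YY F j)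
    (hPV : P ≤ normalizer (V : Set G)) : ∀ i, P ≤ normalizer (W i : Set G) := by
  have hFW : ∀ i, F i ≤ W i := fun i => (hFZ i).trans (h.blk i).ZV
  have hdis : ∀ i k, i ≠ k → ¬ F i ≤ W k := by
    intro i k hik h1
    apply hF1 i
    rw [eq_bot_iff, ← h.dir i]
    exact le_inf (hFW i) (h1.trans (h.WjC i k hik))
  have key : ∀ x ∈ P, ∀ i, i ≠ j → cj x (W i) = W i := by
    intro x hx i hi
    obtain ⟨k, hk⟩ := hV x (hPV hx) i
    have h1 : cj x (F i) = F i :=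
      cj_eq_of_mem_normalizer (centralizer_le_normalizer _ (YY_le_cent hi (hPY hx)))
    have h2 : F i ≤ W k := by
      rw [← h1, ← hk]
      exact cj_mono x (hFW i)
    by_cases hik : i = k
    · rw [hk, hik]
    · exact absurd h2 (hdis i k hik)
  intro i x hx
  rw [mem_normalizer_iff_cj]
  by_cases hi : i = j
  · subst hi
    obtain ⟨k, hk⟩ := hV x (hPV hx) i
    by_cases hik : k = i
    · rw [hk, hik]
    · exfalso
      have h1 := key x hx k hik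
      have h2 : W i = W k := by
        have h3 := congrArg (cj x⁻¹) (hk.trans h1.symm)
        rwa [cj_inv_cj, cj_inv_cj] at h3
      exact hdis i k (Ne.symm hik) ((hFW i).trans h2.le)
  · exact key x hx i hi

end fr

variable [Finite G] {ι : Type} [Finite ι] {S : Sylow 2 G} {V Q : Subgroup G} {n : ℕ}
  {L W Z C A : ι → Subgroup G} {q : ℕ}

/-- **`P ≤ N_G(V)`**. -/
theorem norm_V (hG : IsCharacteristicTwoType G)
    (h : FrL (BL (S : Subgroup G) n) Q V (zc (lev (S : Subgroup G) n)) (ZL (S : Subgroup G) n) L W Z C A q)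
    (hq : 2 < q) (hn : ∀ i : ι, ∃ j, j ≠ i) {T : Subgroup G} (hB : BL (S : Subgroup G) n ≤ T)
    {F : ι → Subgroup G} (hF1 : ∀ i, F i ≠ ⊥) (hFZ : ∀ i, F i ≤ Z i) (hFT : ∀ i, F i ≤ zc T) {j : ι}
    (syl : Syl T (YY F j)) {P : Subgroup G} (hP : IsMinPar T P) (hPY : P ≤ YY F j)
    (hPF : ¬ P ≤ centralizer (F j : Set G)) : P ≤ normalizer (V : Set G) := by
  have hT2 := syl.2.1
  have hTP : T ≤ P := hP.le
  have hT : Syl T P := ⟨hTP, hT2, fun R hR h2 hTR => syl.2.2 R (hR.trans hPY) h2 hTR⟩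
  obtain ⟨l₀, hl₀⟩ := hn j
  have hc : P ⊓ centralizer (o2 P : Set G) ≤ o2 P := char2 hG hl₀ (hF1 l₀) hFT syl hTP hPY
  have hZ : ¬ P ≤ centralizer (zc T : Set G) := fun h1 =>
    hPF (h1.trans (centralizer_le (by exact_mod_cast hFT j)))
  have hTF : T ≤ centralizer (F j : Set G) := by
    intro t ht
    rw [mem_centralizer_iff]
    intro x hx
    exact ((mem_zc.1 (hFT j hx)).2.2 t ht).symm
  by_cases h1 : lev (S : Subgroup G) (n + 1) ≤ o2 P
  · -- `K ≤ O₂(P)`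
    have hPZ : P ≤ normalizer (ZL (S : Subgroup G) n : Set G) :=
      (le_normalizer_o2 P).trans ((lb S n).nrm _ (isPGroup_o2 P) h1)
    have hFJ : F j ≤ ZL (S : Subgroup G) n := (hFZ j).trans (h.Z_le j)
    have hPC : P ≤ normalizer (centralizer (ZL (S : Subgroup G) n : Set G) : Set G) := fun x hx =>
      Dich.norm_cent (hPZ hx)
    have hN : P ≤ normalizer ((P ⊓ centralizer (ZL (S : Subgroup G) n : Set G) : Subgroup G) : Set G) := by
      intro x hx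
      rw [mem_normalizer_iff_cj, cj_inf, cj_eq_of_mem_normalizer (le_normalizer hx),
        cj_eq_of_mem_normalizer (hPC hx)]
    rcases hP.sup_eq_or_inf_le (p := 2) hT2 (syl_not_dvd hT)
      (N := P ⊓ centralizer (ZL (S : Subgroup G) n : Set G)) inf_le_left hN with h2 | h2
    · exfalso
      apply hPF
      rw [← h2]
      exact sup_le (inf_le_right.trans (centralizer_le (by exact_mod_cast hFJ))) hTF
    · have h3 : o2 P ⊓ centralizer (ZL (S : Subgroup G) n : Set G) = BL (S : Subgroup G) n := by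
        apply le_antisymm
        · have h4 := (lb S n).inf_eq hT2 hB
          rw [← h4]
          exact inf_le_inf_right _ (o2_le_syl hT)
        · refine le_inf ?_ (lb S n).Bc
          have h4 : BL (S : Subgroup G) n ≤ T ⊓ (P ⊓ centralizer (ZL (S : Subgroup G) n : Set G)) :=
            le_inf hB (le_inf (hB.trans hTP) (lb S n).Bc)
          exact h4.trans h2
      intro x hx
      have h5 : x ∈ normalizer (BL (S : Subgroup G) n : Set G) := by
        rw [mem_normalizer_iff_cj, ← h3, cj_inf, cj_eq_of_mem_normalizer (le_normalizer_o2 P hx),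
          cj_eq_of_mem_normalizer (hPC hx)]
      rw [mem_normalizer_iff_cj]
      exact (SwapV.LowZ.norm h h5).1
  · -- a block of `P`
    obtain ⟨L', V', hLP, ⟨⟨Z', q', hFB⟩, hb⟩, hsup⟩ := SwapV.LowFour.blk_four h hq hT hB hP hc h1 hZ
    have hlow : lev (S : Subgroup G) n ≤ o2 P := SwapV.LowFour.low_four h hq hT hB hP hc hZ
    have hPX : P ≤ normalizer (zc (lev (S : Subgroup G) n) : Set G) :=
      (le_normalizer_o2 P).trans ((LevD.LB.lev S n).nrm _ (isPGroup_o2 P) hlow)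
    have hX : V' ≤ zc (lev (S : Subgroup G) n) := Lev.LowBlk.V_le S rfl h hFB hb.irr
    have hp : ∀ g ∈ normalizer (BL (S : Subgroup G) n : Set G), ∀ j, ∃ k, cj g (Z j) = Z k := by
      intro g hg j
      obtain ⟨k, hk, -⟩ := (SwapV.LowZ.norm h hg).2 j
      exact ⟨k, hk⟩
    obtain ⟨rfl, i, rfl, hN, hle, hC, -⟩ := Lev.UniPlus.uniPlusX h (lb S n).Bp (wc S n) hp hFB hX
    have hij : i = j := by
      by_contra hne
      apply hF1 i
      rw [eq_bot_iff, ← h.dir i]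
      refine le_inf ((hFZ i).trans (h.blk i).ZV) fun z hz => (hC z (h.Z_le i (hFZ i hz))).2 fun l hl => ?_
      exact (mem_centralizer_iff.1 (YY_le_cent hne (hPY (hLP hl))) z hz).symm
    subst hij
    have hZl : ∀ l, l ≠ i → ∀ r ∈ L', ∀ z ∈ Z l, r * z = z * r := fun l hl r hr z hz =>
      (hC z (h.Z_le l hz)).1 (h.WjC i l hl.symm ((h.blk l).ZV hz)) r hr
    have hVV : V' ≤ V := hle.trans (sup_le (h.WV i) h.ZJV)
    have hXB : zc (lev (S : Subgroup G) n) ≤ BL (S : Subgroup G) n :=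
      ((zc_le _).trans (NO3S.Level.lev_le_succ _ n)).trans (lb S n).KB
    have key : ∀ r ∈ L', ∀ k, ∀ w ∈ W k, r * w * r⁻¹ ∈ V := by
      intro r hr k w hw
      by_cases hk : k = i
      · subst hk
        have hcomm : ∀ v ∈ V', ∀ z ∈ zc (BL (S : Subgroup G) n), v * z = z * v := fun v hv z hz =>
          (mem_zc.1 hz).2.2 v (hN.VB hv)
        have h2 : w ∈ V' ⊔ zc (BL (S : Subgroup G) n) := by
          rw [← OM.UniPlus.sup_zc_eq (Lev.UniPlus.nb h k) hN (by rw [h.zcB]; exact hle)]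
          exact mem_sup_left hw
        obtain ⟨v, hv, z, hz, rfl⟩ := Cfsg.Agent.Omega.SQ1.Bau.mem_sup_comm hcomm h2
        have h3 := hFB.nV r hr v hv
        have h4 := hFB.act r hr z hz
        have h5 : z ∈ V := h.ZJV (by rw [← h.zcB]; exact hz)
        have e : r * (v * z) * r⁻¹ = (r * v * r⁻¹) * (r * z * r⁻¹ * z⁻¹) * z := by group
        rw [e]
        exact mul_mem (mul_mem (hVV h3) (hVV h4)) h5
      · have hwX : w ∈ zc (lev (S : Subgroup G) n) := h.VX (h.WV k hw)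
        refine FixXQ.fixX h hXB k ((mem_normalizer_iff.1 (hPX (hLP hr)) w).1 hwX) fun o ho => ?_
        have ho' : r⁻¹ * o * r⁻¹⁻¹ ∈ BL (S : Subgroup G) n :=
          hFB.cor r⁻¹ (inv_mem hr) o (h.QB ho) fun v hv => h.cQ ho (hVV hv)
        rw [inv_inv] at ho'
        have h2 := (h.blk k).com _ ho' w hw
        have h3 := hZl k hk r hr _ h2
        have e : o * (r * w * r⁻¹) * o⁻¹ * (r * w * r⁻¹)⁻¹ =
            r * (r⁻¹ * o * r * w * (r⁻¹ * o * r)⁻¹ * w⁻¹) * r⁻¹ := by group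
        rw [e, h3, mul_inv_cancel_right]
        exact h2
    have hLV : L' ≤ normalizer (V : Set G) := by
      intro r hr
      refine mem_normalizer_of_cj_le ?_
      conv_lhs => rw [h.V_eq]
      rw [cj, Subgroup.map_iSup]
      refine iSup_le fun k => ?_
      rintro _ ⟨w, hw, rfl⟩
      exact key r hr k w hw
    exact hsup.trans (sup_le hLV (SwapV.LowZ.two_norm h hT2 hB))

/-- **the field `par` of `TypT`**, `q > 2`, stage `n ≥ 0`. -/
theorem parT_lev (hG : IsCharacteristicTwoType G)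
    (h : FrL (BL (S : Subgroup G) n) Q V (zc (lev (S : Subgroup G) n)) (ZL (S : Subgroup G) n) L W Z C A q)
    (hq : 2 < q) (hn : ∀ i : ι, ∃ j, j ≠ i) {T : Subgroup G} (hB : BL (S : Subgroup G) n ≤ T)
    {F : ι → Subgroup G} (hF1 : ∀ i, F i ≠ ⊥) (hFZ : ∀ i, F i ≤ Z i) (hFT : ∀ i, F i ≤ zc T)
    (hV : ∀ g ∈ normalizer (V : Set G), ∀ i, ∃ k, cj g (W i) = W k) (syl : ∀ j, Syl T (YY F j)) :
    ∀ j P, IsMinPar T P → P ≤ YY F j → P ≤ centralizer (F j : Set G) ∨ ∀ i, P ≤ normalizer (W i : Set G) := by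
  intro j P hP hPY
  by_cases hPF : P ≤ centralizer (F j : Set G)
  · exact Or.inl hPF
  · exact Or.inr (norm_W h hF1 hFZ hV hPY (norm_V hG h hq hn hB hF1 hFZ hFT (syl j) hP hPY hPF))

end Cfsg.Agent.Omega.NOThreeL.RWide.ParLev

end

section


/-!
# `par` of `TypT` over `B = bau S` (stage `-1`), natural blocks over any fields, at least three blocks

Frame `Var.Bfr S Q V L W Z C A q m` (`q : ι → ℕ`), `T ≥ B` any 2-group, `1 ≠ F i ≤ Z i ∩ Ω₁(Z(T))`, `T` Sylow in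
`Y_j = C_G(F l : l ≠ j)`.

* `normB` : `K ≤ O₂(P)`: `P ≤ N_G(B)` (every level);
* `norm_V` : `P ≤ Y_j` minimal over `T`, `P` moves `F j` ⟹ `P ≤ N_G(V)`;
* `norm_W` : then `P` normalises all the `W i` (if `N_G(V)` permutes them);
* `parT_neg`, `NegQ.parT` : the field `par` of `TypT`.
-/

set_option autoImplicit false

namespace Cfsg.Agent.Omega.NOThreeL.RWide.ParNeg

open Subgroup Cfsg Cfsg.Agent.ZN.ChoiceBase Cfsg.Agent.ZN.ChoiceSit
open Cfsg.Agent.ZN (jj zj bau zc zl o2)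
open Cfsg.Agent.MinSimple.MinParabolic (IsMinPar)
open Cfsg.Agent.Omega.SQ1.Bau (mem_sup_comm elem_comm elem_sq)
open Cfsg.Agent.Omega.OM
open Cfsg.Agent.Omega.OM.LevD (LB)
open Cfsg.Agent.Omega.OM.Var (Bfr)

universe u v

variable {G : Type u} [Group G]

/-- `Y_j` is the centraliser of a group. -/
theorem YY_eq {ι : Type v} (F : ι → Subgroup G) (j : ι) :
    YY F j = centralizer ((⨆ l : {l // l ≠ j}, F l : Subgroup G) : Set G) := by
  apply le_antisymm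
  · rw [← le_centralizer_iff]
    refine iSup_le fun l => ?_
    rw [le_centralizer_iff]
    exact YY_le_cent l.2
  · refine centralizer_le ?_
    rintro x ⟨l, hl, hx⟩
    exact (le_iSup (fun l : {l // l ≠ j} => F l) ⟨l, hl⟩) hx

/-- `T ≤ P ≤ Y_j`, `T` Sylow in `Y_j`: `P` has characteristic 2. -/
theorem char2 [Finite G] (hG : IsCharacteristicTwoType G) {ι : Type v} {F : ι → Subgroup G} {T P : Subgroup G}
    {j l : ι} (hl : l ≠ j) (hne : F l ≠ ⊥) (hF : ∀ i, F i ≤ zc T) (syl : Syl T (YY F j)) (hTP : T ≤ P)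
    (hP : P ≤ YY F j) : P ⊓ centralizer (o2 P : Set G) ≤ o2 P := by
  set E : Subgroup G := ⨆ l : {l // l ≠ j}, F l with hE
  have hE2 : IsPGroup 2 E := syl.2.1.to_le (iSup_le fun l => (hF l).trans (zc_le T))
  have hE1 : E ≠ ⊥ := by
    intro h1
    apply hne
    rw [eq_bot_iff, ← h1]
    exact le_iSup (fun l : {l // l ≠ j} => F l) ⟨l, hl⟩
  have h1 := NOne.LemmaT.char2_centralizer hG hE2 hE1
  rw [← YY_eq] at h1
  have h2 : o2 (YY F j) ≤ o2 P :=
    le_o2 (isPGroup_o2 _) ((o2_le_syl syl).trans hTP) (hP.trans (le_normalizer_o2 _))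
  rintro x ⟨hx, hxc⟩
  exact h2 (h1 ⟨hP hx, centralizer_le (by exact_mod_cast h2) hxc⟩)

/-- `K ≤ O₂(P)`, `P` minimal over `T ≥ B` moves `F ≤ Z_J ∩ Ω₁(Z(T))`: `P ≤ N_G(B)` (every level). -/
theorem normB [Finite G] {S : Sylow 2 G} {K B ZJ : Subgroup G} (lb : LB S K B ZJ) {T P F : Subgroup G} (hT : Syl T P)
    (hB : B ≤ T) (hP : IsMinPar T P) (h1 : K ≤ o2 P) (hFJ : F ≤ ZJ) (hTF : T ≤ centralizer (F : Set G))
    (hPF : ¬ P ≤ centralizer (F : Set G)) : P ≤ normalizer (B : Set G) := by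
  have hT2 := hT.2.1
  have hPZ : P ≤ normalizer (ZJ : Set G) := (le_normalizer_o2 P).trans (lb.nrm _ (isPGroup_o2 P) h1)
  have hPC : P ≤ normalizer (centralizer (ZJ : Set G) : Set G) := fun x hx => Dich.norm_cent (hPZ hx)
  have hN : P ≤ normalizer ((P ⊓ centralizer (ZJ : Set G) : Subgroup G) : Set G) := by
    intro x hx
    rw [mem_normalizer_iff_cj, cj_inf, cj_eq_of_mem_normalizer (le_normalizer hx),
      cj_eq_of_mem_normalizer (hPC hx)]
  rcases hP.sup_eq_or_inf_le (p := 2) hT2 (syl_not_dvd hT) (N := P ⊓ centralizer (ZJ : Set G)) inf_le_left hN with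
    h2 | h2
  · exfalso
    apply hPF
    rw [← h2]
    exact sup_le (inf_le_right.trans (centralizer_le (by exact_mod_cast hFJ))) hTF
  · have h3 : o2 P ⊓ centralizer (ZJ : Set G) = B := by
      apply le_antisymm
      · have h4 := lb.inf_eq hT2 hB
        rw [← h4]
        exact inf_le_inf_right _ (o2_le_syl hT)
      · refine le_inf ?_ lb.Bc
        have h4 : B ≤ T ⊓ (P ⊓ centralizer (ZJ : Set G)) := le_inf hB (le_inf (hB.trans hT.1) lb.Bc)
        exact h4.trans h2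
    intro x hx
    rw [mem_normalizer_iff_cj, ← h3, cj_inf, cj_eq_of_mem_normalizer (le_normalizer_o2 P hx),
      cj_eq_of_mem_normalizer (hPC hx)]

section perm

variable {ι : Type v} {W C F : ι → Subgroup G}

/-- the elements of `Y_j` permuting the `W i` normalise the `W i`. -/
theorem norm_W (dir : ∀ i, W i ⊓ C i = ⊥) (WjC : ∀ i j, i ≠ j → W j ≤ C i) (hF1 : ∀ i, F i ≠ ⊥)
    (hFW : ∀ i, F i ≤ W i) {j : ι} {P : Subgroup G} (hPY : P ≤ YY F j)
    (hV : ∀ g ∈ P, ∀ i, ∃ k, cj g (W i) = W k) : ∀ i, P ≤ normalizer (W i : Set G) := by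
  have hdis : ∀ i k, i ≠ k → ¬ F i ≤ W k := by
    intro i k hik h1
    apply hF1 i
    rw [eq_bot_iff, ← dir i]
    exact le_inf (hFW i) (h1.trans (WjC i k hik))
  have key : ∀ x ∈ P, ∀ i, i ≠ j → cj x (W i) = W i := by
    intro x hx i hi
    obtain ⟨k, hk⟩ := hV x hx i
    have h1 : cj x (F i) = F i :=
      cj_eq_of_mem_normalizer (centralizer_le_normalizer _ (YY_le_cent hi (hPY hx)))
    have h2 : F i ≤ W k := by
      rw [← h1, ← hk]
      exact cj_mono x (hFW i)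
    by_cases hik : i = k
    · rw [hk, hik]
    · exact absurd h2 (hdis i k hik)
  intro i x hx
  rw [mem_normalizer_iff_cj]
  by_cases hi : i = j
  · subst hi
    obtain ⟨k, hk⟩ := hV x hx i
    by_cases hik : k = i
    · rw [hk, hik]
    · exfalso
      have h1 := key x hx k hik
      have h2 : W i = W k := by
        have h3 := congrArg (cj x⁻¹) (hk.trans h1.symm)
        rwa [cj_inv_cj, cj_inv_cj] at h3
      exact hdis i k (Ne.symm hik) ((hFW i).trans h2.le)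
  · exact key x hx i hi

end perm

variable [Finite G] {ι : Type v} [Finite ι] {S : Sylow 2 G} {V Q : Subgroup G} {L W Z C A : ι → Subgroup G}
  {q : ι → ℕ} {m : ℕ}

/-- **`P ≤ N_G(V)`**, stage `-1`, any fields. -/
theorem norm_V (h : Bfr S Q V L W Z C A q m) (three : ∀ i j : ι, ∃ l, l ≠ i ∧ l ≠ j) {T : Subgroup G}
    (hB : bau (S : Subgroup G) ≤ T) {F : ι → Subgroup G} (hF1 : ∀ i, F i ≠ ⊥) (hFZ : ∀ i, F i ≤ Z i)
    (hFT : ∀ i, F i ≤ zc T) {j : ι} (syl : Syl T (YY F j)) {P : Subgroup G} (hP : IsMinPar T P) (hPY : P ≤ YY F j)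
    (hPF : ¬ P ≤ centralizer (F j : Set G)) : P ≤ normalizer (V : Set G) := by
  have hT2 := syl.2.1
  have hTP : T ≤ P := hP.le
  have hT : Syl T P := ⟨hTP, hT2, fun R hR h2 hTR => syl.2.2 R (hR.trans hPY) h2 hTR⟩
  obtain ⟨l₀, hl₀, -⟩ := three j j
  have hc : P ⊓ centralizer (o2 P : Set G) ≤ o2 P := char2 h.char2 hl₀ (hF1 l₀) hFT syl hTP hPY
  have hZ : ¬ P ≤ centralizer (zc T : Set G) := fun h1 =>
    hPF (h1.trans (centralizer_le (by exact_mod_cast hFT j)))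
  have hTF : T ≤ centralizer (F j : Set G) := by
    intro t ht
    rw [mem_centralizer_iff]
    intro x hx
    exact ((mem_zc.1 (hFT j hx)).2.2 t ht).symm
  have hNB : ∀ g ∈ normalizer (bau (S : Subgroup G) : Set G), cj g V = V := fun g hg =>
    (h.fr.norm_of hg (h.com g hg)).1
  by_cases hJ : jj (S : Subgroup G) ≤ o2 P
  · intro x hx
    rw [mem_normalizer_iff_cj]
    exact hNB x (normB (LB.neg S) hT hB hP hJ ((hFZ j).trans (h.fr.Z_le j)) hTF hPF hx)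
  -- a block of `P`
  rw [← LemmaK.Main.jj_eq S hT2 hB] at hJ
  obtain ⟨L', V', hF, hLP, hsup⟩ := Var.exists_blk FF.Glob.ffthm S hT hB hP hc hJ hZ
  obtain ⟨Z', q', hFB⟩ := hF.fb
  obtain ⟨i, -, -, hN, hle, hLY, -⟩ := h.blk hFB
  have hij : i = j := by
    by_contra hne
    obtain ⟨z, hz, hz1⟩ : ∃ z ∈ F i, z ≠ 1 := by
      by_contra hcon
      push Not at hcon
      exact hF1 i ((eq_bot_iff_forall _).2 hcon)
    exact hz1 (hN.cent (hFZ i hz) fun l hl => (mem_centralizer_iff.1 (YY_le_cent hne (hPY (hLP hl))) z hz).symm)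
  subst hij
  have hZl : ∀ l, l ≠ i → ∀ r ∈ L', ∀ z ∈ Z l, r * z = z * r := fun l hl r hr z hz => h.YZ hl (hLY hr) hz
  have hVV : V' ≤ V := hle.trans (sup_le (h.fr.WV i) h.fr.ZJV)
  have hVB : V ≤ bau (S : Subgroup G) := h.fr.VQ.trans h.fr.QB
  have hsp : ∀ w ∈ W i, ∃ v ∈ V', ∃ z ∈ zc (bau (S : Subgroup G)), w = v * z := by
    intro w hw
    have hcomm : ∀ v ∈ V', ∀ z ∈ zc (bau (S : Subgroup G)), v * z = z * v := fun v hv z hz =>
      (mem_zc.1 hz).2.2 v (hN.VB hv)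
    have h2 : w ∈ V' ⊔ zc (bau (S : Subgroup G)) := by
      rw [← OM.UniPlus.sup_zc_eq (Var.nb h.fr i) hN (by rw [h.fr.zcB]; exact hle)]
      exact mem_sup_left hw
    exact mem_sup_comm hcomm h2
  have key : ∀ r ∈ L', ∀ k, ∀ w ∈ W k, r * w * r⁻¹ ∈ V := by
    intro r hr k w hw
    by_cases hk : k = i
    · subst hk
      obtain ⟨v, hv, z, hz, rfl⟩ := hsp w hw
      have h3 := hFB.nV r hr v hv
      have h4 := hFB.act r hr z hz
      have h5 : z ∈ V := h.fr.ZJV (by rw [← h.fr.zcB]; exact hz)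
      have e : r * (v * z) * r⁻¹ = (r * v * r⁻¹) * (r * z * r⁻¹ * z⁻¹) * z := by group
      rw [e]
      exact mul_mem (mul_mem (hVV h3) (hVV h4)) h5
    · have hwV := h.fr.WV k hw
      have hB1 : r * w * r⁻¹ ∈ bau (S : Subgroup G) :=
        hFB.cor r hr w (hVB hwV) fun v hv => h.fr.Vc hwV (hVV hv)
      have hQB : ∀ x ∈ bau (S : Subgroup G), (∀ v ∈ V', x * v = v * x) → r⁻¹ * x * r ∈ bau (S : Subgroup G) := by
        intro x hx hxc
        have h1 := hFB.cor r⁻¹ (inv_mem hr) x hx hxc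
        rwa [inv_inv] at h1
      have hxQ : r * w * r⁻¹ ∈ Q := by
        refine (h.fr.mem_Q _ hB1).2 fun v hv => ?_
        have h1 : (⨆ k, W k) ≤ centralizer ({r * w * r⁻¹} : Set G) := by
          refine iSup_le fun l v hv => mem_centralizer_singleton_iff.2 ?_
          by_cases hli : l = i
          · subst hli
            obtain ⟨v', hv', z, hz, rfl⟩ := hsp v hv
            have c1 : Commute (r * w * r⁻¹) v' := by
              have h2 := hFB.nV' hr hv'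
              have h3 : w * (r⁻¹ * v' * r) = r⁻¹ * v' * r * w := h.fr.Vc hwV (hVV h2)
              show r * w * r⁻¹ * v' = v' * (r * w * r⁻¹)
              calc r * w * r⁻¹ * v' = r * (w * (r⁻¹ * v' * r)) * r⁻¹ := by group
                _ = r * (r⁻¹ * v' * r * w) * r⁻¹ := by rw [h3]
                _ = v' * (r * w * r⁻¹) := by group
            have c2 : Commute (r * w * r⁻¹) z := (mem_zc.1 hz).2.2 _ hB1
            exact (c1.mul_right c2).symm.eq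
          by_cases hlk : l = k
          · subst hlk
            obtain ⟨k', hk1, hk2⟩ := three i l
            exact (h.com_three hk1 hk2 (hLY hr) hw hv).symm
          · have hvV := h.fr.WV l hv
            have h2 := (h.fr.blk l).com _ hB1 v hv
            have h3 := (h.fr.blk k).com _ (hQB v (hVB hvV) fun y hy => h.fr.Vc hvV (hVV hy)) w hw
            have h4 := hZl k hk r hr _ h3
            have e : v * (r * w * r⁻¹) * v⁻¹ * (r * w * r⁻¹)⁻¹ =
                r * (r⁻¹ * v * r * w * (r⁻¹ * v * r)⁻¹ * w⁻¹) * r⁻¹ := by group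
            have h5 : v * (r * w * r⁻¹) * v⁻¹ * (r * w * r⁻¹)⁻¹ ∈ Z k := by
              rw [e, h4, mul_inv_cancel_right]
              exact h3
            have h6 : v * (r * w * r⁻¹) * v⁻¹ * (r * w * r⁻¹)⁻¹ ∈ Z l := by
              have e2 : v * (r * w * r⁻¹) * v⁻¹ * (r * w * r⁻¹)⁻¹ =
                  (r * w * r⁻¹ * v * (r * w * r⁻¹)⁻¹ * v⁻¹)⁻¹ := by group
              rw [e2]
              exact inv_mem h2
            have h7 := h.fr.Z_inf_C h6 (h.fr.Z_le_C (Ne.symm hlk) h5)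
            exact mul_inv_eq_iff_eq_mul.1 (mul_inv_eq_one.1 h7)
        rw [h.fr.V_eq] at hv
        exact (mem_centralizer_singleton_iff.1 (h1 hv)).symm
      refine Var.fix_Z h.fr (i := k) hxQ ?_ fun y hy => ?_
      · have h1 := elem_sq h.fr.el w hwV
        have e1 : (r * w * r⁻¹) ^ 2 = r * w ^ 2 * r⁻¹ := by rw [pow_two, pow_two]; group
        rw [e1, h1]; group
      · have h3 := (h.fr.blk k).com _ (hQB y (h.fr.QB hy) fun v hv => h.fr.cQ hy (hVV hv)) w hw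
        have h4 := hZl k hk r hr _ h3
        have e : y * (r * w * r⁻¹) * y⁻¹ * (r * w * r⁻¹)⁻¹ =
            r * (r⁻¹ * y * r * w * (r⁻¹ * y * r)⁻¹ * w⁻¹) * r⁻¹ := by group
        have h5 : y * (r * w * r⁻¹) * y⁻¹ * (r * w * r⁻¹)⁻¹ ∈ Z k := by
          rw [e, h4, mul_inv_cancel_right]
          exact h3
        have e2 : r * w * r⁻¹ * y * (r * w * r⁻¹)⁻¹ * y⁻¹ = (y * (r * w * r⁻¹) * y⁻¹ * (r * w * r⁻¹)⁻¹)⁻¹ := by
          group
        rw [e2]
        exact inv_mem h5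
  have hLV : L' ≤ normalizer (V : Set G) := by
    intro r hr
    refine mem_normalizer_of_cj_le ?_
    conv_lhs => rw [h.fr.V_eq]
    rw [cj, Subgroup.map_iSup]
    refine iSup_le fun k => ?_
    rintro _ ⟨w, hw, rfl⟩
    exact key r hr k w hw
  refine hsup.trans (sup_le hLV fun t ht => ?_)
  rw [mem_normalizer_iff_cj]
  exact hNB t (Dich.two_le S hT2 hB ht)

/-- **the field `par` of `TypT`**, stage `-1`, any fields, at least three blocks. -/
theorem parT_neg (h : Bfr S Q V L W Z C A q m) (three : ∀ i j : ι, ∃ l, l ≠ i ∧ l ≠ j) {T : Subgroup G}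
    (hB : bau (S : Subgroup G) ≤ T) {F : ι → Subgroup G} (hF1 : ∀ i, F i ≠ ⊥) (hFZ : ∀ i, F i ≤ Z i)
    (hFT : ∀ i, F i ≤ zc T) (hV : ∀ g ∈ normalizer (V : Set G), ∀ i, ∃ k, cj g (W i) = W k)
    (syl : ∀ j, Syl T (YY F j)) :
    ∀ j P, IsMinPar T P → P ≤ YY F j → P ≤ centralizer (F j : Set G) ∨ ∀ i, P ≤ normalizer (W i : Set G) := by
  intro j P hP hPY
  by_cases hPF : P ≤ centralizer (F j : Set G)
  · exact Or.inl hPF
  · have h1 := norm_V h three hB hF1 hFZ hFT (syl j) hP hPY hPF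
    exact Or.inr (norm_W h.fr.dir h.fr.WjC hF1 (fun i => (hFZ i).trans (h.fr.blk i).ZV) hPY fun g hg =>
      hV g (h1 hg))

/-- **the field `par` of `TypT`** over `NegQ`, `q ≥ 4`. -/
theorem parT_negQ {ι : Type} [Finite ι] [Nonempty ι] {L W Z C A : ι → Subgroup G} {q : ℕ}
    (h : SwapV.Q.NegQ S V Q L W Z C A q) (hq : 4 ≤ q) (three : ∀ i j : ι, ∃ l, l ≠ i ∧ l ≠ j) {T : Subgroup G}
    (hB : bau (S : Subgroup G) ≤ T) {F : ι → Subgroup G} (hF1 : ∀ i, F i ≠ ⊥) (hFZ : ∀ i, F i ≤ Z i)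
    (hFT : ∀ i, F i ≤ zc T) (hV : ∀ g ∈ normalizer (V : Set G), ∀ i, ∃ k, cj g (W i) = W k)
    (syl : ∀ j, Syl T (YY F j)) :
    ∀ j P, IsMinPar T P → P ≤ YY F j → P ≤ centralizer (F j : Set G) ∨ ∀ i, P ≤ normalizer (W i : Set G) :=
  parT_neg (h.bfr hq fun i => (three i i).imp fun _ h => h.1) three hB hF1 hFZ hFT hV syl

end Cfsg.Agent.Omega.NOThreeL.RWide.ParNeg

end

section


/-!
# LEMMA ZJ+(q), step (2) (helper371 #26038 (f1)-(f3), over helper285 #25856; general `q`)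

`E` elementary abelian (`E = Ω₁Z(J(Q_b))`), `A` of maximal order in `O`, `E ≤ N C_E(A)`, `Le ≤ N` (a line `≠` the
fixed line `R`), `[A, Le] ≤ R`, `C_A(e) = C_A(Le) ≤ Q` for all `1 ≠ e ∈ Le`, `R` centralised by `A` and `Q`, `X`
centralised by `A`, `R ∩ Le X = 1`, `|R| ≤ |Le|`, some `t ∈ A` which moves `Le` normalises `Q`. If `y ∈ E` and
`[Q, y] ≤ Le X` then `[Q, y] ≤ X`.

* **`step2Q`**.
-/

set_option autoImplicit false
set_option linter.unusedVariables false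

namespace Cfsg.Agent.Omega.NOThreeL.RWide.ZJQ

open Subgroup
open Cfsg.Agent.Omega.KL.TwoS (Mx comm_of_sq sq_sup)
open Cfsg.Agent.Omega.NoFF.ThmJFam (card_sup_inf)
open Cfsg.Agent.Omega.NoFF.Basic (comm_symm)
open Cfsg.Agent.Omega.OM.KTwo (exists_mul_of_mem_sup)
open Cfsg.Agent.Omega.EDel.LamZJ (cnt)

universe u

variable {G : Type u} [Group G] [Finite G]

omit [Finite G] in
/-- `|A| = |A / A₀| |A₀|` -/
theorem card_quot {A A0 : Subgroup G} (h : A0 ≤ A) :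
    Nat.card A = Nat.card (A ⧸ A0.subgroupOf A) * Nat.card A0 := by
  have h1 := Subgroup.card_eq_card_quotient_mul_card_subgroup (A0.subgroupOf A)
  rwa [Nat.card_congr (Subgroup.subgroupOfEquivOfLe h).toEquiv] at h1

/-- `|A / A₀| ≤ |S|` from a map to `S` which separates the cosets -/
theorem card_quot_le {A A0 S : Subgroup G} (f : G → G) (hf : ∀ a ∈ A, f a ∈ S)
    (hi : ∀ a ∈ A, ∀ b ∈ A, f a = f b → a⁻¹ * b ∈ A0) : Nat.card (A ⧸ A0.subgroupOf A) ≤ Nat.card S := by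
  classical
  refine Nat.card_le_card_of_injective
    (fun τ : A ⧸ A0.subgroupOf A => (⟨f (τ.out : A), hf _ (τ.out : A).2⟩ : S)) ?_
  intro τ σ h
  have h1 : f (τ.out : A) = f (σ.out : A) := congrArg Subtype.val h
  have h2 := hi _ (τ.out : A).2 _ (σ.out : A).2 h1
  have h3 : ((τ.out : A) : A ⧸ A0.subgroupOf A) = ((σ.out : A) : A ⧸ A0.subgroupOf A) := by
    rw [QuotientGroup.eq, mem_subgroupOf]
    exact h2
  rwa [QuotientGroup.out_eq', QuotientGroup.out_eq'] at h3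

/-- the cosets `f t M` (`t` mod `A₀`) are different: `|A / A₀| |M| ≤ |L|`, and they cover `L` in case of equality -/
theorem card_cosets {A A0 L M : Subgroup G} (f : G → G) (hf : ∀ a ∈ A, f a ∈ L) (ML : M ≤ L)
    (hi : ∀ a ∈ A, ∀ b ∈ A, ∀ m ∈ M, f a = f b * m → a⁻¹ * b ∈ A0) :
    Nat.card (A ⧸ A0.subgroupOf A) * Nat.card M ≤ Nat.card L ∧
      (Nat.card L ≤ Nat.card (A ⧸ A0.subgroupOf A) * Nat.card M → ∀ y ∈ L, ∃ a ∈ A, ∃ m ∈ M, y = f a * m) := by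
  classical
  let φ : (A ⧸ A0.subgroupOf A) × M → L :=
    fun p => ⟨f (p.1.out : A) * p.2, mul_mem (hf _ (p.1.out : A).2) (ML p.2.2)⟩
  have hφ : Function.Injective φ := by
    rintro ⟨τ, m⟩ ⟨σ, n⟩ h
    have h1 : f (τ.out : A) * m = f (σ.out : A) * n := congrArg Subtype.val h
    have h2 := hi _ (τ.out : A).2 _ (σ.out : A).2 (n * (m : G)⁻¹) (mul_mem n.2 (inv_mem m.2)) (by
      rw [← mul_assoc, ← h1, mul_inv_cancel_right])
    have h3 : ((τ.out : A) : A ⧸ A0.subgroupOf A) = ((σ.out : A) : A ⧸ A0.subgroupOf A) := by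
      rw [QuotientGroup.eq, mem_subgroupOf]
      exact h2
    rw [QuotientGroup.out_eq', QuotientGroup.out_eq'] at h3
    subst h3
    have h4 : (m : G) = n := mul_left_cancel h1
    rw [Subtype.ext h4]
  have h1 := Nat.card_le_card_of_injective φ hφ
  rw [Nat.card_prod] at h1
  refine ⟨h1, fun h2 y hy => ?_⟩
  have h3 : Function.Bijective φ := by
    have : Fintype ((A ⧸ A0.subgroupOf A) × M) := Fintype.ofFinite _
    have : Fintype L := Fintype.ofFinite _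
    rw [Fintype.bijective_iff_injective_and_card]
    refine ⟨hφ, ?_⟩
    rw [← Nat.card_eq_fintype_card, ← Nat.card_eq_fintype_card, Nat.card_prod]
    exact le_antisymm h1 h2
  obtain ⟨⟨τ, m⟩, h4⟩ := h3.2 ⟨y, hy⟩
  exact ⟨(τ.out : A), (τ.out : A).2, m, m.2, (congrArg Subtype.val h4).symm⟩

/-- **Step (2) of LEMMA ZJ+(q).** -/
theorem step2Q {O E N X Q A Le R : Subgroup G} {t y : G} (hA : Mx O A) (EO : E ≤ O) (Esq : ∀ x ∈ E, x ^ 2 = 1)
    (NE : N ≤ E) (EN : E ≤ N ⊔ (E ⊓ centralizer (A : Set G))) (AE : A ≤ normalizer (E : Set G)) (LN : Le ≤ N)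
    (RE : R ≤ E) (XE : X ≤ E) (RA : ∀ r ∈ R, ∀ a ∈ A, a * r = r * a) (RQ : ∀ r ∈ R, ∀ g ∈ Q, g * r = r * g)
    (XA : ∀ x ∈ X, ∀ a ∈ A, a * x = x * a) (LR : ∀ a ∈ A, ∀ e ∈ Le, a * e * a⁻¹ * e⁻¹ ∈ R)
    (dis : ∀ x ∈ R, x ∈ Le ⊔ X → x = 1)
    (reg : ∀ a ∈ A, ∀ e ∈ Le, e ≠ 1 → a * e = e * a → ∀ e' ∈ Le, a * e' = e' * a)
    (cR : Nat.card R ≤ Nat.card Le) (ht : t ∈ A) (htL : ∃ e ∈ Le, t * e ≠ e * t)
    (AQ : ∀ a ∈ A, (∀ e ∈ Le, a * e = e * a) → a ∈ Q) (tQ : t ∈ normalizer (Q : Set G))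
    (k3 : ∀ A' : Subgroup G, Mx O A' → ∀ w ∈ N, (∀ a ∈ A', a * w * a⁻¹ * w⁻¹ ∈ X) → ∀ a ∈ A', a * w = w * a)
    (hy : y ∈ E) (hyQ : ∀ g ∈ Q, g * y * g⁻¹ * y⁻¹ ∈ Le ⊔ X) :
    ∀ g ∈ Q, g * y * g⁻¹ * y⁻¹ ∈ X := by
  have hEc : ∀ a ∈ E, ∀ b ∈ E, a * b = b * a := fun a ha b hb =>
    (mem_centralizer_iff.1 (comm_of_sq Esq ha) b hb).symm
  have hAc : ∀ a ∈ A, ∀ b ∈ A, a * b = b * a := fun a ha b hb => (mem_centralizer_iff.1 (hA.comm ha) b hb).symm
  have LE : Le ≤ E := LN.trans NE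
  have conjE : ∀ a ∈ A, ∀ x ∈ E, a * x * a⁻¹ ∈ E := fun a ha x hx => (mem_normalizer_iff.1 (AE ha) x).1 hx
  have XAc : ∀ a ∈ A, ∀ x ∈ X, a * x * a⁻¹ = x := fun a ha x hx => by rw [XA x hx a ha, mul_inv_cancel_right]
  -- elements of `Le X`
  have hLX : ∀ x ∈ Le ⊔ X, ∃ e ∈ Le, ∃ c ∈ X, x = e * c := fun x hx =>
    exists_mul_of_mem_sup (((XE.trans (comm_of_sq Esq)).trans (centralizer_le LE)).trans (centralizer_le_normalizer _)) hx
  -- `[t, e x] = [t, e]`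
  have hLXc : ∀ a ∈ A, ∀ e ∈ Le, ∀ c ∈ X, a * (e * c) * a⁻¹ * (e * c)⁻¹ = a * e * a⁻¹ * e⁻¹ := by
    intro a ha e he c hc
    calc a * (e * c) * a⁻¹ * (e * c)⁻¹ = (a * e * a⁻¹) * (a * c * a⁻¹) * c⁻¹ * e⁻¹ := by group
      _ = a * e * a⁻¹ * e⁻¹ := by rw [XAc a ha c hc, mul_inv_cancel_right]
  -- `A₀ = C_A(Le)`
  set A0 : Subgroup G := A ⊓ centralizer (Le : Set G) with hA0
  have mem0 : ∀ {a : G}, a ∈ A0 ↔ a ∈ A ∧ ∀ e ∈ Le, a * e = e * a := by
    intro a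
    rw [hA0, mem_inf, mem_centralizer_iff]
    exact and_congr_right fun _ => ⟨fun h e he => (h e he).symm, fun h e he => (h e he).symm⟩
  have A0A : A0 ≤ A := inf_le_left
  obtain ⟨e0, he0, hte0⟩ := htL
  have e0ne : e0 ≠ 1 := by
    rintro rfl
    exact hte0 (by rw [mul_one, one_mul])
  have htA0 : t ∉ A0 := fun h => hte0 ((mem0.1 h).2 e0 he0)
  -- `a e a⁻¹ = b e b⁻¹` ⟹ `a⁻¹ b ∈ A₀`
  have sep : ∀ e ∈ Le, e ≠ 1 → ∀ a ∈ A, ∀ b ∈ A, a * e * a⁻¹ = b * e * b⁻¹ → a⁻¹ * b ∈ A0 := by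
    intro e he hne a ha b hb hab
    have hm := mul_mem (inv_mem ha) hb
    refine mem0.2 ⟨hm, reg _ hm e he hne ?_⟩
    calc a⁻¹ * b * e = a⁻¹ * (b * e * b⁻¹) * b := by group
      _ = a⁻¹ * (a * e * a⁻¹) * b := by rw [hab]
      _ = e * (a⁻¹ * b) := by group
  have cAR : Nat.card (A ⧸ A0.subgroupOf A) ≤ Nat.card R := by
    refine card_quot_le (fun a => a * e0 * a⁻¹ * e0⁻¹) (fun a ha => LR a ha e0 he0) fun a ha b hb hab => ?_
    exact sep e0 he0 e0ne a ha b hb (mul_right_cancel hab)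
  have cA := card_quot A0A
  -- the group `H = C_E(A)` and the decomposition `y = w c`
  set H : Subgroup G := E ⊓ centralizer (A : Set G) with hH
  have memH : ∀ {x : G}, x ∈ H ↔ x ∈ E ∧ ∀ a ∈ A, a * x = x * a := by
    intro x
    rw [hH, mem_inf, mem_centralizer_iff]
    exact Iff.rfl
  -- `Le ∩ H = 1`
  have LH : Le ⊓ H = ⊥ := by
    rw [eq_bot_iff]
    intro x hx
    rw [mem_bot]
    by_contra hne
    exact hte0 (reg t ht x hx.1 hne ((memH.1 hx.2).2 t ht) e0 he0)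
  have LHc : Le ≤ centralizer (H : Set G) := (LE.trans (comm_of_sq Esq)).trans (centralizer_le inf_le_left)
  have cLH : Nat.card Le * Nat.card H = Nat.card (Le ⊔ H : Subgroup G) := by
    have h1 := card_sup_inf (A := Le) (B := H) LHc
    rw [LH, card_bot, mul_one] at h1
    exact h1.symm
  obtain ⟨w, hw, c, hc, rfl⟩ := exists_mul_of_mem_sup (F := N) (N := H)
    (((inf_le_left.trans (comm_of_sq Esq)).trans (centralizer_le NE)).trans (centralizer_le_normalizer _)) (EN hy)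
  have hwE : w ∈ E := NE hw
  have hcE : c ∈ E := (memH.1 hc).1
  have hcA := (memH.1 hc).2
  -- `k3` for `F C_E(F)`
  have use : ∀ F : Subgroup G, F ≤ A → (∀ f ∈ F, f * (w * c) * f⁻¹ * (w * c)⁻¹ ∈ X) →
      Mx O (F ⊔ E ⊓ centralizer (F : Set G)) → w * c ∈ E ⊓ centralizer (F : Set G) := by
    intro F FA hF hMx
    refine mem_inf.2 ⟨hy, ?_⟩
    have h1 : ∀ a ∈ F ⊔ E ⊓ centralizer (F : Set G), a * w * a⁻¹ * w⁻¹ ∈ X := by
      intro a ha
      obtain ⟨f, hf, d, hd, rfl⟩ := exists_mul_of_mem_sup (F := F) (N := E ⊓ centralizer (F : Set G))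
        (inf_le_right.trans (centralizer_le_normalizer _)) ha
      have e1 : f * d * w * (f * d)⁻¹ * w⁻¹ = f * (w * c) * f⁻¹ * (w * c)⁻¹ := by
        have e2 : d * w * d⁻¹ = w := by rw [hEc d hd.1 w hwE, mul_inv_cancel_right]
        have e3 : f * c * f⁻¹ = c := by rw [hcA f (FA hf), mul_inv_cancel_right]
        calc f * d * w * (f * d)⁻¹ * w⁻¹ = f * (d * w * d⁻¹) * f⁻¹ * w⁻¹ := by group
          _ = f * w * f⁻¹ * w⁻¹ := by rw [e2]
          _ = f * w * f⁻¹ * (c * c⁻¹) * w⁻¹ := by group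
          _ = f * w * f⁻¹ * ((f * c * f⁻¹) * c⁻¹) * w⁻¹ := by rw [e3]
          _ = f * (w * c) * f⁻¹ * (w * c)⁻¹ := by group
      rw [e1]
      exact hF f hf
    have h2 := k3 _ hMx w hw h1
    rw [mem_centralizer_iff]
    intro f hf
    have h3 := h2 f (mem_sup_left hf)
    calc f * (w * c) = f * w * c := by group
      _ = w * (f * c) := by rw [h3]; group
      _ = w * c * f := by rw [hcA f (FA hf)]; group
  set y : G := w * c with hydef
  have kE : ∀ a ∈ A, a * y * a⁻¹ * y⁻¹ ∈ E := fun a ha => mul_mem (conjE a ha y hy) (inv_mem hy)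
  have pH : 0 < Nat.card H := Nat.card_pos
  have p0 : 0 < Nat.card A0 := Nat.card_pos
  by_cases hb : ∀ x ∈ A0, x * y * x⁻¹ * y⁻¹ ∈ X
  · -- β = 1
    have cF := cnt (E := E) hA A0A
    rw [← hH] at cF
    set L : Subgroup G := E ⊓ centralizer (A0 : Set G) with hL
    have HL : H ≤ L := le_inf inf_le_left (inf_le_right.trans (centralizer_le inf_le_left))
    have LeL : Le ≤ L := fun e he => ⟨LE he, mem_centralizer_iff.2 fun a ha => (mem0.1 ha).2 e he⟩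
    have hsupL : Le ⊔ H ≤ L := sup_le LeL HL
    have cL := Subgroup.card_le_of_le hsupL
    rw [← cLH] at cL
    have hle : A0 ⊔ L ≤ O := sup_le (inf_le_left.trans hA.le) (inf_le_left.trans EO)
    have hsq : ∀ a ∈ A0 ⊔ L, a ^ 2 = 1 :=
      sq_sup (fun a ha => hA.sq a ha.1) (fun a ha => Esq a ha.1) (comm_symm inf_le_right)
    have hmax := hA.max _ hle hsq
    have cAq : Nat.card A ≤ Nat.card Le * Nat.card A0 := by
      rw [cA]
      exact Nat.mul_le_mul_right _ (cAR.trans cR)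
    have hMx : Mx O (A0 ⊔ L) := by
      refine hA.of_card hle hsq ?_
      apply Nat.le_of_mul_le_mul_right _ pH
      calc Nat.card A * Nat.card H ≤ Nat.card Le * Nat.card A0 * Nat.card H := Nat.mul_le_mul_right _ cAq
        _ = Nat.card A0 * (Nat.card Le * Nat.card H) := by ring
        _ ≤ Nat.card A0 * Nat.card L := Nat.mul_le_mul_left _ cL
        _ ≤ _ := cF
    have hLcard : Nat.card L ≤ Nat.card Le * Nat.card H := by
      apply Nat.le_of_mul_le_mul_left _ p0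
      calc Nat.card A0 * Nat.card L ≤ Nat.card (A0 ⊔ L : Subgroup G) * Nat.card H := cF
        _ ≤ Nat.card A * Nat.card H := Nat.mul_le_mul_right _ hmax
        _ ≤ Nat.card Le * Nat.card A0 * Nat.card H := Nat.mul_le_mul_right _ cAq
        _ = _ := by ring
    have hLeq : Le ⊔ H = L := Subgroup.eq_of_le_of_card_ge hsupL (by rw [← cLH]; exact hLcard)
    have hyL : y ∈ L := use A0 A0A hb hMx
    rw [← hLeq] at hyL
    obtain ⟨e1, he1, d, hd, hyd⟩ := exists_mul_of_mem_sup (F := Le) (N := H)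
      ((comm_symm LHc).trans (centralizer_le_normalizer _)) hyL
    -- `t y t⁻¹ = r y`
    have hr := LR t ht e1 he1
    set r : G := t * e1 * t⁻¹ * e1⁻¹ with hrdef
    have hty : t * y * t⁻¹ = r * y := by
      have h1 : t * d * t⁻¹ = d := by rw [(memH.1 hd).2 t ht, mul_inv_cancel_right]
      calc t * y * t⁻¹ = (t * e1 * t⁻¹) * (t * d * t⁻¹) := by rw [hyd]; group
        _ = t * e1 * t⁻¹ * e1⁻¹ * (e1 * d) := by rw [h1]; group
        _ = r * y := by rw [← hyd]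
    have htg : ∀ g ∈ Q, g * (t * y * t⁻¹) * g⁻¹ * (t * y * t⁻¹)⁻¹ = g * y * g⁻¹ * y⁻¹ := by
      intro g hg
      have h1 : g * r * g⁻¹ = r := by rw [RQ r hr g hg, mul_inv_cancel_right]
      have h2 : g * y * g⁻¹ * y⁻¹ ∈ E := (sup_le LE XE) (hyQ g hg)
      have h3 := hEc r (RE hr) _ h2
      rw [hty]
      calc g * (r * y) * g⁻¹ * (r * y)⁻¹ = (g * r * g⁻¹) * (g * y * g⁻¹ * y⁻¹) * r⁻¹ := by group
        _ = g * y * g⁻¹ * y⁻¹ := by rw [h1, h3, mul_inv_cancel_right]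
    intro g hg
    have hg' : t⁻¹ * g * t ∈ Q := by
      have h2 := (mem_normalizer_iff.1 (inv_mem tQ) g).1 hg
      rwa [inv_inv] at h2
    obtain ⟨e2, he2, x2, hx2, h2⟩ := hLX _ (hyQ _ hg')
    have e1' : t * (t⁻¹ * g * t * y * (t⁻¹ * g * t)⁻¹ * y⁻¹) * t⁻¹ = g * y * g⁻¹ * y⁻¹ := by
      rw [← htg g hg]
      group
    rw [h2] at e1'
    have h3 : t * (e2 * x2) * t⁻¹ = (t * e2 * t⁻¹ * e2⁻¹) * (e2 * x2) := by
      calc t * (e2 * x2) * t⁻¹ = (t * e2 * t⁻¹) * (t * x2 * t⁻¹) := by group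
        _ = (t * e2 * t⁻¹ * e2⁻¹) * (e2 * x2) := by rw [XAc t ht x2 hx2]; group
    have h4 : t * e2 * t⁻¹ * e2⁻¹ ∈ Le ⊔ X := by
      have h5 : t * e2 * t⁻¹ * e2⁻¹ = (g * y * g⁻¹ * y⁻¹) * (e2 * x2)⁻¹ := by
        rw [← e1', h3, mul_inv_cancel_right]
      rw [h5]
      exact mul_mem (hyQ g hg) (inv_mem (mul_mem (mem_sup_left he2) (mem_sup_right hx2)))
    have h5 := dis _ (LR t ht e2 he2) h4
    have h6 : e2 = 1 := by
      by_contra hne
      refine hte0 (reg t ht e2 he2 hne ?_ e0 he0)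
      calc t * e2 = (t * e2 * t⁻¹ * e2⁻¹) * (e2 * t) := by group
        _ = e2 * t := by rw [h5, one_mul]
    rw [h3, h5, one_mul, h6, one_mul] at e1'
    rw [← e1']
    exact hx2
  · -- β ≠ 1
    exfalso
    push Not at hb
    obtain ⟨x0, hx0, hx0'⟩ := hb
    have hx0A := (mem0.1 hx0).1
    have k0 : ∀ x ∈ A0, ∃ e ∈ Le, ∃ ξ ∈ X, x * y * x⁻¹ * y⁻¹ = e * ξ := fun x hx =>
      hLX _ (hyQ x (AQ x (mem0.1 hx).1 (mem0.1 hx).2))
    -- the elements of `A₀` centralise `Le X`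
    have c0 : ∀ x ∈ A0, ∀ m ∈ Le ⊔ X, x * m * x⁻¹ = m := by
      intro x hx m hm
      obtain ⟨e, he, ξ, hξ, rfl⟩ := hLX m hm
      have h1 : x * e * x⁻¹ = e := by rw [(mem0.1 hx).2 e he, mul_inv_cancel_right]
      calc x * (e * ξ) * x⁻¹ = (x * e * x⁻¹) * (x * ξ * x⁻¹) := by group
        _ = e * ξ := by rw [h1, XAc x (mem0.1 hx).1 ξ hξ]
    have m0 : ∀ x ∈ A0, x * y * x⁻¹ * y⁻¹ ∈ Le ⊔ X := fun x hx => hyQ x (AQ x (mem0.1 hx).1 (mem0.1 hx).2)
    -- the product formula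
    have hprod : ∀ a ∈ A0, ∀ b ∈ A0, a * b * y * (a * b)⁻¹ * y⁻¹ = (b * y * b⁻¹ * y⁻¹) * (a * y * a⁻¹ * y⁻¹) := by
      intro a ha b hb
      calc a * b * y * (a * b)⁻¹ * y⁻¹ = a * (b * y * b⁻¹ * y⁻¹) * a⁻¹ * (a * y * a⁻¹ * y⁻¹) := by group
        _ = _ := by rw [c0 a ha _ (m0 b hb)]
    -- `K = ker β`
    let K : Subgroup G :=
      { carrier := {x | x ∈ A0 ∧ x * y * x⁻¹ * y⁻¹ ∈ X}
        one_mem' := ⟨one_mem _, by simp⟩
        mul_mem' := by
          rintro a b ⟨ha, ha'⟩ ⟨hb, hb'⟩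
          refine ⟨mul_mem ha hb, ?_⟩
          rw [hprod a ha b hb]
          exact mul_mem hb' ha'
        inv_mem' := by
          rintro a ⟨ha, ha'⟩
          have h2 : a⁻¹ = a := inv_eq_of_mul_eq_one_right (by rw [← pow_two]; exact hA.sq a (mem0.1 ha).1)
          rw [h2]
          exact ⟨ha, ha'⟩ }
    have memK : ∀ {x : G}, x ∈ K ↔ x ∈ A0 ∧ x * y * x⁻¹ * y⁻¹ ∈ X := Iff.rfl
    have KA0 : K ≤ A0 := fun x hx => (memK.1 hx).1
    have KA : K ≤ A := KA0.trans inf_le_left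
    -- `|A₀ : K| ≤ |Le|`
    have cK0 := card_quot KA0
    have cK1 : Nat.card (A0 ⧸ K.subgroupOf A0) ≤ Nat.card Le := by
      classical
      choose! ε hε ξ hξ hk using k0
      refine card_quot_le ε hε fun a ha b hb hab => ?_
      refine memK.2 ⟨mul_mem (inv_mem ha) hb, ?_⟩
      have h2 : a⁻¹ = a := inv_eq_of_mul_eq_one_right (by rw [← pow_two]; exact hA.sq a (mem0.1 ha).1)
      rw [h2, hprod a ha b hb, hk a ha, hk b hb, hab]
      have h3 : ε b * ξ b * (ε b * ξ a) = ξ b * ξ a := by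
        have h4 : ε b * ε b = 1 := by rw [← pow_two]; exact Esq _ (LE (hε b hb))
        calc ε b * ξ b * (ε b * ξ a) = (ε b * ξ b) * ε b * ξ a := by group
          _ = (ξ b * ε b) * ε b * ξ a := by rw [hEc _ (LE (hε b hb)) _ (XE (hξ b hb))]
          _ = ξ b * (ε b * ε b) * ξ a := by group
          _ = ξ b * ξ a := by rw [h4, mul_one]
      rw [h3]
      exact mul_mem (hξ b hb) (hξ a ha)
    have cK : Nat.card A0 ≤ Nat.card Le * Nat.card K := by
      rw [cK0]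
      exact Nat.mul_le_mul_right _ cK1
    have cF := cnt (E := E) hA KA
    rw [← hH] at cF
    set M1 : Subgroup G := E ⊓ centralizer (A0 : Set G) with hM1
    set L : Subgroup G := E ⊓ centralizer (K : Set G) with hL
    have HM : H ≤ M1 := le_inf inf_le_left (inf_le_right.trans (centralizer_le inf_le_left))
    have ML : M1 ≤ L := le_inf inf_le_left (inf_le_right.trans (centralizer_le KA0))
    have LeM : Le ≤ M1 := fun e he => ⟨LE he, mem_centralizer_iff.2 fun a ha => (mem0.1 ha).2 e he⟩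
    have cM : Nat.card Le * Nat.card H ≤ Nat.card M1 := by
      rw [cLH]
      exact Subgroup.card_le_of_le (sup_le LeM HM)
    -- `y_t = [t, y]`
    have comt : ∀ s ∈ A, ∀ x ∈ A, x * (s * y * s⁻¹ * y⁻¹) * x⁻¹ =
        s * (x * y * x⁻¹ * y⁻¹) * s⁻¹ * (x * y * x⁻¹ * y⁻¹)⁻¹ * (s * y * s⁻¹ * y⁻¹) := by
      intro s hs x hx
      have h1 : x * s = s * x := hAc x hx s hs
      have h2 : x * (s * y * s⁻¹) * x⁻¹ = s * (x * y * x⁻¹) * s⁻¹ := by
        calc x * (s * y * s⁻¹) * x⁻¹ = (x * s) * y * (x * s)⁻¹ := by group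
          _ = s * (x * y * x⁻¹) * s⁻¹ := by rw [h1]; group
      have ytE : s * y * s⁻¹ * y⁻¹ ∈ E := kE s hs
      set yt : G := s * y * s⁻¹ * y⁻¹ with hyt
      set k : G := x * y * x⁻¹ * y⁻¹ with hk
      have h3 : x * y * x⁻¹ = k * y := by rw [hk]; group
      have h4 : x * yt * x⁻¹ = s * (x * y * x⁻¹) * s⁻¹ * (x * y * x⁻¹)⁻¹ := by
        rw [← h2, hyt]
        group
      rw [h4, h3]
      have h5 : k⁻¹ * yt = yt * k⁻¹ := hEc _ (inv_mem (kE x hx)) _ ytE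
      calc s * (k * y) * s⁻¹ * (k * y)⁻¹ = s * k * s⁻¹ * (s * y * s⁻¹ * y⁻¹) * k⁻¹ := by group
        _ = s * k * s⁻¹ * (yt * k⁻¹) := by rw [← hyt]; group
        _ = s * k * s⁻¹ * k⁻¹ * yt := by rw [← h5]; group
    -- `y_s ∈ L`
    have ytL : ∀ s ∈ A, s * y * s⁻¹ * y⁻¹ ∈ L := by
      intro s hs
      refine ⟨kE s hs, mem_centralizer_iff.2 fun x hx => ?_⟩
      have h1 := comt s hs x (KA hx)
      rw [XAc s hs _ (memK.1 hx).2, mul_inv_cancel, one_mul] at h1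
      calc x * (s * y * s⁻¹ * y⁻¹) = x * (s * y * s⁻¹ * y⁻¹) * x⁻¹ * x := by group
        _ = (s * y * s⁻¹ * y⁻¹) * x := by rw [h1]
    obtain ⟨ex, hex, ξx, hξx, hkx⟩ := k0 x0 hx0
    have exne : ex ≠ 1 := by
      rintro rfl
      rw [one_mul] at hkx
      exact hx0' (hkx ▸ hξx)
    -- `x₀ y_s x₀⁻¹ y_s⁻¹ = [s, e_x]`
    have comx : ∀ s ∈ A, x0 * (s * y * s⁻¹ * y⁻¹) * x0⁻¹ = s * ex * s⁻¹ * ex⁻¹ * (s * y * s⁻¹ * y⁻¹) := by
      intro s hs
      rw [comt s hs x0 hx0A, hkx, hLXc s hs ex hex ξx hξx]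
    have hcos := card_cosets (A := A) (A0 := A0) (L := L) (M := M1) (fun s => s * y * s⁻¹ * y⁻¹) ytL ML (by
      intro a ha b hb m hm hab
      refine sep ex hex exne a ha b hb ?_
      have h1 : x0 * m * x0⁻¹ = m := by
        rw [mem_centralizer_iff.1 hm.2 x0 hx0, mul_inv_cancel_right]
      have h2 := comx a ha
      have h3 := comx b hb
      have hab' : a * y * a⁻¹ * y⁻¹ = (b * y * b⁻¹ * y⁻¹) * m := hab
      rw [hab'] at h2
      have h4 : x0 * ((b * y * b⁻¹ * y⁻¹) * m) * x0⁻¹ =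
          b * ex * b⁻¹ * ex⁻¹ * ((b * y * b⁻¹ * y⁻¹) * m) := by
        calc x0 * ((b * y * b⁻¹ * y⁻¹) * m) * x0⁻¹ =
            (x0 * (b * y * b⁻¹ * y⁻¹) * x0⁻¹) * (x0 * m * x0⁻¹) := by group
          _ = b * ex * b⁻¹ * ex⁻¹ * (b * y * b⁻¹ * y⁻¹) * m := by rw [h3, h1]
          _ = _ := by group
      rw [h4] at h2
      exact (mul_right_cancel (mul_right_cancel h2)).symm)
    obtain ⟨hc1, hc2⟩ := hcos
    set m : ℕ := Nat.card (A ⧸ A0.subgroupOf A) with hm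
    have hle : K ⊔ L ≤ O := sup_le (KA.trans hA.le) (inf_le_left.trans EO)
    have hsq : ∀ a ∈ K ⊔ L, a ^ 2 = 1 :=
      sq_sup (fun a ha => hA.sq a (KA ha)) (fun a ha => Esq a ha.1) (comm_symm inf_le_right)
    have hmax := hA.max _ hle hsq
    have hMx : Mx O (K ⊔ L) := by
      refine hA.of_card hle hsq ?_
      apply Nat.le_of_mul_le_mul_right _ pH
      calc Nat.card A * Nat.card H = m * Nat.card A0 * Nat.card H := by rw [cA]
        _ ≤ m * (Nat.card Le * Nat.card K) * Nat.card H :=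
            Nat.mul_le_mul_right _ (Nat.mul_le_mul_left _ cK)
        _ = Nat.card K * (m * (Nat.card Le * Nat.card H)) := by ring
        _ ≤ Nat.card K * (m * Nat.card M1) := Nat.mul_le_mul_left _ (Nat.mul_le_mul_left _ cM)
        _ ≤ Nat.card K * Nat.card L := Nat.mul_le_mul_left _ hc1
        _ ≤ _ := cF
    have hLcard : Nat.card L ≤ m * Nat.card M1 := by
      have pK : 0 < Nat.card K := Nat.card_pos
      apply Nat.le_of_mul_le_mul_left _ pK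
      calc Nat.card K * Nat.card L ≤ Nat.card (K ⊔ L : Subgroup G) * Nat.card H := cF
        _ ≤ Nat.card A * Nat.card H := Nat.mul_le_mul_right _ hmax
        _ = m * Nat.card A0 * Nat.card H := by rw [cA]
        _ ≤ m * (Nat.card Le * Nat.card K) * Nat.card H :=
            Nat.mul_le_mul_right _ (Nat.mul_le_mul_left _ cK)
        _ = Nat.card K * (m * (Nat.card Le * Nat.card H)) := by ring
        _ ≤ Nat.card K * (m * Nat.card M1) := Nat.mul_le_mul_left _ (Nat.mul_le_mul_left _ cM)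
    have hyL : y ∈ L := use K KA (fun f hf => (memK.1 hf).2) hMx
    obtain ⟨s, hs, n, hn, hys⟩ := hc2 hLcard y hyL
    -- `[x₀, y] = [s, e_x] ∈ R`
    have h1 : x0 * n * x0⁻¹ = n := by
      rw [mem_centralizer_iff.1 hn.2 x0 hx0, mul_inv_cancel_right]
    have hys' : y = (s * y * s⁻¹ * y⁻¹) * n := hys
    have h2 : x0 * y * x0⁻¹ * y⁻¹ = s * ex * s⁻¹ * ex⁻¹ := by
      have h3 : x0 * y * x0⁻¹ = s * ex * s⁻¹ * ex⁻¹ * y := by
        calc x0 * y * x0⁻¹ = x0 * ((s * y * s⁻¹ * y⁻¹) * n) * x0⁻¹ := by rw [← hys']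
          _ = (x0 * (s * y * s⁻¹ * y⁻¹) * x0⁻¹) * (x0 * n * x0⁻¹) := by group
          _ = s * ex * s⁻¹ * ex⁻¹ * ((s * y * s⁻¹ * y⁻¹) * n) := by rw [comx s hs, h1]; group
          _ = s * ex * s⁻¹ * ex⁻¹ * y := by rw [← hys']
      rw [h3, mul_inv_cancel_right]
    have h3 := dis _ (LR s hs ex hex) (h2 ▸ m0 x0 hx0)
    rw [h3] at h2
    exact hx0' (h2 ▸ one_mem _)

end Cfsg.Agent.Omega.NOThreeL.RWide.ZJQ

end

end

-- merged: Cfsg.Agent.Mrg.Omega.OM.SwapV.Q.UniK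
section

section


/-!
# UNI+ for the blocks of stage `K₀` over `B = C_S(Ω₁Z(nxt S K₀))`, any weakly closed level `K₀`, any `q`

* `V_le` : an FF-block `L' ≤ N_G(K₀)` over `B` has its module in `Ω₁Z(K₀)`;
* `uniK` : it has an index `i` of the frame `FrL B Q V (zc K₀) ZJ ..`;
* `exists_blkK` : a minimal parabolic `Y` over `T ≥ B` with `K₀ ≤ O₂(Y)`, `nxt S K₀ ≰ O₂(Y)`, `[Ω₁Z(T), Y] ≠ 1` is
  generated by `T` and such a block;
* `qfK` : the frame `QF` at the level `K₀`; `exists_blkK8` : then `L' ≤ L i ⊔ C_G(W i ⊔ Z_J)` if `q ≥ 8`.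
-/

set_option autoImplicit false
set_option linter.unusedSectionVars false

namespace Cfsg.Agent.Omega.OM.SwapV.Q.UniK

open Subgroup Cfsg Cfsg.Agent.ZN.ChoiceBase Cfsg.Agent.ZN.ChoiceSit
open Cfsg.Agent.ZN (jj zj bau zc zl o2)
open Cfsg.Agent.MinSimple.MinParabolic (IsMinPar)
open Cfsg.Agent.Omega.NO3S.Level (nxt Lev)
open Cfsg.Agent.Omega.OM.LevB (FBlk)
open Cfsg.Agent.Omega.OM.Lev.Uni (FrL)
open Cfsg.Agent.Omega.OM.Uni (FB)
open Cfsg.Agent.Omega.OM.UniPlus (NB)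
open Cfsg.Agent.Omega.OM.SwapK (WL BK ZK)
open Cfsg.Agent.Omega.SQ1.Bau (elem_sq)

universe u

variable {G : Type u} [Group G] [Finite G] {ι : Type} {S : Sylow 2 G} {K₀ V Q : Subgroup G}
  {L W Z C A : ι → Subgroup G} {q : ℕ}

/-- the module of a block `L' ≤ N_G(K₀)` lies in `Ω₁Z(K₀)` -/
theorem V_le (wl : WL S K₀) {L' V' : Subgroup G} (h : FBlk (BK (S : Subgroup G) K₀) L' V')
    (hn : L' ≤ normalizer (K₀ : Set G)) : V' ≤ zc K₀ := by
  have hf : Fact (Nat.Prime 2) := ⟨Nat.prime_two⟩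
  obtain ⟨Z', q', hF⟩ := h.fb
  have hBS : BK (S : Subgroup G) K₀ ≤ (S : Subgroup G) := inf_le_left
  have h1 := h.blk.le_centralizer (S.isPGroup'.to_le wl.lev.le) hn
  exact fun v hv => wl.lev.mem_of_comm (hBS (hF.VB hv)) (elem_sq hF.el v hv) fun y hy =>
    (mem_centralizer_iff.1 (h1 hy) v hv).symm

/-- `N_G(B)` permutes the `Z i` -/
theorem norm [Finite ι] (wl : WL S K₀)
    (fr : FrL (BK (S : Subgroup G) K₀) Q V (zc K₀) (ZK (S : Subgroup G) K₀) L W Z C A q) {g : G}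
    (hg : g ∈ normalizer (BK (S : Subgroup G) K₀ : Set G)) :
    cj g V = V ∧ ∀ i, ∃ j, cj g (Z i) = Z j ∧ cj g (W i) ≤ W j ⊔ ZK (S : Subgroup G) K₀ :=
  fr.norm_of hg (NO3S.Level.normalizer_le_zc _ (wl.norm_B hg))

/-- **UNI+ for the blocks in `N_G(K₀)`.** -/
theorem uniK [Finite ι] (wl : WL S K₀)
    (fr : FrL (BK (S : Subgroup G) K₀) Q V (zc K₀) (ZK (S : Subgroup G) K₀) L W Z C A q) {L' V' : Subgroup G}
    (h : FBlk (BK (S : Subgroup G) K₀) L' V') (hn : L' ≤ normalizer (K₀ : Set G)) :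
    ∃ i, NB (BK (S : Subgroup G) K₀) L' V' (Z i) q ∧ V' ≤ W i ⊔ ZK (S : Subgroup G) K₀ ∧
      (∀ z ∈ ZK (S : Subgroup G) K₀, z ∈ C i ↔ ∀ l ∈ L', l * z = z * l) ∧
        (q = 2 → V' = W i ∧ L' ≤ L i ⊔ centralizer ((W i ⊔ ZK (S : Subgroup G) K₀ : Subgroup G) : Set G)) := by
  have hX := V_le wl h hn
  obtain ⟨⟨Z', q', hF⟩, hb⟩ := h
  obtain ⟨-, i, -, h1, h2, h3, h4⟩ := Cfsg.Agent.Omega.OM.Lev.UniPlus.uniPlusX fr wl.lb.Bp wl.wcB
    (fun g hg j => by obtain ⟨k, hk, -⟩ := (norm wl fr hg).2 j; exact ⟨k, hk⟩) hF hX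
  exact ⟨i, h1, h2, h3, h4⟩

/-- **A minimal parabolic of stage `K₀` is generated by `T` and a block with an index.** -/
theorem exists_blkK [Finite ι] (wl : WL S K₀)
    (fr : FrL (BK (S : Subgroup G) K₀) Q V (zc K₀) (ZK (S : Subgroup G) K₀) L W Z C A q) {T Y : Subgroup G}
    (hT : Syl T Y) (hB : BK (S : Subgroup G) K₀ ≤ T) (hP : IsMinPar T Y)
    (hc : Y ⊓ centralizer (o2 Y : Set G) ≤ o2 Y) (hK : K₀ ≤ o2 Y) (hn : ¬ nxt (S : Subgroup G) K₀ ≤ o2 Y)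
    (hZ : ¬ Y ≤ centralizer (zc T : Set G)) :
    ∃ i, ∃ L' V' : Subgroup G, L' ≤ Y ∧ Y ≤ T ⊔ L' ∧ NB (BK (S : Subgroup G) K₀) L' V' (Z i) q ∧
      V' ≤ W i ⊔ ZK (S : Subgroup G) K₀ ∧
      (∀ z ∈ ZK (S : Subgroup G) K₀, z ∈ C i ↔ ∀ l ∈ L', l * z = z * l) ∧
        (q = 2 → V' = W i ∧ L' ≤ L i ⊔ centralizer ((W i ⊔ ZK (S : Subgroup G) K₀ : Subgroup G) : Set G)) := by
  obtain ⟨L', V', h1, h2, h3⟩ := wl.exists_fblk hT hB hP hc hK hn hZ
  have h4 : L' ≤ normalizer (K₀ : Set G) :=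
    h1.trans ((le_normalizer_o2 Y).trans (wl.norm_T (isPGroup_o2 Y) hK))
  obtain ⟨i, h5, h6, h7, h8⟩ := uniK wl fr h2 h4
  exact ⟨i, L', V', h1, h3, h5, h6, h7, h8⟩

/-- `L' ≤ C_G(Z_J ∩ C i)` -/
theorem exists_cent [Finite ι] (wl : WL S K₀)
    (fr : FrL (BK (S : Subgroup G) K₀) Q V (zc K₀) (ZK (S : Subgroup G) K₀) L W Z C A q) {T Y : Subgroup G}
    (hT : Syl T Y) (hB : BK (S : Subgroup G) K₀ ≤ T) (hP : IsMinPar T Y)
    (hc : Y ⊓ centralizer (o2 Y : Set G) ≤ o2 Y) (hK : K₀ ≤ o2 Y) (hn : ¬ nxt (S : Subgroup G) K₀ ≤ o2 Y)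
    (hZ : ¬ Y ≤ centralizer (zc T : Set G)) :
    ∃ i, Y ≤ T ⊔ centralizer ((ZK (S : Subgroup G) K₀ ⊓ C i : Subgroup G) : Set G) := by
  obtain ⟨i, L', V', -, h2, -, -, h5, -⟩ := exists_blkK wl fr hT hB hP hc hK hn hZ
  exact ⟨i, h2.trans (sup_le_sup_left (fun l hl => mem_centralizer_iff.2 fun z hz =>
    ((h5 z hz.1).1 hz.2 l hl).symm) _)⟩

/-- **The frame `QF` at the level `K₀`.** -/
theorem qfK [Finite ι] (wl : WL S K₀)
    (fr : FrL (BK (S : Subgroup G) K₀) Q V (zc K₀) (ZK (S : Subgroup G) K₀) L W Z C A q)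
    (co : ∀ i, ∃ (F : Type) (_ : Field F) (_ : Finite F) (_ : CharP F 2), Nat.card F = q ∧
      ∃ e : G → F × F, Cor F (S : Subgroup G) (BK (S : Subgroup G) K₀) L W Z i e) :
    QF (S : Subgroup G) (BK (S : Subgroup G) K₀) V (ZK (S : Subgroup G) K₀) L W Z C q where
  B2 := wl.lb.Bp
  BS := wl.lb.BS
  wc := wl.wcB
  syl := fun R hR hR2 hBR => wl.lb.syl.2.2 R hR hR2 hBR
  sq := wl.lb.sq
  Bc := wl.lb.Bc
  zcB := fr.zcB
  Vc := fun v hv w hw => fr.Vc hv hw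
  WV := fr.WV
  CV := fr.CV
  ZJV := fr.ZJV
  dir := fr.dir
  WjC := fr.WjC
  blk := fr.blk
  nb := fun i => ⟨fr.blk i, fr.cardZ i⟩
  cardZ := fr.cardZ
  Zle := fr.Z_le
  split := fun i z hz => by
    obtain ⟨w, hw, c, hc, hcJ, e⟩ := fr.split_ZJ i hz
    exact ⟨w, hw, c, hcJ, hc, e⟩
  LC := fr.LC
  root := fun i w hw hwZ z hz => by
    obtain ⟨a, ha, e⟩ := SWQ.ModQ.root fr hw hwZ hz
    exact ⟨a, fr.AB i ha, e⟩
  norm := fun _ hg i => (norm wl fr hg).2 i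
  co := co

/-- **A minimal parabolic of stage `K₀` lies in `⟨T, L i, C_G(Z_J)⟩`** (`q ≥ 8`). -/
theorem exists_blkK8 [Finite ι] (wl : WL S K₀)
    (fr : FrL (BK (S : Subgroup G) K₀) Q V (zc K₀) (ZK (S : Subgroup G) K₀) L W Z C A q)
    (co : ∀ i, ∃ (F : Type) (_ : Field F) (_ : Finite F) (_ : CharP F 2), Nat.card F = q ∧
      ∃ e : G → F × F, Cor F (S : Subgroup G) (BK (S : Subgroup G) K₀) L W Z i e) (hq : 8 ≤ q) {T Y : Subgroup G}
    (hT : Syl T Y) (hB : BK (S : Subgroup G) K₀ ≤ T) (hP : IsMinPar T Y)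
    (hc : Y ⊓ centralizer (o2 Y : Set G) ≤ o2 Y) (hK : K₀ ≤ o2 Y) (hn : ¬ nxt (S : Subgroup G) K₀ ≤ o2 Y)
    (hZ : ¬ Y ≤ centralizer (zc T : Set G)) :
    ∃ i, Y ≤ T ⊔ (L i ⊔ centralizer (ZK (S : Subgroup G) K₀ : Set G)) := by
  obtain ⟨i, L', V', -, h2, h3, h4, h5, -⟩ := exists_blkK wl fr hT hB hP hc hK hn hZ
  obtain ⟨-, h6⟩ := (qfK wl fr co).uniTwo8 hq h3 h4 fun z hz hzC => (h5 z hz).1 hzC
  refine ⟨i, h2.trans (sup_le_sup_left (h6.trans (sup_le_sup_left (centralizer_le ?_) _)) _)⟩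
  exact_mod_cast (le_sup_right : ZK (S : Subgroup G) K₀ ≤ W i ⊔ ZK (S : Subgroup G) K₀)

end Cfsg.Agent.Omega.OM.SwapV.Q.UniK

end

section


/-!
# `K_0 = ⟨C_G(Z_J), the FF-blocks over B which normalise K₀⟩` over any weakly closed level `K₀`, any `q`

* `FQ`, `KQ` : the family of FF-blocks `L' ≤ N_G(K₀)` over `B = BK S K₀`, and `K_0`;
* `fam`, `norm_KQ`, `L_le` : `N_G(B)` normalises `KQ`, `L i ≤ KQ`;
* `KQ_le` : `KQ ≤ X` if all `C_G(Z_J ∩ C i) ≤ X`; `KQ_le8` : `KQ ≤ X` if `C_G(Z_J), L i ≤ X` and `q ≥ 8`;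
* `par_le` : a minimal parabolic `Y` over `T ≥ B` with `K₀ ≤ O₂(Y)`, `[Ω₁Z(T), Y] ≠ 1` lies in `⟨KQ, N_G(B)⟩`;
* `dich` : if `KQ` normalises a 2-group `≠ 1` then `O = O₂(KQ) ≠ 1`, `O ≤ B`, `⟨KQ, N_G(B)⟩ ≤ N_G(O)`.
-/

set_option autoImplicit false
set_option linter.unusedSectionVars false

namespace Cfsg.Agent.Omega.OM.SwapV.Q.UniK

open Subgroup Cfsg Cfsg.Agent.ZN.ChoiceBase Cfsg.Agent.ZN.ChoiceSit
open Cfsg.Agent.ZN (jj zj bau zc zl o2)
open Cfsg.Agent.MinSimple.MinParabolic (IsMinPar)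
open Cfsg.Agent.Omega.NO3S.Level (nxt Lev)
open Cfsg.Agent.Omega.OM.LevB (FBlk)
open Cfsg.Agent.Omega.OM.Lev.Uni (FrL)
open Cfsg.Agent.Omega.OM.LevD (Fam K0)
open Cfsg.Agent.Omega.OM.SwapK (WL BK ZK)

universe u

variable {G : Type u} [Group G]

/-- The FF-blocks over `B = BK S K₀` which normalise `K₀`. -/
def FQ (S K₀ L' V' : Subgroup G) : Prop := FBlk (BK S K₀) L' V' ∧ L' ≤ normalizer (K₀ : Set G)

/-- `K_0 = ⟨C_G(Z_J), FQ⟩` -/
noncomputable def KQ (S K₀ : Subgroup G) : Subgroup G := K0 (ZK S K₀) (FQ S K₀)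

variable [Finite G] {ι : Type} {S : Sylow 2 G} {K₀ V Q : Subgroup G} {L W Z C A : ι → Subgroup G} {q : ℕ}

theorem cent_le_KQ : centralizer (ZK (S : Subgroup G) K₀ : Set G) ≤ KQ (S : Subgroup G) K₀ := LevD.cent_le_K0

theorem blk_le_KQ {L' V' : Subgroup G} (h : FBlk (BK (S : Subgroup G) K₀) L' V')
    (hn : L' ≤ normalizer (K₀ : Set G)) : L' ≤ KQ (S : Subgroup G) K₀ := LevD.blk_le_K0 (𝓑 := FQ _ _) ⟨h, hn⟩

/-- the frame's blocks are in the family -/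
theorem fblk (wl : WL S K₀) (fr : FrL (BK (S : Subgroup G) K₀) Q V (zc K₀) (ZK (S : Subgroup G) K₀) L W Z C A q)
    (hn : ∀ i, L i ≤ normalizer (K₀ : Set G)) (i : ι) : FQ (S : Subgroup G) K₀ (L i) (W i) :=
  ⟨⟨⟨_, _, fr.blk i⟩, (fr.blk i).toBlock (fr.cardZ i) wl.lb.Bp wl.lb.weakNormal⟩, hn i⟩

theorem L_le (wl : WL S K₀) (fr : FrL (BK (S : Subgroup G) K₀) Q V (zc K₀) (ZK (S : Subgroup G) K₀) L W Z C A q)
    (hn : ∀ i, L i ≤ normalizer (K₀ : Set G)) (i : ι) : L i ≤ KQ (S : Subgroup G) K₀ :=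
  LevD.blk_le_K0 (fblk wl fr hn i)

/-- **`FQ` is a family of blocks.** -/
theorem fam [Finite ι] (wl : WL S K₀)
    (fr : FrL (BK (S : Subgroup G) K₀) Q V (zc K₀) (ZK (S : Subgroup G) K₀) L W Z C A q)
    (hn : ∀ i, L i ≤ normalizer (K₀ : Set G)) :
    Fam (BK (S : Subgroup G) K₀) (ZK (S : Subgroup G) K₀) (FQ (S : Subgroup G) K₀) where
  blk := fun _ _ h => h.1.blk
  conj := fun n hn' L' V' h => ⟨h.1.conj hn', by
    have h1 := mem_normalizer_iff_cj.1 (wl.norm_B hn')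
    have h2 := cj_mono n h.2
    rw [cj_normalizer] at h2
    rwa [h1] at h2⟩
  zj_le := (Cfsg.Agent.Omega.OM.Lev.Low.zj_le fr fun i => ((fr.blk i).ZV.trans (le_iSup W i))).trans (iSup_le fun i => le_iSup
    (fun i : {x : Subgroup G × Subgroup G // FQ (S : Subgroup G) K₀ x.1 x.2} => i.1.2) ⟨(L i, W i), fblk wl fr hn i⟩)

/-- **`N_G(B)` normalises `KQ`.** -/
theorem norm_KQ [Finite ι] (wl : WL S K₀)
    (fr : FrL (BK (S : Subgroup G) K₀) Q V (zc K₀) (ZK (S : Subgroup G) K₀) L W Z C A q)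
    (hn : ∀ i, L i ≤ normalizer (K₀ : Set G)) :
    normalizer (BK (S : Subgroup G) K₀ : Set G) ≤ normalizer (KQ (S : Subgroup G) K₀ : Set G) :=
  LevD.norm_K0 wl.lb (fam wl fr hn)

/-- **`KQ ≤ X` if all `C_G(Z_J ∩ C i) ≤ X`.** -/
theorem KQ_le [Finite ι] [Nonempty ι] (wl : WL S K₀)
    (fr : FrL (BK (S : Subgroup G) K₀) Q V (zc K₀) (ZK (S : Subgroup G) K₀) L W Z C A q) {X : Subgroup G}
    (hX : ∀ i, centralizer ((ZK (S : Subgroup G) K₀ ⊓ C i : Subgroup G) : Set G) ≤ X) :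
    KQ (S : Subgroup G) K₀ ≤ X := by
  refine sup_le ?_ (iSup_le ?_)
  · refine le_trans (centralizer_le ?_) (hX (Classical.arbitrary ι))
    exact_mod_cast (inf_le_left : ZK (S : Subgroup G) K₀ ⊓ C _ ≤ _)
  · rintro ⟨⟨L', V'⟩, h, hn⟩
    obtain ⟨i, -, -, h1, -⟩ := uniK wl fr h hn
    exact le_trans (fun l hl => mem_centralizer_iff.2 fun z hz => ((h1 z hz.1).1 hz.2 l hl).symm) (hX i)

/-- **`KQ ≤ X` if `C_G(Z_J), L i ≤ X`, `q ≥ 8`.** -/
theorem KQ_le8 [Finite ι] (wl : WL S K₀)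
    (fr : FrL (BK (S : Subgroup G) K₀) Q V (zc K₀) (ZK (S : Subgroup G) K₀) L W Z C A q)
    (co : ∀ i, ∃ (F : Type) (_ : Field F) (_ : Finite F) (_ : CharP F 2), Nat.card F = q ∧
      ∃ e : G → F × F, Cor F (S : Subgroup G) (BK (S : Subgroup G) K₀) L W Z i e) (hq : 8 ≤ q) {X : Subgroup G}
    (hD : centralizer (ZK (S : Subgroup G) K₀ : Set G) ≤ X) (hL : ∀ i, L i ≤ X) : KQ (S : Subgroup G) K₀ ≤ X := by
  refine sup_le hD (iSup_le ?_)
  rintro ⟨⟨L', V'⟩, h, hn⟩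
  obtain ⟨i, h3, h4, h5, -⟩ := uniK wl fr h hn
  obtain ⟨-, h6⟩ := (qfK wl fr co).uniTwo8 hq h3 h4 fun z hz hzC => (h5 z hz).1 hzC
  refine h6.trans (sup_le (hL i) ((centralizer_le ?_).trans hD))
  exact_mod_cast (le_sup_right : ZK (S : Subgroup G) K₀ ≤ W i ⊔ ZK (S : Subgroup G) K₀)

/-- **Minimal parabolics of stage `≥ K₀` which move `Ω₁Z(T)` lie in `⟨KQ, N_G(B)⟩`.** -/
theorem par_le (wl : WL S K₀) {T Y : Subgroup G} (hT : Syl T Y) (hB : BK (S : Subgroup G) K₀ ≤ T)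
    (hP : IsMinPar T Y) (hc : Y ⊓ centralizer (o2 Y : Set G) ≤ o2 Y) (hK : K₀ ≤ o2 Y)
    (hZ : ¬ Y ≤ centralizer (zc T : Set G)) :
    Y ≤ KQ (S : Subgroup G) K₀ ⊔ normalizer (BK (S : Subgroup G) K₀ : Set G) := by
  by_cases hn : nxt (S : Subgroup G) K₀ ≤ o2 Y
  · refine ((le_normalizer_o2 Y).trans (wl.lb.nrm _ (isPGroup_o2 Y) hn)).trans ?_
    exact wl.lb.norm_zj_le.trans (sup_le_sup_right cent_le_KQ _)
  · obtain ⟨L', V', h1, h2, h3⟩ := wl.exists_fblk hT hB hP hc hK hn hZ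
    have h4 : L' ≤ normalizer (K₀ : Set G) :=
      h1.trans ((le_normalizer_o2 Y).trans (wl.norm_T (isPGroup_o2 Y) hK))
    exact h3.trans (sup_le ((wl.lb.two_le hT.2.1 hB).trans le_sup_right) ((blk_le_KQ h2 h4).trans le_sup_left))

/-- **If `KQ` normalises a 2-group `≠ 1` then `O₂(KQ) ≠ 1` lies in `B`, and `⟨KQ, N_G(B)⟩` normalises it.** -/
theorem dich [Finite ι] (wl : WL S K₀)
    (fr : FrL (BK (S : Subgroup G) K₀) Q V (zc K₀) (ZK (S : Subgroup G) K₀) L W Z C A q)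
    (hn : ∀ i, L i ≤ normalizer (K₀ : Set G)) {R : Subgroup G} (hR : IsPGroup 2 R) (hR1 : R ≠ ⊥)
    (hK : KQ (S : Subgroup G) K₀ ≤ normalizer (R : Set G)) :
    o2 (KQ (S : Subgroup G) K₀) ≠ ⊥ ∧ o2 (KQ (S : Subgroup G) K₀) ≤ BK (S : Subgroup G) K₀ ∧
      KQ (S : Subgroup G) K₀ ⊔ normalizer (BK (S : Subgroup G) K₀ : Set G) ≤
        normalizer (o2 (KQ (S : Subgroup G) K₀) : Set G) :=
  (fam wl fr hn).dich wl.lb hR hR1 hK

/-- `O₂(X) ≤ O₂(KQ)` for `X ≥ KQ` with `O₂(X) ≤ C_G(Z_J)` -/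
theorem o2_le_KQ {X : Subgroup G} (hX : KQ (S : Subgroup G) K₀ ≤ X)
    (hc : o2 X ≤ centralizer (ZK (S : Subgroup G) K₀ : Set G)) : o2 X ≤ o2 (KQ (S : Subgroup G) K₀) :=
  le_o2 (isPGroup_o2 X) (hc.trans cent_le_KQ) (hX.trans (le_normalizer_o2 X))

end Cfsg.Agent.Omega.OM.SwapV.Q.UniK

end

end

-- merged: Cfsg.Agent.Mrg.Omega.NOThreeL.RRed.QFr.FrameD
section

section


/-!
# NO-3L, box R, natural blocks, `q ≥ 4` : the frame with `L i ≤ D i · C_G(Z_J)`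

* `XX_le_D` : the group over the block `i` lies in `D i · C_G(Z_J)`;
* `exists_L'`, **`exists_frL'`** : 461's `exists_L`, `exists_frL` (`QFr/Frame.lean`) with this additional output;
* **`exists_top'`** : `exists_top` (`QFr/Top.lean`) with the additional output `L i ≤ D i ⊔ C_G(Z_J)`.
-/

set_option autoImplicit false
set_option linter.unusedSectionVars false

namespace Cfsg.Agent.Omega.NOThreeL.RRed.QFr

open Subgroup Cfsg Cfsg.Agent.ZN Cfsg.Agent.ZN.ChoiceBase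
open Cfsg.Agent.Lib.SL2Mat
open Cfsg.Agent.Omega.NatPair hiding cj
open Cfsg.Agent.Omega.SQ1.Bau (mem_sup_comm card_sup_comm elem_comm elem_sq mem_sup_norm)
open Cfsg.Agent.Omega.OM.Lev.Uni (Best FrL)
open Cfsg.Agent.Omega.OM.Uni (FB NX)
open Cfsg.Agent.Omega.FFThm (ElemM)
open Cfsg.Agent.Omega.NO3S.OneLine (BFam)
open Cfsg.Agent.Omega.OM.FourF (Act)
open Cfsg.Agent.Omega.OM.SwapV.Q (CorA Cor cj_eq_of_comm)

universe u

variable {G : Type u} [Group G]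

variable {ι : Type} {S : Sylow 2 G} {M V : Subgroup G} {N D l C : ι → Subgroup G} {q : ℕ} {X L J : Subgroup G}
  {AA : Set (Subgroup G)} (h : Lq S M V N D l C q X L J AA)

/-- **the group over the block `i` lies in `D i · C(Z_J)`** -/
theorem XX_le_D [Finite G] {F : Type} [Field F] (e : G → F × F) (i : ι) (c : CorA F (S : Subgroup G) (N i) (l i) e)
    (s : SLA F (D i) (N i) e) : XX e i h ≤ D i ⊔ centralizer (ZJ V J : Set G) := by
  intro m hm
  obtain ⟨A, hA⟩ := hm.2.2.1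
  obtain ⟨g, hg, hga⟩ := s.lift (ent A 0 0) (ent A 0 1) (ent A 1 0) (ent A 1 1) (det_eq A)
  have hgX : g ∈ XX e i h := D_le_XX h e i s hg
  -- `m` and `g` agree on `N i`
  have hag : ∀ v ∈ N i, g * v * g⁻¹ = m * v * m⁻¹ := by
    intro v hv
    refine c.inj _ (XX_norm h e i hgX i v hv) _ (XX_norm h e i hm i v hv) ?_
    rw [hga v hv, pv_act hA v hv]
  have hx : g⁻¹ * m ∈ XX e i h := mul_mem (inv_mem hgX) hm
  have hc : g⁻¹ * m ∈ centralizer (ZJ V J : Set G) := by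
    refine mem_centralizer_iff.2 fun z hz => (h.cent_ZJ hx.1 (fun j => XX_norm h e i hx j) (fun j => ?_) hz).symm
    by_cases hj : j = i
    · subst hj
      intro z hz
      have h1 := hag z (h.b.lN j hz)
      have h2 : m * z = g * z * g⁻¹ * m := by rw [h1]; group
      calc g⁻¹ * m * z = g⁻¹ * (m * z) := by group
        _ = g⁻¹ * (g * z * g⁻¹ * m) := by rw [h2]
        _ = z * (g⁻¹ * m) := by group
    · exact XX_l h e i hx hj
  have h3 := mul_mem (le_sup_left (a := D i) (b := centralizer (ZJ V J : Set G)) hg)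
    (le_sup_right (a := D i) (b := centralizer (ZJ V J : Set G)) hc)
  rwa [mul_inv_cancel_left] at h3

variable [Finite G] [Finite ι]
include h

/-- the block groups, inside `D i · C(Z_J)` -/
theorem exists_L' (hz : ZcQ (S : Subgroup G) V) (i : ι) : ∃ Lb : Subgroup G, Lb ≤ M ∧
    Lb ≤ D i ⊔ centralizer (ZJ V J : Set G) ∧
    FB (BB (S : Subgroup G) V J) Lb (N i) (l i) q ∧ (∀ m ∈ Lb, ∀ z ∈ ZJ V J, z ∈ C i → m * z = z * m) ∧
    ∃ (F : Type) (_ : Field F) (_ : Finite F) (_ : CharP F 2) (e : G → F × F), Nat.card F = q ∧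
      CorA F (S : Subgroup G) (N i) (l i) e ∧ ∀ a b c d : F, a * d - b * c = 1 → ∃ g ∈ Lb,
        g ∈ normalizer (N i : Set G) ∧ Act (N i) e g (fun p => (a * p.1 + b * p.2, c * p.1 + d * p.2)) ∧
          ∀ j, j ≠ i → ∀ w ∈ N j, g * w = w * g := by
  classical
  have := Fintype.ofFinite ι
  obtain ⟨F, i1, i2, i3, e, hF, c, s⟩ := h.b.nat i
  obtain ⟨Lb, hB, hX, hFB, hcov, -⟩ := (nx h e i hF c s hz).exists_block
  rw [hF, nx_Zs] at hFB
  refine ⟨Lb, hX.trans (XX_le_M h e i), hX.trans (XX_le_D h e i c s), hFB, fun m hm z hz1 hz2 => XX_cent h e i (hX hm) hz1 hz2, F, i1, i2, i3, e, hF, c,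
    fun a b c' d hd => ?_⟩
  obtain ⟨g₀, hg₀, hga⟩ := hcov (Cfsg.Agent.Lib.SL2Mat.mk a b c' d hd)
  -- correct the action on the other blocks
  have key : ∀ t : Finset ι, i ∉ t → ∃ g ∈ Lb, (∀ v ∈ N i, pv e (g * v * g⁻¹) =
      ap (Cfsg.Agent.Lib.SL2Mat.mk a b c' d hd) (pv e v)) ∧ ∀ j ∈ t, ∀ w ∈ N j, g * w = w * g := by
    intro t
    induction t using Finset.induction_on with
    | empty => exact fun _ => ⟨g₀, hg₀, hga, fun j hj => absurd hj (Finset.notMem_empty j)⟩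
    | insert j t hj ih =>
      intro hi
      obtain ⟨g, hg, h1, h2⟩ := ih fun h3 => hi (Finset.mem_insert_of_mem h3)
      have hji : j ≠ i := fun e1 => hi (e1 ▸ Finset.mem_insert_self j t)
      obtain ⟨x, hx, -, hx2⟩ := (hX hg).2.2.2 j hji
      obtain ⟨F', _, _, _, e', hF', c2, -⟩ := h.b.nat j
      obtain ⟨m, hm⟩ := h.B_act c2 hx
      obtain ⟨A, hA, hA1, hfull⟩ := h.A_full hF' c2
      obtain ⟨y, hy, hym⟩ := hfull m
      have hyB : y ∈ BB (S : Subgroup G) V J := h.J_le_B (h.lv.AJ A hA hy)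
      have hxy : ∀ w ∈ N j, g * w * g⁻¹ = y * w * y⁻¹ := by
        intro w hw
        rw [hx2 w hw]
        refine c2.inj _ (h.B_mem hx j hw) _ (h.B_mem hyB j hw) ?_
        rw [hm w hw, hym w hw]
      refine ⟨y⁻¹ * g, mul_mem (inv_mem (hB hyB)) hg, fun v hv => ?_, fun k hk w hw => ?_⟩
      · have h3 : y⁻¹ * g * v * (y⁻¹ * g)⁻¹ = g * v * g⁻¹ := by
          have h4 := XX_norm h e i (hX hg) i v hv
          have h5 := mem_centralizer_iff.1 (hA1 i (Ne.symm hji) hy) _ h4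
          calc y⁻¹ * g * v * (y⁻¹ * g)⁻¹ = y⁻¹ * ((g * v * g⁻¹) * y) := by group
            _ = y⁻¹ * (y * (g * v * g⁻¹)) := by rw [h5]
            _ = g * v * g⁻¹ := by group
        rw [h3]
        exact h1 v hv
      · rcases Finset.mem_insert.1 hk with rfl | hk'
        · have h3 := hxy w hw
          have h4 : g * w = y * w * y⁻¹ * g := by rw [← h3]; group
          calc y⁻¹ * g * w = y⁻¹ * (g * w) := by group
            _ = y⁻¹ * (y * w * y⁻¹ * g) := by rw [h4]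
            _ = w * (y⁻¹ * g) := by group
        · by_cases hkj : k = j
          · subst hkj
            have h3 := hxy w hw
            have h4 : g * w = y * w * y⁻¹ * g := by rw [← h3]; group
            calc y⁻¹ * g * w = y⁻¹ * (g * w) := by group
              _ = y⁻¹ * (y * w * y⁻¹ * g) := by rw [h4]
              _ = w * (y⁻¹ * g) := by group
          · have h3 : Commute g w := h2 k hk' w hw
            have h4 : Commute y w := (mem_centralizer_iff.1 (hA1 k hkj hy) w hw).symm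
            exact (h4.inv_left.mul_left h3).eq
  obtain ⟨g, hg, h1, h2⟩ := key (Finset.univ.erase i) (Finset.notMem_erase i _)
  refine ⟨g, hg, ?_, ?_, fun j hj => h2 j (Finset.mem_erase.2 ⟨hj, Finset.mem_univ j⟩)⟩
  · exact mem_normalizer_iff_cj.2 (Lq.nC h.b (hX hg).1 (XX_norm h e i (hX hg) i)).1
  · have h3 := pv_act h1
    simpa [mk_00, mk_01, mk_10, mk_11] using h3

/-- **THE FRAME OVER `B`**, `L i ≤ D i · C(Z_J)`. -/
theorem exists_frL' (hz : ZcQ (S : Subgroup G) V) : ∃ Lb A : ι → Subgroup G, (∀ i, Lb i ≤ M) ∧ (∀ i, A i ∈ AA) ∧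
    (∀ i, Lb i ≤ D i ⊔ centralizer (ZJ V J : Set G)) ∧
    FrL (BB (S : Subgroup G) V J) ((S : Subgroup G) ⊓ centralizer (V : Set G)) V X (ZJ V J) Lb N l C A q ∧
    ∀ i, ∃ (F : Type) (_ : Field F) (_ : Finite F) (_ : CharP F 2), Nat.card F = q ∧
      ∃ e : G → F × F, Cor F (S : Subgroup G) (BB (S : Subgroup G) V J) Lb N l i e := by
  choose Lb hLM hLD hFB hLC hco using exists_L' h hz
  choose A hA h1 h2 h3 h4 h5 using h.exists_A
  have hfr : FrL (BB (S : Subgroup G) V J) ((S : Subgroup G) ⊓ centralizer (V : Set G)) V X (ZJ V J) Lb N l C A q :=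
    { blk := hFB
      cardZ := h.b.card_l
      QB := h.Q_le_B
      VQ := fun v hv => ⟨h.b.VS hv, mem_centralizer_iff.2 fun u hu => h.b.Vc hu hv⟩
      elX := h.lv.elX
      VX := h.lv.VX
      mem_Q := fun x hx => ⟨fun hq v hv => (mem_centralizer_iff.1 hq.2 v hv).symm, fun hc =>
        ⟨(Lq.mem_BB.1 hx).1, mem_centralizer_iff.2 fun v hv => (hc v hv).symm⟩⟩
      zcQ := hz
      mem_ZJ := fun v => ⟨fun hv => ⟨(Lq.mem_ZJ.1 hv).1, fun x hx => (Lq.mem_BB.1 hx).2 v hv⟩, fun hv =>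
        Lq.mem_ZJ.2 ⟨hv.1, fun y hy => hv.2 y (h.J_le_B hy)⟩⟩
      LV := fun i m hm v hv => h.b.MV m (hLM i hm) v hv
      LQ := fun i m hm x hx => by
        have hmM := hLM i hm
        refine ⟨h.b.MQ m hmM x hx, mem_centralizer_iff.2 fun v hv => ?_⟩
        have h6 := mem_centralizer_iff.1 hx.2 (m⁻¹ * v * m) (by simpa using h.b.MV m⁻¹ (inv_mem hmM) v hv)
        calc v * (m * x * m⁻¹) = m * ((m⁻¹ * v * m) * x) * m⁻¹ := by group
          _ = m * x * m⁻¹ * v := by rw [h6]; group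
      LX := fun i m hm x hx => h.lv.MX m (hLM i hm) x hx
      WV := h.b.NV
      CV := h.b.CV
      WC := h.b.WC
      dir := h.b.dir
      C0 := h.b.C0
      WjC := h.b.WjC
      BC := fun i x hx c hc => h.B_memC hx i hc
      LC := fun i m hm z hz1 hz2 => hLC i m hm z hz1 hz2
      AB := fun i a ha => h.J_le_B (h.lv.AJ _ (hA i) ha)
      AX := fun i => h.lv.fam.elem _ (hA i)
      best := fun i => h.lv.fam.best _ (hA i)
      Ane := fun i hcon => by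
        obtain ⟨F, _, _, _, e, hF, c, -⟩ := h.b.nat i
        obtain ⟨a, ha, hm⟩ := c.full_of (h.AS (hA i)) (h4 i) (h3 i) (by rw [hF]; exact h5 i) 1
        obtain ⟨v, hv, hve⟩ := c.surj (0, 1)
        have h6 := c.mem_of_fix one_ne_zero hm hv (hcon a ha v hv)
        have h7 := ((c.memZ v).1 h6).2
        rw [hve] at h7
        exact one_ne_zero h7
      AC := fun i a ha c hc => h2 i a ha c hc }
  refine ⟨Lb, A, hLM, hA, hLD, hfr, fun i => ?_⟩
  obtain ⟨F, i1, i2, i3, e, hF, c, hsl⟩ := hco i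
  refine ⟨F, i1, i2, i3, hF, e, c.cor (fun x hx => (Lq.mem_BB.1 hx).1) (hfr.AB i)
    (fun x hx z hz1 => (Lq.mem_BB.1 hx).2 z (h.l_ZJ i hz1)) (fun v hv hv1 z hz1 => ?_) hsl⟩
  exact OM.SWQ.ModQ.root hfr hv hv1 hz1

end Cfsg.Agent.Omega.NOThreeL.RRed.QFr

namespace Cfsg.Agent.Omega.NOThreeL.RRed.QFr.Top

open Subgroup Cfsg Cfsg.Agent.ZN.ChoiceBase Cfsg.Agent.Omega.MinPar
open Cfsg.Agent.ZN (zc zl o2 jj)
open Cfsg.Agent.Omega.SQ1.Bau (elem_comm elem_sq)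
open Cfsg.Agent.Omega.FFThm (ElemM OffM)
open Cfsg.Agent.Omega.NO3S.OneLine (BFam bo bo_fam bo_eq)
open Cfsg.Agent.Omega.NO3S.Level (nxt)
open Cfsg.Agent.Omega.OM.SwapT (ZT BT)
open Cfsg.Agent.Omega.OM.Lev.Uni (FrL)
open Cfsg.Agent.Omega.OM.WeakCl (WC)
open Cfsg.Agent.Omega.OM.SwapV.Q (Cor)
open Cfsg.Agent.Omega.NOThreeL.RTree
open Cfsg.Agent.Omega.NOThreeL.Merge (MZ)
open Cfsg.Agent.Omega.NOThreeL.RRed.WideTree (NBs Src Act)
open Cfsg.Agent.Omega.NOThreeL.RRed.BFr.StageQ (W_elem mv_of W_le_Q)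

universe u

variable {G : Type u} [Group G] [Finite G] {S : Sylow 2 G}

/-- **THE FRAME AT THE TOP LEVEL `(Q, V*)`**, `L i ≤ D i · C(Z_J)`. -/
theorem exists_top' {ι : Type} [Finite ι] {N D l C : ι → Subgroup G} {q : ℕ} (B : RB S)
    (b : Bq S (MZ (S : Subgroup G)) (Wd (S : Subgroup G)) N D l C q) (h : TopH S)
    (hmv : ∃ A ≤ (S : Subgroup G), OffM (Wd (S : Subgroup G)) A)
    (hsup : Wd (S : Subgroup G) = ⨆ P ∈ {P | IsParS (S : Subgroup G) P}, zl (S : Subgroup G) P) :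
    ∃ Lb A : ι → Subgroup G, TopQ S Lb N l C A q ∧ (∀ i, A i ∈ bo (S : Subgroup G) (Wd (S : Subgroup G))) ∧
      ∀ i, Lb i ≤ D i ⊔ centralizer (ZT (S : Subgroup G) (Qv S) : Set G) := by
  have lv := lvQ_top B h.zc hmv b.sup
  have hL : Lq S (MZ (S : Subgroup G)) (Wd (S : Subgroup G)) N D l C q (Wd (S : Subgroup G))
      (normalizer (Wd (S : Subgroup G) : Set G)) (nxt (S : Subgroup G) (Qv S))
      (bo (S : Subgroup G) (Wd (S : Subgroup G))) := ⟨b, lv, BQ.exists_A b lv⟩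
  have hzc : ZcQ (S : Subgroup G) (Wd (S : Subgroup G)) := fun x hx h2 hc => by
    rw [← h.zc]
    exact mem_zc.2 ⟨hx, h2, fun y hy => (hc y hy).symm⟩
  obtain ⟨Lb, A, h1, h2, hD, h3, h4⟩ := exists_frL' hL hzc
  rw [BB_top B h, ZJ_top B h] at h3
  rw [ZJ_top B h] at hD
  have hN : normalizer (BT (S : Subgroup G) (Qv S) : Set G) ≤ normalizer (Wd (S : Subgroup G) : Set G) := fun g hg => by
    have k1 := OM.SwapT.norm_K h.wc hg
    have k2 := NO3S.Level.normalizer_le_zc _ k1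
    rwa [h.zc] at k2
  have hC : ∀ i, C i = ⨆ j : {j : ι // j ≠ i}, N j := fun i =>
    le_antisymm (b.Csup i) (iSup_le fun j => b.WjC i j (Ne.symm j.2))
  refine ⟨Lb, A, ⟨h3, h1, BFr.Noff.low B.data.toLow (fun P hP => hP) hsup, fun T hT hB f k1 k2 x hx y hy => ?_, ?_,
    fun i => ?_⟩, h2, hD⟩
  · have h5 := BFr.Noff.comm_T B.data.toLow (fun P hP => hP) hsup (OM.SwapT.wc h.wc) inf_le_left hN hT hB k1 k2 hx
    exact (mem_centralizer_iff.1 h5 _ ⟨y, hy, rfl⟩).symm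
  · refine BFr.DataQ.perm_of b.lN (fun i e => ?_) (fun i j hij => ?_) hC fun s hs i => ?_
    · obtain ⟨z, hz, hz1⟩ := b.exists_ne i
      rw [e, mem_bot] at hz
      exact hz1 hz
    · rw [eq_bot_iff, ← b.dir i]
      exact inf_le_inf_left _ (b.WjC i j hij)
    · obtain ⟨j, hj, -⟩ := b.permS s hs i
      exact ⟨j, hj⟩
  · obtain ⟨F, i1, i2, i3, hF, e, he⟩ := h4 i
    rw [BB_top B h] at he
    exact ⟨F, i1, i2, i3, hF, e, he⟩

end Cfsg.Agent.Omega.NOThreeL.RRed.QFr.Top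

end

section


/-!
# NO-3L, box R, natural blocks, `q ≥ 4`, the top level `(Q, V*)`: the blocks over `B` which normalise `Q`

Over 461's `TopH` / `TopQ` and `KQ` (`OM/SwapV/Q/KQ.lean`), `Q = C_S(V*)`, `B = BK S Q`, `Z_J = ZK S Q`:

* `wl_of` : `Q` is a weakly closed level if `J(S) ≤ C(V*)`; `TopQ.frK`, `TopQ.nQ`;
* `TopQ.kq_le` : `KQ ≤ X` if all `C_G(l c : c ≠ b) ≤ X`; `TopQ.kq_le8` : `KQ ≤ X` if `C_G(Z_J), L i ≤ X`, `q ≥ 8`;
* `mz_le` : `MZ S ≤ ⟨KQ, N_G(B)⟩` (helper448);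
* `TopQ.blk` : a minimal parabolic `Y` over `T ≥ B` of stage `Q` which moves `Ω₁Z(T)` is generated by `T` and a block.
-/

set_option autoImplicit false
set_option linter.unusedSectionVars false

namespace Cfsg.Agent.Omega.NOThreeL.RRed.QFr.Top

open Subgroup Cfsg Cfsg.Agent.ZN.ChoiceBase Cfsg.Agent.Omega.MinPar
open Cfsg.Agent.ZN (zc zl o2 jj)
open Cfsg.Agent.ZN.ChoiceSit (Syl)
open Cfsg.Agent.MinSimple.MinParabolic (IsMinPar)
open Cfsg.Agent.Omega.NO3S.Level (nxt Lev)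
open Cfsg.Agent.Omega.OM.SwapT (ZT BT)
open Cfsg.Agent.Omega.OM.SwapK (WL BK ZK)
open Cfsg.Agent.Omega.OM.Lev.Uni (FrL)
open Cfsg.Agent.Omega.OM.UniPlus (NB)
open Cfsg.Agent.Omega.OM.SwapV.Q (Cor)
open Cfsg.Agent.Omega.OM.SwapV.Q.UniK (KQ FQ)
open Cfsg.Agent.Omega.NOThreeL.RTree
open Cfsg.Agent.Omega.NOThreeL.Merge (MZ)
open Cfsg.Agent.Omega.NOThreeL.RRed.BFr.StageQ (M_norm)

universe u

variable {G : Type u} [Group G] [Finite G] {S : Sylow 2 G}

/-- `Q = C_S(V*)` is a weakly closed level. -/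
theorem wl_of (h : TopH S) (hJ : jj (S : Subgroup G) ≤ centralizer (Wd (S : Subgroup G) : Set G)) : WL S (Qv S) where
  wc := h.wc
  lev :=
    { le := inf_le_left
      jjle := le_inf (jj_le _) hJ
      norm := fun _ h1 h2 _ hg =>
        mem_normalizer_iff_cj.2 (OM.LevD.norm_of_wc h.wc (S.isPGroup'.to_le h2) h1 hg) }

section frame

variable {ι : Type} [Finite ι] {L N l C A : ι → Subgroup G} {q : ℕ}

omit [Finite ι] in
theorem TopQ.frK (t : TopQ S L N l C A q) (h : TopH S) :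
    FrL (BK (S : Subgroup G) (Qv S)) (Qv S) (Wd (S : Subgroup G)) (zc (Qv S)) (ZK (S : Subgroup G) (Qv S))
      L N l C A q := by
  have h1 := t.fr
  rw [h.zc]
  exact h1

omit [Finite ι] in
theorem TopQ.coK (t : TopQ S L N l C A q) :
    ∀ i, ∃ (F : Type) (_ : Field F) (_ : Finite F) (_ : CharP F 2), Nat.card F = q ∧
      ∃ e : G → F × F, Cor F (S : Subgroup G) (BK (S : Subgroup G) (Qv S)) L N l i e := t.co

omit [Finite ι] in
theorem TopQ.nQ (t : TopQ S L N l C A q) (i : ι) : L i ≤ normalizer (Qv S : Set G) := (t.LM i).trans M_norm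

omit [Finite ι] in
theorem TopQ.L_le (t : TopQ S L N l C A q) (h : TopH S) (wl : WL S (Qv S)) (i : ι) :
    L i ≤ KQ (S : Subgroup G) (Qv S) := OM.SwapV.Q.UniK.L_le wl (t.frK h) t.nQ i

theorem TopQ.norm_KQ (t : TopQ S L N l C A q) (h : TopH S) (wl : WL S (Qv S)) :
    normalizer (BK (S : Subgroup G) (Qv S) : Set G) ≤ normalizer (KQ (S : Subgroup G) (Qv S) : Set G) :=
  OM.SwapV.Q.UniK.norm_KQ wl (t.frK h) t.nQ

/-- **`KQ ≤ X`** if all `C_G(l c : c ≠ b) ≤ X`. -/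
theorem TopQ.kq_le [Nonempty ι] (t : TopQ S L N l C A q) (h : TopH S) (wl : WL S (Qv S)) {X : Subgroup G}
    (hX : ∀ i, centralizer ((⨆ j : {j : ι // j ≠ i}, l j : Subgroup G) : Set G) ≤ X) :
    KQ (S : Subgroup G) (Qv S) ≤ X := by
  refine OM.SwapV.Q.UniK.KQ_le wl (t.frK h) fun i => le_trans (centralizer_le ?_) (hX i)
  exact_mod_cast (iSup_le fun j => le_inf (t.fr.Z_le j) ((t.fr.blk j).ZV.trans (t.fr.WjC i j (Ne.symm j.2))) :
    (⨆ j : {j : ι // j ≠ i}, l j) ≤ ZK (S : Subgroup G) (Qv S) ⊓ C i)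

/-- **`KQ ≤ X`** if `C_G(Z_J), L i ≤ X`, `q ≥ 8`. -/
theorem TopQ.kq_le8 (t : TopQ S L N l C A q) (h : TopH S) (wl : WL S (Qv S)) (hq : 8 ≤ q) {X : Subgroup G}
    (hD : centralizer (ZK (S : Subgroup G) (Qv S) : Set G) ≤ X) (hL : ∀ i, L i ≤ X) :
    KQ (S : Subgroup G) (Qv S) ≤ X := OM.SwapV.Q.UniK.KQ_le8 wl (t.frK h) t.coK hq hD hL

/-- the same from groups `D i` with `L i ≤ D i ⊔ C_G(Z_J)` -/
theorem TopQ.kq_leD (t : TopQ S L N l C A q) (h : TopH S) (wl : WL S (Qv S)) (hq : 8 ≤ q) {X : Subgroup G}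
    {D : ι → Subgroup G} (hLD : ∀ i, L i ≤ D i ⊔ centralizer (ZK (S : Subgroup G) (Qv S) : Set G))
    (hD : centralizer (ZK (S : Subgroup G) (Qv S) : Set G) ≤ X) (hX : ∀ i, D i ≤ X) :
    KQ (S : Subgroup G) (Qv S) ≤ X :=
  t.kq_le8 h wl hq hD fun i => (hLD i).trans (sup_le (hX i) hD)

/-- **A minimal parabolic of stage `Q` which moves `Ω₁Z(T)`.** -/
theorem TopQ.blk (t : TopQ S L N l C A q) (h : TopH S) (wl : WL S (Qv S)) {T Y : Subgroup G}
    (hT : Syl T Y) (hB : BK (S : Subgroup G) (Qv S) ≤ T) (hP : IsMinPar T Y)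
    (hc : Y ⊓ centralizer (o2 Y : Set G) ≤ o2 Y) (hK : Qv S ≤ o2 Y) (hn : ¬ nxt (S : Subgroup G) (Qv S) ≤ o2 Y)
    (hZ : ¬ Y ≤ centralizer (zc T : Set G)) :
    ∃ i, ∃ L' V' : Subgroup G, L' ≤ Y ∧ Y ≤ T ⊔ L' ∧ NB (BK (S : Subgroup G) (Qv S)) L' V' (l i) q ∧
      V' ≤ N i ⊔ ZK (S : Subgroup G) (Qv S) ∧
      (∀ z ∈ ZK (S : Subgroup G) (Qv S), z ∈ C i ↔ ∀ x ∈ L', x * z = z * x) ∧
        (q = 2 → V' = N i ∧ L' ≤ L i ⊔ centralizer ((N i ⊔ ZK (S : Subgroup G) (Qv S) : Subgroup G) : Set G)) :=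
  OM.SwapV.Q.UniK.exists_blkK wl (t.frK h) hT hB hP hc hK hn hZ

end frame

/-- **`MZ S ≤ ⟨KQ, N_G(B)⟩`** (helper448): every `P ∈ P*(S)` has `Q ≤ O₂(P)`. -/
theorem mz_le (B : RB S) (wl : WL S (Qv S)) : MZ (S : Subgroup G) ≤
    KQ (S : Subgroup G) (Qv S) ⊔ normalizer (BK (S : Subgroup G) (Qv S) : Set G) := by
  refine sSup_le fun P hP => ?_
  have hP' : IsParS (S : Subgroup G) P := hP
  have hT : Syl (S : Subgroup G) P := ⟨hP'.le, S.isPGroup', fun Q _ h2 h3 => S.3 h2 h3⟩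
  refine OM.SwapV.Q.UniK.par_le wl hT inf_le_left hP'.toIsMinPar (hP'.isLoc.char2 S B.ctx.char2) ?_
    fun hc => hP'.not_zc (hc.trans (centralizer_le_normalizer _))
  exact (inf_le_inf_left _ (centralizer_le (zl_le_Wd hP'))).trans (RLev.cs_le_o2 hP')

end Cfsg.Agent.Omega.NOThreeL.RRed.QFr.Top

end

end
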