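import Cfsg.Agent.Mrg.Omega.SQT.NoThree
import Cfsg.Agent.Mrg.Omega.NOThreeL.RRed.Blk.OneOf
import Cfsg.Agent.Mrg.Omega.NOThreeL.RRed.TvFin
import Cfsg.Agent.Mrg.Omega.OM.SwapV.Q.CorOf
import Cfsg.Agent.Mrg.Omega.NOThreeL.RRed.BFr.Plug
import Cfsg.Agent.Mrg.Omega.NOThreeL.RRed.WideTree

-- merged: Cfsg.Agent.Mrg.Omega.SQT.LettQ
section

section


/-!
# Project SQT: symmetric blocks with 3, 5 or 7 letters (helper949)

`Lett V R φ`, `T ≤ R` contains an `R`-conjugate of every 2-subgroup of `R`.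

* `Lett.comp` : change of the letters; `exists_rel4` : `T` contains an element which acts as a given permutation `π`,
  `π ^ 4 = 1`, for a suitable numbering of the letters;
* `two3`, `two5` : for three or five letters `C_V(T) ≤ {1, z}`;
* `four7` : for seven letters `C_V(T)` has at most four elements, and if `T ≤ S ≤ P` and `P` is minimal over `S`, then
  `P` fixes some `z ≠ 1` of `V` fixed by `S` as soon as `C_V(S)` has four elements.
-/

set_option autoImplicit false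
set_option linter.unusedSectionVars false

namespace Cfsg.Agent.Omega.SQT.LettQ

open Subgroup Cfsg
open Cfsg.Agent.Omega.KL.TwoS (Rel Lett)
open Cfsg.Agent.Omega.NOThreeL.RRed.Blk (PermS mem_PermS eq_top_of_swap exists_perm)

universe u v w

variable {G : Type u} [Group G]

section comp

variable {Ω : Type v} {Ω' : Type w} [Fintype Ω] [DecidableEq Ω] [Fintype Ω'] [DecidableEq Ω'] {V R : Subgroup G}
  {φ : Finset Ω → G}

theorem even_map (e : Ω' ≃ Ω) {s : Finset Ω'} : Even (s.map e.toEmbedding).card ↔ Even s.card := by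
  rw [Finset.card_map]

/-- **Change of the letters.** -/
theorem comp (L : Lett V R φ) (e : Ω' ≃ Ω) : Lett V R fun s : Finset Ω' => φ (s.map e.toEmbedding) where
  odd := by rw [Fintype.card_congr e]; exact L.odd
  mul s t := by
    rw [← L.mul]
    congr 1
    ext x
    simp only [Finset.mem_map_equiv, Finset.mem_symmDiff]
  inj s hs h := by
    have h1 := L.inj _ ((even_map e).2 hs) h
    exact Finset.map_eq_empty.1 h1
  mem x := by
    rw [L.mem]
    constructor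
    · rintro ⟨s, hs, rfl⟩
      refine ⟨s.map e.symm.toEmbedding, (even_map e.symm).2 hs, ?_⟩
      congr 1
      ext y
      simp only [Finset.mem_map_equiv, Equiv.symm_symm, Equiv.apply_symm_apply]
    · rintro ⟨s, hs, rfl⟩
      exact ⟨_, (even_map e).2 hs, rfl⟩
  act g hg := by
    obtain ⟨σ, hσ⟩ := L.act g hg
    refine ⟨(e.trans σ).trans e.symm, fun s hs => ?_⟩
    show g * φ (s.map e.toEmbedding) * g⁻¹ = φ ((s.map _).map e.toEmbedding)
    rw [hσ _ ((even_map e).2 hs)]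
    congr 1
    ext y
    simp only [Finset.mem_map_equiv, Equiv.symm_trans_apply, Equiv.symm_symm, Equiv.apply_symm_apply]
  all σ := by
    obtain ⟨g, hg, h⟩ := L.all ((e.symm.trans σ).trans e)
    refine ⟨g, hg, fun s hs => ?_⟩
    show g * φ (s.map e.toEmbedding) * g⁻¹ = φ ((s.map _).map e.toEmbedding)
    rw [h _ ((even_map e).2 hs)]
    congr 1
    ext y
    simp only [Finset.mem_map_equiv, Equiv.symm_trans_apply, Equiv.symm_symm, Equiv.symm_apply_apply]

theorem rel_comp (e : Ω' ≃ Ω) {g : G} {σ : Equiv.Perm Ω} (h : Rel φ g σ) :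
    Rel (fun s : Finset Ω' => φ (s.map e.toEmbedding)) g ((e.trans σ).trans e.symm) := by
  intro s hs
  show g * φ (s.map e.toEmbedding) * g⁻¹ = φ ((s.map _).map e.toEmbedding)
  rw [h _ ((even_map e).2 hs)]
  congr 1
  ext y
  simp only [Finset.mem_map_equiv, Equiv.symm_trans_apply, Equiv.symm_symm, Equiv.apply_symm_apply]

/-- a permutation `σ`, `σ ^ 4 = 1`, is induced by a 2-element -/
theorem exists_two4 [Finite G] {r : G} {σ : Equiv.Perm Ω} (hσ : σ ^ 4 = 1) (hr : Rel φ r σ) :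
    ∃ r' ∈ zpowers r, IsPGroup 2 (zpowers r') ∧ Rel φ r' σ := by
  obtain ⟨k, m, ⟨j, hm⟩, hn⟩ := Nat.exists_eq_two_pow_mul_odd (orderOf_pos r).ne'
  refine ⟨r ^ (m * m), pow_mem (mem_zpowers r) _, ?_, ?_⟩
  · intro x
    refine ⟨k, ?_⟩
    obtain ⟨x, hx⟩ := x
    obtain ⟨i, rfl⟩ := mem_zpowers_iff.1 hx
    apply Subtype.ext
    show ((r ^ (m * m)) ^ i) ^ 2 ^ k = 1
    have h1 : (r ^ (m * m)) ^ 2 ^ k = 1 := by
      rw [← pow_mul, show m * m * 2 ^ k = (2 ^ k * m) * m by ring, ← hn, pow_mul, pow_orderOf_eq_one, one_pow]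
    rw [← zpow_natCast, ← zpow_mul, mul_comm i, zpow_mul, zpow_natCast, h1, one_zpow]
  · have h1 := hr.pow (m * m)
    have h2 : σ ^ (m * m) = σ := by
      rw [hm, show (2 * j + 1) * (2 * j + 1) = 4 * (j * j + j) + 1 by ring, pow_succ, pow_mul, hσ, one_pow, one_mul]
    rwa [h2] at h1

/-- `T` contains a conjugate of every 2-subgroup of `R` -/
def SylR (T R : Subgroup G) : Prop :=
  ∀ Q : Subgroup G, Q ≤ R → IsPGroup 2 Q → ∃ e ∈ R, ∀ q ∈ Q, e * q * e⁻¹ ∈ T

theorem exists_rel4 [Finite G] (L : Lett V R φ) {T : Subgroup G} (hT : SylR T R) {n : ℕ}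
    (hn : Fintype.card Ω = n) {π : Equiv.Perm (Fin n)} (hπ : π ^ 4 = 1) :
    ∃ e : Fin n ≃ Ω, ∃ t ∈ T, Rel (fun s : Finset (Fin n) => φ (s.map e.toEmbedding)) t π := by
  have e := (Fintype.equivFinOfCardEq hn).symm
  have L' := comp L e
  obtain ⟨r, hr, h⟩ := L'.all π
  obtain ⟨r', hr', h2, h'⟩ := exists_two4 hπ h
  have hle : zpowers r' ≤ R := by
    rw [zpowers_le]
    exact (zpowers_le.2 hr) hr'
  obtain ⟨x, hx, h1⟩ := hT _ hle h2
  obtain ⟨σ, hσ⟩ := L.act x hx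
  refine ⟨e.trans σ, x * r' * x⁻¹, h1 r' (mem_zpowers r'), fun s hs => ?_⟩
  show x * r' * x⁻¹ * φ (s.map _) * (x * r' * x⁻¹)⁻¹ = φ ((s.map _).map _)
  have e1 : φ (s.map (e.trans σ).toEmbedding) = x * φ (s.map e.toEmbedding) * x⁻¹ := by
    rw [hσ _ ((even_map e).2 hs), Finset.map_map]
    rfl
  have e2 : φ ((s.map π.toEmbedding).map (e.trans σ).toEmbedding) =
      x * φ ((s.map π.toEmbedding).map e.toEmbedding) * x⁻¹ := by
    rw [hσ _ ((even_map e).2 ((even_map π).2 hs)), Finset.map_map (f := e.toEmbedding)]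
    rfl
  have e3 : r' * φ (s.map e.toEmbedding) * r'⁻¹ = φ ((s.map π.toEmbedding).map e.toEmbedding) := h' s hs
  rw [e1, e2, ← e3]
  group

end comp

/-! ### Three and five letters -/

theorem fix3 : ∀ s : Finset (Fin 3), s.map (Equiv.swap (0 : Fin 3) 1).toEmbedding = s → Even s.card →
    s = ∅ ∨ s = {0, 1} := by decide

/-- `(0 1 2 3)` -/
def c4 (n : ℕ) [NeZero n] : Equiv.Perm (Fin n) := Equiv.swap 0 1 * Equiv.swap 1 2 * Equiv.swap 2 3

theorem fix5 : ∀ s : Finset (Fin 5), s.map (c4 5).toEmbedding = s → Even s.card →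
    s = ∅ ∨ s = {0, 1, 2, 3} := by decide

theorem c4_pow5 : (c4 5) ^ 4 = 1 := by decide

/-- `(0 1 2 3)(4 5)` -/
def p7 : Equiv.Perm (Fin 7) := c4 7 * Equiv.swap 4 5

theorem p7_pow : p7 ^ 4 = 1 := by decide

set_option maxRecDepth 100000 in
theorem fix7 : ∀ s : Finset (Fin 7), s.map p7.toEmbedding = s → Even s.card →
    s = ∅ ∨ s = {0, 1, 2, 3} ∨ s = {4, 5} ∨ s = {0, 1, 2, 3, 4, 5} := by decide +kernel

section fixed

variable {Ω : Type v} [Fintype Ω] [DecidableEq Ω] {V R T : Subgroup G} {φ : Finset Ω → G}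

theorem fix_of {Ω' : Type w} [Fintype Ω'] [DecidableEq Ω'] {ψ : Finset Ω' → G} (L : Lett V R ψ) {t : G}
    {π : Equiv.Perm Ω'} (h : Rel ψ t π) {s : Finset Ω'} (hs : Even s.card) (hx : t * ψ s * t⁻¹ = ψ s) :
    s.map π.toEmbedding = s := by
  rw [h s hs] at hx
  exact L.phi_inj ((even_map π).2 hs) hs hx

/-- **Three or five letters: `C_V(T) ≤ {1, z}`.** -/
theorem two [Finite G] (L : Lett V R φ) (hT : SylR T R) (hn : Fintype.card Ω = 3 ∨ Fintype.card Ω = 5) :
    ∃ z : G, ∀ x ∈ V, (∀ t ∈ T, t * x * t⁻¹ = x) → x = 1 ∨ x = z := by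
  rcases hn with hn | hn
  · obtain ⟨e, t, ht, h⟩ := exists_rel4 L hT hn (π := Equiv.swap (0 : Fin 3) 1) (by decide)
    have L' := comp L e
    refine ⟨φ (({0, 1} : Finset (Fin 3)).map e.toEmbedding), fun x hx hfix => ?_⟩
    obtain ⟨s, hs, rfl⟩ := (L'.mem x).1 hx
    rcases fix3 s (fix_of L' h hs (hfix t ht)) hs with rfl | rfl
    · exact Or.inl L'.phi_empty
    · exact Or.inr rfl
  · obtain ⟨e, t, ht, h⟩ := exists_rel4 L hT hn c4_pow5
    have L' := comp L e
    refine ⟨φ (({0, 1, 2, 3} : Finset (Fin 5)).map e.toEmbedding), fun x hx hfix => ?_⟩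
    obtain ⟨s, hs, rfl⟩ := (L'.mem x).1 hx
    rcases fix5 s (fix_of L' h hs (hfix t ht)) hs with rfl | rfl
    · exact Or.inl L'.phi_empty
    · exact Or.inr rfl

end fixed

/-! ### Seven letters -/

section seven

variable {V R S P Z : Subgroup G} {ψ : Finset (Fin 7) → G}

/-- a transitive group on seven letters with a transposition -/
theorem top_of {H : Subgroup (Equiv.Perm (Fin 7))} (ht : ∀ a : Fin 7, ∃ σ ∈ H, σ 6 = a)
    (hs : ∃ a b : Fin 7, a ≠ b ∧ Equiv.swap a b ∈ H) : H = ⊤ := by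
  classical
  obtain ⟨a, b, hab, h⟩ := hs
  have : Fintype H := Fintype.ofFinite H
  refine Equiv.Perm.subgroup_eq_top_of_swap_mem (τ := Equiv.swap a b) ?_ ?_ h ⟨a, b, hab, rfl⟩
  · rw [Fintype.card_fin]; norm_num
  · have h1 : MulAction.orbit H (6 : Fin 7) = Set.univ := by
      ext x
      simp only [Set.mem_univ, iff_true]
      obtain ⟨σ, hσ, e⟩ := ht x
      exact ⟨⟨σ, hσ⟩, e⟩
    have h2 : (MulAction.orbit H (6 : Fin 7)).ncard ∣ Nat.card H := by
      have := MulAction.card_orbit_mul_card_stabilizer_eq_card_group H (6 : Fin 7)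
      rw [← Nat.card_eq_fintype_card, ← Nat.card_eq_fintype_card, ← Nat.card_eq_fintype_card] at this
      exact ⟨_, by rw [← this]; rfl⟩
    rw [h1, Set.ncard_univ, Nat.card_eq_fintype_card, Nat.card_eq_fintype_card] at h2
    convert h2

set_option maxRecDepth 100000 in
/-- the orbit of the last letter -/
theorem orbit7 : ∀ O : Finset (Fin 7), (6 : Fin 7) ∈ O → O.map p7.toEmbedding = O →
    O = Finset.univ ∨ Oᶜ = {0, 1, 2, 3} ∨ Oᶜ = {4, 5} ∨ Oᶜ = {0, 1, 2, 3, 4, 5} := by decide +kernel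

/-- the three nontrivial fixed sets -/
abbrev A4 : Finset (Fin 7) := {0, 1, 2, 3}
abbrev A2 : Finset (Fin 7) := {4, 5}
abbrev A6 : Finset (Fin 7) := {0, 1, 2, 3, 4, 5}

theorem mem_A6 : ∀ a : Fin 7, a ∈ A6 ↔ a ≠ 6 := by decide

theorem map_A6 {σ : Equiv.Perm (Fin 7)} (h : σ 6 = 6) : A6.map σ.toEmbedding = A6 := by
  ext x
  rw [Finset.mem_map_equiv, mem_A6, mem_A6, not_iff_not]
  rw [Equiv.symm_apply_eq, h]

theorem map_A2 : A2.map (Equiv.swap (0 : Fin 7) 6).toEmbedding = A2 := by decide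

theorem cent_iff {P : Subgroup G} {x : G} {g : G} : g ∈ P ⊓ centralizer ({x} : Set G) ↔ g ∈ P ∧ g * x * g⁻¹ = x := by
  rw [mem_inf, mem_centralizer_singleton_iff, mul_inv_eq_iff_eq_mul]

/-- `C_V(T)` has at most four elements -/
theorem card_le_four7 [Finite G] (L : Lett V R ψ) {t : G} (ht : t ∈ S) (hp : Rel ψ t p7)
    (hZ : Z ≤ V) (hZS : ∀ z ∈ Z, ∀ s ∈ S, s * z * s⁻¹ = z) : Nat.card Z ≤ 4 := by
  classical
  have hfin : (Z : Set G).Finite := Set.toFinite _
  have h1 : hfin.toFinset ⊆ ({1, ψ A4, ψ A2, ψ A6} : Finset G) := by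
    intro z hz
    rw [Set.Finite.mem_toFinset] at hz
    obtain ⟨s, hs, rfl⟩ := (L.mem z).1 (hZ hz)
    rcases fix7 s (fix_of L hp hs (hZS _ hz t ht)) hs with rfl | rfl | rfl | rfl
    · simp [L.phi_empty]
    · simp
    · simp
    · simp
  have h2 := (Finset.card_le_card h1).trans Finset.card_le_four
  rw [← Set.ncard_eq_toFinset_card _ hfin] at h2
  exact h2

theorem exists_fixed7 [Finite G] (L : Lett V R ψ) {t : G} (ht : t ∈ S) (hp : Rel ψ t p7)
    (hsw : ∃ s ∈ S, ∃ a b : Fin 7, a ≠ b ∧ Rel ψ s (Equiv.swap a b)) (hSP : S ≤ P)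
    (hP : ∃ M : Subgroup G, M < P ∧ ∀ K : Subgroup G, S ≤ K → K < P → K ≤ M) (hrel : ∀ g ∈ P, ∃ σ, Rel ψ g σ)
    (hZ : Z ≤ V) (hZS : ∀ z ∈ Z, ∀ s ∈ S, s * z * s⁻¹ = z) (h4 : 4 ≤ Nat.card Z) :
    ∃ x ∈ Z, x ≠ 1 ∧ ∀ g ∈ P, g * x * g⁻¹ = x := by
  classical
  have hall : ∀ z ∈ Z, z = 1 ∨ z = ψ A4 ∨ z = ψ A2 ∨ z = ψ A6 := by
    intro z hz
    obtain ⟨s, hs, rfl⟩ := (L.mem z).1 (hZ hz)
    rcases fix7 s (fix_of L hp hs (hZS _ hz t ht)) hs with rfl | rfl | rfl | rfl
    · exact Or.inl L.phi_empty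
    · exact Or.inr (Or.inl rfl)
    · exact Or.inr (Or.inr (Or.inl rfl))
    · exact Or.inr (Or.inr (Or.inr rfl))
  have hmem : ψ A4 ∈ Z ∧ ψ A2 ∈ Z ∧ ψ A6 ∈ Z := by
    have hfin : (Z : Set G).Finite := Set.toFinite _
    have h1 : hfin.toFinset ⊆ ({1, ψ A4, ψ A2, ψ A6} : Finset G) := by
      intro z hz
      rw [Set.Finite.mem_toFinset] at hz
      simpa using hall z hz
    have h2 : ({1, ψ A4, ψ A2, ψ A6} : Finset G).card ≤ hfin.toFinset.card := by
      refine Finset.card_le_four.trans ?_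
      rw [← Set.ncard_eq_toFinset_card _ hfin]
      exact h4
    have h3 := Finset.eq_of_subset_of_card_le h1 h2
    have h5 : ∀ z ∈ ({1, ψ A4, ψ A2, ψ A6} : Finset G), z ∈ Z := by
      intro z hz
      rw [← h3, Set.Finite.mem_toFinset] at hz
      exact hz
    exact ⟨h5 _ (by simp), h5 _ (by simp), h5 _ (by simp)⟩
  have hne : ∀ s : Finset (Fin 7), Even s.card → s ≠ ∅ → ψ s ≠ 1 := fun s hs h0 h1 => h0 (L.inj s hs h1)
  by_contra hno
  push Not at hno
  have hmv : ∀ s : Finset (Fin 7), Even s.card → s ≠ ∅ → ψ s ∈ Z → ∃ σ ∈ PermS ψ P, s.map σ.toEmbedding ≠ s := by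
    intro s hs h0 hsZ
    obtain ⟨g, hg, h⟩ := hno _ hsZ (hne s hs h0)
    obtain ⟨σ, hσ⟩ := hrel g hg
    refine ⟨σ, ⟨g, hg, hσ⟩, fun h1 => h ?_⟩
    rw [hσ s hs, h1]
  have e4 : Even (A4 : Finset (Fin 7)).card := by decide
  have e2 : Even (A2 : Finset (Fin 7)).card := by decide
  have e6 : Even (A6 : Finset (Fin 7)).card := by decide
  -- transitivity
  have htr : ∀ a : Fin 7, ∃ σ ∈ PermS ψ P, σ 6 = a := by
    set O : Finset (Fin 7) := Finset.univ.filter fun a => ∃ σ ∈ PermS ψ P, σ 6 = a with hO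
    have hmO : ∀ a, a ∈ O ↔ ∃ σ ∈ PermS ψ P, σ 6 = a := fun a => by simp [hO]
    have hinv : ∀ τ ∈ PermS ψ P, O.map τ.toEmbedding = O := by
      intro τ hτ
      ext x
      rw [Finset.mem_map_equiv, hmO, hmO]
      constructor
      · rintro ⟨σ, hσ, e⟩
        refine ⟨τ * σ, mul_mem hτ hσ, ?_⟩
        rw [Equiv.Perm.mul_apply, e, Equiv.apply_symm_apply]
      · rintro ⟨σ, hσ, e⟩
        refine ⟨τ⁻¹ * σ, mul_mem (inv_mem hτ) hσ, ?_⟩
        rw [Equiv.Perm.mul_apply, e]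
        rfl
    have hinv' : ∀ τ ∈ PermS ψ P, (Oᶜ).map τ.toEmbedding = Oᶜ := by
      intro τ hτ
      ext x
      rw [Finset.mem_map_equiv, Finset.mem_compl, Finset.mem_compl, ← Finset.mem_map_equiv, hinv τ hτ]
    have key : ∀ s : Finset (Fin 7), Even s.card → s ≠ ∅ → ψ s ∈ Z → Oᶜ ≠ s := by
      rintro s hs h0 hsZ rfl
      obtain ⟨σ, hσ, h⟩ := hmv _ hs h0 hsZ
      exact h (hinv' σ hσ)
    rcases orbit7 O ((hmO 6).2 ⟨1, one_mem _, rfl⟩) (hinv p7 ⟨t, hSP ht, hp⟩) with h | h | h | h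
    · intro a
      exact (hmO a).1 (by rw [h]; exact Finset.mem_univ a)
    · exact absurd h (key A4 e4 (by decide) hmem.1)
    · exact absurd h (key A2 e2 (by decide) hmem.2.1)
    · exact absurd h (key A6 e6 (by decide) hmem.2.2)
  have htop : PermS ψ P = ⊤ := by
    obtain ⟨s, hs, a, b, hab, h⟩ := hsw
    exact top_of htr ⟨a, b, hab, s, hSP hs, h⟩
  obtain ⟨M, hMP, hM⟩ := hP
  have hK : ∀ s : Finset (Fin 7), Even s.card → s ≠ ∅ → ψ s ∈ Z → P ⊓ centralizer ({ψ s} : Set G) ≤ M := by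
    intro s hs h0 hsZ
    refine hM _ (fun x hx => cent_iff.2 ⟨hSP hx, hZS _ hsZ x hx⟩) (lt_of_le_of_ne inf_le_left fun he => ?_)
    obtain ⟨g, hg, h⟩ := hno _ hsZ (hne s hs h0)
    rw [← he] at hg
    exact h (cent_iff.1 hg).2
  have hMs : ∀ s : Finset (Fin 7), Even s.card → s ≠ ∅ → ψ s ∈ Z → ∀ σ : Equiv.Perm (Fin 7),
      s.map σ.toEmbedding = s → σ ∈ PermS ψ M := by
    intro s hs h0 hsZ σ hσ
    obtain ⟨k, hk, h⟩ : σ ∈ PermS ψ P := by rw [htop]; exact mem_top σ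
    refine ⟨k, hK s hs h0 hsZ (cent_iff.2 ⟨hk, ?_⟩), h⟩
    rw [h s hs, hσ]
  have h6 : ∀ σ : Equiv.Perm (Fin 7), σ 6 = 6 → σ ∈ PermS ψ M := fun σ hσ =>
    hMs A6 e6 (by decide) hmem.2.2 σ (map_A6 hσ)
  have h06 : Equiv.swap (0 : Fin 7) 6 ∈ PermS ψ M := hMs A2 e2 (by decide) hmem.2.1 _ map_A2
  have hx6 : ∀ x : Fin 7, x ≠ 6 → Equiv.swap x 6 ∈ PermS ψ M := by
    intro x hx
    have h1 : Equiv.swap (0 : Fin 7) x ∈ PermS ψ M :=
      h6 _ (Equiv.swap_apply_of_ne_of_ne (by decide) (Ne.symm hx))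
    have h2 : Equiv.swap (Equiv.swap (0 : Fin 7) x 0) (Equiv.swap (0 : Fin 7) x 6) ∈ PermS ψ M := by
      rw [Equiv.swap_apply_apply]
      exact mul_mem (mul_mem h1 h06) (inv_mem h1)
    rwa [Equiv.swap_apply_left, Equiv.swap_apply_of_ne_of_ne (by decide) (Ne.symm hx)] at h2
  have hMtop : PermS ψ M = ⊤ := by
    apply eq_top_of_swap
    intro x y hxy
    by_cases hx : x = 6
    · rw [hx, Equiv.swap_comm]; exact hx6 y fun h => hxy (hx.trans h.symm)
    by_cases hy : y = 6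
    · rw [hy]; exact hx6 x hx
    exact h6 _ (Equiv.swap_apply_of_ne_of_ne (Ne.symm hx) (Ne.symm hy))
  refine hMP.not_ge fun g hg => ?_
  obtain ⟨σ, hσ⟩ := hrel g hg
  obtain ⟨k, hk, hkσ⟩ : σ ∈ PermS ψ M := by rw [hMtop]; exact mem_top σ
  have h1 : Rel ψ (k⁻¹ * g) 1 := by
    have := hkσ.inv.mul hσ
    rwa [inv_mul_cancel] at this
  have h2 : k⁻¹ * g ∈ M := by
    refine hK A6 e6 (by decide) hmem.2.2 (cent_iff.2 ⟨mul_mem (inv_mem (hMP.le hk)) hg, ?_⟩)
    rw [h1 A6 e6, map_A6 rfl]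
  have e1 : g = k * (k⁻¹ * g) := by group
  rw [e1]
  exact mul_mem hk h2

end seven

end Cfsg.Agent.Omega.SQT.LettQ

end

section


/-!
# Project SQT, box R of NO-3L: one class of `𝔽₂`-blocks, `m_3(G) ≤ 2` (helper949)

`m_3(G) ≤ 2`: one block with 3, 5, 7 letters, or two blocks with 3 or 5 letters.  If `V*` is irreducible for `M₀`, then
`|Z| ≤ 2`, or there is one block with 7 letters, `|Z| = 4` and `C_Z(P) ≠ 1` for every `P ∈ P*(S)`.

* `sylR` : `S ∩ E b` is a Sylow subgroup of `E b`;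
* `exists_swap_blocks` : two blocks, `V*` irreducible: `S` interchanges them;
* **`one_seven`** : `|Z| ≥ 4`: one block, with seven letters;
* **`seven_facts`** : then `|Z| = 4`, and every minimal parabolic subgroup centralises some `x ∈ Z#`;
* **`absurd_wide`** : `4 |C_Z(P)| ≤ |Z|` is impossible.
-/

set_option autoImplicit false
set_option linter.unusedSectionVars false

namespace Cfsg.Agent.Omega.SQT.WideS

open Subgroup Cfsg Cfsg.Agent.ZN Cfsg.Agent.Omega.MinPar Cfsg.Agent.Omega.Frame Cfsg.Agent.Omega.FrameNOFF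
open Cfsg.Agent.Omega.SQT.LettQ
open Cfsg.Agent.Omega.KL.TwoS (Rel Lett)
open Cfsg.Agent.Omega.NOThreeL.Merge (MZ)
open Cfsg.Agent.Omega.NOThreeL.RRed
open Cfsg.Agent.Omega.NOThreeL.RRed.Blk
open Cfsg.Agent.Omega.NOThreeL.RRed.TvFin (Full)
open scoped Pointwise

universe u

variable {G : Type u} [Group G] [Finite G] {S : Sylow 2 G} {M V : Subgroup G} {I : Type u} {N E : I → Subgroup G}
  {R₀ : Subgroup G}

theorem sylR (hD : Dec (S : Subgroup G) M V N E R₀) (b : I) : SylR ((S : Subgroup G) ⊓ E b) (E b) :=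
  fun _ hQ h2 => exists_conj_sub S hD.SL (iSup_le hD.EL) hD.iSup_normal (le_iSup E b) (hD.E_normal b) hQ h2

/-- the group which fixes `N b` -/
def KK (M : Subgroup G) (N : I → Subgroup G) (b : I) : Subgroup G := M ⊓ normalizer (N b : Set G)

theorem mem_KK {b : I} {g : G} : g ∈ KK M N b ↔ g ∈ M ∧ MulAut.conj g • N b = N b := by
  unfold KK
  rw [mem_inf]
  refine and_congr_right fun _ => ?_
  rw [mem_normalizer_iff]
  constructor
  · intro h
    ext x
    constructor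
    · rintro ⟨y, hy, rfl⟩
      exact (h y).1 hy
    · intro hx
      refine ⟨g⁻¹ * x * g, ?_, ?_⟩
      · have h1 := (h (g⁻¹ * x * g)).2
        rw [show g * (g⁻¹ * x * g) * g⁻¹ = x by group] at h1
        exact h1 hx
      · show g * (g⁻¹ * x * g) * g⁻¹ = x
        group
  · intro h x
    exact conj_smul h

section twoblocks

variable (hD : Dec (S : Subgroup G) M V N E R₀) {b c : I} (hbc : b ≠ c) (hall : ∀ x, x = b ∨ x = c)
include hD hbc hall

theorem smul_of_not {g : G} (hg : g ∈ M) (h : g ∉ KK M N b) :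
    MulAut.conj g • N b = N c ∧ MulAut.conj g • N c = N b := by
  obtain ⟨d, h1, -⟩ := hD.perm g hg b
  have hd : d = c := by
    rcases hall d with rfl | rfl
    · exact absurd (mem_KK.2 ⟨hg, h1⟩) h
    · rfl
  subst hd
  obtain ⟨e, h2, -⟩ := hD.perm g hg d
  have he : e = b := by
    rcases hall e with rfl | rfl
    · rfl
    · exact absurd (hD.Ninj (smul_left_cancel _ (h2.trans h1.symm))).symm hbc
  subst he
  exact ⟨h1, h2⟩

theorem mul_mem_KK {g k : G} (hg : g ∈ M) (hk : k ∈ M) (h : g ∉ KK M N b) (h' : k ∉ KK M N b) :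
    g * k ∈ KK M N b := by
  refine mem_KK.2 ⟨mul_mem hg hk, ?_⟩
  rw [map_mul, mul_smul, (smul_of_not hD hbc hall hk h').1, (smul_of_not hD hbc hall hg h).2]

/-- if `M` moves the block `N b`, then `S` does -/
theorem exists_swap_blocks (hmv : ∃ g ∈ M, g ∉ KK M N b) : ∃ s ∈ (S : Subgroup G), s ∉ KK M N b := by
  obtain ⟨g, hg, hgK⟩ := hmv
  obtain ⟨k, m, ⟨j, hm⟩, hn⟩ := Nat.exists_eq_two_pow_mul_odd (orderOf_pos g).ne'
  have h2 : IsPGroup 2 (zpowers (g ^ m)) := by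
    intro x
    refine ⟨k, ?_⟩
    obtain ⟨x, hx⟩ := x
    obtain ⟨i, rfl⟩ := mem_zpowers_iff.1 hx
    apply Subtype.ext
    show ((g ^ m) ^ i) ^ 2 ^ k = 1
    have h1 : (g ^ m) ^ 2 ^ k = 1 := by
      rw [← pow_mul, mul_comm m, ← hn, pow_orderOf_eq_one]
    rw [← zpow_natCast, ← zpow_mul, mul_comm i, zpow_mul, zpow_natCast, h1, one_zpow]
  have hmK : g ^ m ∉ KK M N b := by
    intro h
    apply hgK
    have h1 : g * g ∈ KK M N b := mul_mem_KK hD hbc hall hg hg hgK hgK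
    have h3 : g ^ m = (g * g) ^ j * g := by
      rw [hm, pow_succ, pow_mul, sq]
    rw [h3] at h
    exact (Subgroup.mul_mem_cancel_left _ (pow_mem h1 j)).1 h
  have hle : zpowers (g ^ m) ≤ M := by
    rw [zpowers_le]
    exact pow_mem hg m
  obtain ⟨e, he, h4⟩ := exists_conj_sub S hD.SL le_rfl le_normalizer le_rfl le_normalizer hle h2
  have h5 := h4 _ (mem_zpowers _)
  refine ⟨_, (mem_inf.1 h5).1, fun h => hmK ?_⟩
  by_cases heK : e ∈ KK M N b
  · have h6 := mul_mem (mul_mem (inv_mem heK) h) heK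
    rwa [show e⁻¹ * (e * g ^ m * e⁻¹) * e = g ^ m by group] at h6
  · have h7 : e⁻¹ * (e * g ^ m * e⁻¹) ∉ KK M N b := fun h8 =>
      heK (inv_mem_iff.1 ((Subgroup.mul_mem_cancel_right _ h).1 h8))
    have h8 := mul_mem_KK hD hbc hall (mul_mem (inv_mem he) (mem_inf.1 h5).2) he h7 heK
    rwa [show e⁻¹ * (e * g ^ m * e⁻¹) * e = g ^ m by group] at h8

/-- two blocks of 3 or 5 letters interchanged by `S`: `|C_V(S)| ≤ 2` -/
theorem eq_of_two [Finite I] (hR : R₀ = ⊥) {s : G} (hs : s ∈ (S : Subgroup G)) (hsK : s ∉ KK M N b)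
    {z0 : G} (h0 : ∀ x ∈ N b, (∀ t ∈ (S : Subgroup G) ⊓ E b, t * x * t⁻¹ = x) → x = 1 ∨ x = z0)
    {x y : G} (hx : x ∈ V) (hy : y ∈ V) (hxS : ∀ s ∈ (S : Subgroup G), s * x * s⁻¹ = x)
    (hyS : ∀ s ∈ (S : Subgroup G), s * y * s⁻¹ = y) (x1 : x ≠ 1) (y1 : y ≠ 1) : x = y := by
  have key : ∀ x ∈ V, (∀ s ∈ (S : Subgroup G), s * x * s⁻¹ = x) →
      ∃ n, (n = 1 ∨ n = z0) ∧ IsC N R₀ b x n ∧ IsC N R₀ c x (s * n * s⁻¹) := by
    intro x hx hxS
    obtain ⟨n, hn⟩ := hD.ex_comp b hx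
    refine ⟨n, h0 n hn.1 fun t ht => ?_, hn, ?_⟩
    · have h1 := hD.comp_conj (hD.SL (mem_inf.1 ht).1) (Blk.smul_of_mem (hD.EN b (mem_inf.1 ht).2)) hn
      rw [hxS t (mem_inf.1 ht).1] at h1
      exact hD.uniq h1 hn
    · have h1 := hD.comp_conj (hD.SL hs) (smul_of_not hD hbc hall (hD.SL hs) hsK).1 hn
      rwa [hxS s hs] at h1
  have hsup : ∀ x ∈ V, x ∈ ⨆ b, N b := by
    intro x hx
    rwa [← hD.sup, hR, sup_bot_eq] at hx
  have hone : ∀ x ∈ V, IsC N R₀ b x 1 → IsC N R₀ c x (s * 1 * s⁻¹) → x = 1 := by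
    intro x hx h1 h2
    refine hD.ext (hsup x hx) (one_mem _) fun d => ⟨1, ?_, hD.comp_one (one_mem _)⟩
    rw [mul_one, mul_inv_cancel] at h2
    rcases hall d with rfl | rfl
    · exact h1
    · exact h2
  obtain ⟨n, hn, hnb, hnc⟩ := key x hx hxS
  obtain ⟨m, hm, hmb, hmc⟩ := key y hy hyS
  have hn0 : n = z0 := by
    rcases hn with rfl | h
    · exact absurd (hone x hx hnb hnc) x1
    · exact h
  have hm0 : m = z0 := by
    rcases hm with rfl | h
    · exact absurd (hone y hy hmb hmc) y1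
    · exact h
  subst hn0
  subst hm0
  refine hD.ext (hsup x hx) (hsup y hy) fun d => ?_
  rcases hall d with rfl | rfl
  · exact ⟨_, hnb, hmb⟩
  · exact ⟨_, hnc, hmc⟩

end twoblocks

section main

variable [Fintype I] {Om : I → Type u} [∀ i, Fintype (Om i)] [∀ i, DecidableEq (Om i)] {phi : ∀ i, Finset (Om i) → G}

theorem card_le_two {Z : Subgroup G} {z0 : G} (h : ∀ x ∈ Z, x = 1 ∨ x = z0) : Nat.card Z ≤ 2 := by
  classical
  have hfin : (Z : Set G).Finite := Set.toFinite _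
  have h1 : hfin.toFinset ⊆ ({1, z0} : Finset G) := by
    intro z hz
    rw [Set.Finite.mem_toFinset] at hz
    simpa using h z hz
  have h2 := (Finset.card_le_card h1).trans Finset.card_le_two
  rw [← Set.ncard_eq_toFinset_card _ hfin] at h2
  exact h2

/-- one block: `V = N b` -/
theorem eq_of_one (hD : Dec (S : Subgroup G) M V N E ⊥) {b : I} (hI : ∀ x, x = b) : V = N b := by
  refine le_antisymm ?_ (hD.NU b)
  rw [← hD.sup, sup_bot_eq]
  exact iSup_le fun c => by rw [hI c]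

/-- **`|Z| ≥ 4`, `V` irreducible: one block, with seven letters.** -/
theorem one_seven (hr : PRankLE 3 2 G) (F : Full (S : Subgroup G) M V N E ⊥ Om phi) (hne : Nonempty I)
    (hirr : ∀ b, M ≤ normalizer (N b : Set G) → V ≤ N b) {Z : Subgroup G} (hZV : Z ≤ V)
    (hZS : ∀ z ∈ Z, ∀ s ∈ (S : Subgroup G), s * z * s⁻¹ = z) (h4 : 4 ≤ Nat.card Z) :
    (∀ a b : I, a = b) ∧ ∀ b, Fintype.card (Om b) = 7 := by
  classical
  have hD := F.toDec
  obtain ⟨s1, s2, s3⟩ := NoThree.small hr hD F.lett F.three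
  obtain ⟨b⟩ := hne
  by_cases hI : ∀ x, x = b
  · refine ⟨fun x y => (hI x).trans (hI y).symm, fun c => ?_⟩
    rw [hI c]
    have hZN : Z ≤ N b := hZV.trans (eq_of_one hD hI).le
    rcases s3 b with h3 | h5 | h7
    · obtain ⟨z, hz⟩ := two (F.lett b) (sylR hD b) (Or.inl h3)
      have := card_le_two (Z := Z) (z0 := z) fun x hx => hz x (hZN hx) fun t ht => hZS x hx t (mem_inf.1 ht).1
      omega
    · obtain ⟨z, hz⟩ := two (F.lett b) (sylR hD b) (Or.inr h5)
      have := card_le_two (Z := Z) (z0 := z) fun x hx => hz x (hZN hx) fun t ht => hZS x hx t (mem_inf.1 ht).1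
      omega
    · exact h7
  · exfalso
    push Not at hI
    obtain ⟨c, hcb⟩ := hI
    have hall : ∀ x, x = b ∨ x = c := by
      intro x
      by_contra hx
      push Not at hx
      exact s1 b c x hcb.symm hx.1.symm hx.2.symm
    have hmv : ∃ g ∈ M, g ∉ KK M N b := by
      by_contra hno
      push Not at hno
      have h1 : M ≤ normalizer (N b : Set G) := fun g hg => (mem_inf.1 (hno g hg)).2
      have h2 := hirr b h1
      apply hD.ne c
      rw [eq_bot_iff, ← hD.ind c]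
      exact le_inf le_rfl (((hD.NU c).trans h2).trans (hD.N_le_Co hcb.symm))
    obtain ⟨s, hs, hsK⟩ := exists_swap_blocks hD hcb.symm hall hmv
    obtain ⟨z0, hz0⟩ := two (F.lett b) (sylR hD b) (s2 b c hcb.symm)
    have h2 : Nat.card Z ≤ 2 := by
      by_cases hZ1 : ∃ x ∈ Z, x ≠ 1
      · obtain ⟨x, hx, x1⟩ := hZ1
        refine card_le_two (z0 := x) fun y hy => ?_
        by_cases hy1 : y = 1
        · exact Or.inl hy1
        · exact Or.inr (eq_of_two hD hcb.symm hall rfl hs hsK hz0 (hZV hy) (hZV hx) (hZS y hy) (hZS x hx) hy1 x1)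
      · push Not at hZ1
        exact card_le_two (z0 := 1) fun y hy => Or.inl (hZ1 y hy)
    omega

/-- one block with seven letters, `Z ≤ C_V(S)`: `|Z| ≤ 4`, and if `|Z| = 4`, then every minimal parabolic subgroup
centralises some `x ∈ Z#` -/
theorem seven_facts (F : Full (S : Subgroup G) M V N E ⊥ Om phi) {b : I} (hI : ∀ x, x = b)
    (h7 : Fintype.card (Om b) = 7) {Z : Subgroup G} (hZV : Z ≤ V)
    (hZS : ∀ z ∈ Z, ∀ s ∈ (S : Subgroup G), s * z * s⁻¹ = z) :
    Nat.card Z ≤ 4 ∧ (Nat.card Z = 4 → ∀ P ≤ M, (S : Subgroup G) ≤ P →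
      (∃ M : Subgroup G, M < P ∧ ∀ K : Subgroup G, (S : Subgroup G) ≤ K → K < P → K ≤ M) →
      ∃ x ∈ Z, x ≠ 1 ∧ x ∈ centralizer (P : Set G)) := by
  classical
  have hD := F.toDec
  have hZN : Z ≤ N b := hZV.trans (eq_of_one hD hI).le
  obtain ⟨e, t, ht, hrel⟩ := exists_rel4 (F.lett b) (sylR hD b) h7 p7_pow
  have L' := comp (F.lett b) e
  obtain ⟨s, hs, a, a', haa, hsw⟩ := Blk.exists_swap L' (by rw [Fintype.card_fin]; norm_num) (sylR hD b)
  refine ⟨card_le_four7 (Z := Z) L' (mem_inf.1 ht).1 hrel hZN hZS, fun h4 P hPM hSP hP => ?_⟩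
  have hrelP : ∀ g ∈ P, ∃ σ, Rel (fun s : Finset (Fin 7) => phi b (s.map e.toEmbedding)) g σ := by
    intro g hg
    obtain ⟨c, h1, -⟩ := hD.perm g (hPM hg) b
    rw [hI c] at h1
    obtain ⟨σ, hσ⟩ := F.rel_of_fix (hPM hg) h1
    exact ⟨_, rel_comp e hσ⟩
  obtain ⟨x, hx, x1, hxP⟩ := exists_fixed7 (Z := Z) L' (mem_inf.1 ht).1 hrel
    ⟨s, (mem_inf.1 hs).1, a, a', haa, hsw⟩ hSP hP hrelP hZN hZS h4.ge
  refine ⟨x, hx, x1, ?_⟩
  rw [mem_centralizer_iff]
  intro g hg
  have := hxP g hg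
  rwa [mul_inv_eq_iff_eq_mul] at this

/-- **`4 |C_Z(P)| ≤ |Z|` is impossible** for a group `Z ≤ C_V(S)`. -/
theorem absurd_wide (hr : PRankLE 3 2 G) (F : Full (S : Subgroup G) M V N E ⊥ Om phi) (hne : Nonempty I)
    (hirr : ∀ b, M ≤ normalizer (N b : Set G) → V ≤ N b) {Z P : Subgroup G} (hZV : Z ≤ V)
    (hZS : ∀ z ∈ Z, ∀ s ∈ (S : Subgroup G), s * z * s⁻¹ = z) (hPM : P ≤ M) (hSP : (S : Subgroup G) ≤ P)
    (hP : ∃ M : Subgroup G, M < P ∧ ∀ K : Subgroup G, (S : Subgroup G) ≤ K → K < P → K ≤ M)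
    (hw : 4 * Nat.card (Z ⊓ centralizer (P : Set G) : Subgroup G) ≤ Nat.card Z) : False := by
  classical
  have hc1 : 1 ≤ Nat.card (Z ⊓ centralizer (P : Set G) : Subgroup G) := Nat.card_pos
  obtain ⟨h1, h7⟩ := one_seven hr F hne hirr hZV hZS (by omega)
  obtain ⟨b⟩ := hne
  obtain ⟨h2, h3⟩ := seven_facts F (fun x => h1 x b) (h7 b) hZV hZS
  obtain ⟨x, hx, x1, hxP⟩ := h3 (by omega) P hPM hSP hP
  have h8 : 2 ≤ Nat.card (Z ⊓ centralizer (P : Set G) : Subgroup G) := by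
    have hnt : Nontrivial (Z ⊓ centralizer (P : Set G) : Subgroup G) :=
      ⟨⟨⟨x, mem_inf.2 ⟨hx, hxP⟩⟩, 1, fun h => x1 (congrArg Subtype.val h)⟩⟩
    exact Finite.one_lt_card_iff_nontrivial.2 hnt
  omega

end main

end Cfsg.Agent.Omega.SQT.WideS

end

end

-- merged: Cfsg.Agent.Mrg.Omega.NOThreeL.RRed.QFr.Mv
section

section


/-!
# NO-3L, box R, natural blocks, one class: a level which moves `V*` moves all blocks (#24972 (3), #25584 (N7))

`B : RB S`, `b : Bq S (MZ S) (Wd S) N D l C q`, `V* = Wd S`.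

* `off_of_best` : a best offender in the form of `Bq.off`; `Bq.fix` : the best offenders normalise all `N i`;
* `wd_le_zc_lev` : `lev S n ≤ C(V*)` implies `V* ≤ Ω₁Z(lev S n)`;
* `exists_stage` : `J(S)` moves `V*`, or `V* ≤ Ω₁Z(lev S n)` and `lev S (n+1)` moves `V*`, or no level moves `V*`;
* **`mv_neg`, `mv_lev`** : then every block is moved by a member of `𝒜(S)` resp. of `bo S (Ω₁Z(lev S n))`;
* **`lvQ_neg`, `lvQ_lev`** : the level data `LvQ`.
-/

set_option autoImplicit false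
set_option linter.unusedSectionVars false

namespace Cfsg.Agent.Omega.NOThreeL.RRed.QFr

open Subgroup Cfsg Cfsg.Agent.ZN.ChoiceBase Cfsg.Agent.Omega.MinPar
open Cfsg.Agent.ZN (jj zj bau zc zl o2)
open Cfsg.Agent.Omega.FFThm (ElemM)
open Cfsg.Agent.Omega.NO3S.OneLine (BFam bo bo_fam bo_eq)
open Cfsg.Agent.Omega.NO3S.Level (lev lev_isLev nxt BO bfam_BO)
open Cfsg.Agent.Omega.NOThreeL.Merge (MZ le_MZ S_le_MZ)
open Cfsg.Agent.Omega.NOThreeL.RTree (RB)
open Cfsg.Agent.Omega.NOThreeL.RRed (Wd)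
open Cfsg.Agent.Omega.NOThreeL.RRed.HypJOf (Fx mem_fx par_move norm_jj wd_le)
open Cfsg.Agent.PLocal.ElemAbSup (card_sup_mul_card_inf)

open scoped Pointwise

universe u

variable {G : Type u} [Group G]

/-- best offenders in the form of `Bq.off` -/
theorem off_of_best [Finite G] {V A : Subgroup G} (hV : ∀ x ∈ V, ∀ y ∈ V, x * y = y * x)
    (hb : ∀ B : Subgroup G, A ⊓ centralizer (V : Set G) ≤ B → B ≤ A →
      Nat.card B * Nat.card ↥(V ⊓ centralizer (B : Set G)) ≤ Nat.card A * Nat.card ↥(V ⊓ centralizer (A : Set G))) :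
    ∀ Y ≤ V, Nat.card ↥(A ⊓ centralizer (Y : Set G)) * Nat.card Y ≤
      Nat.card A * Nat.card ↥(Y ⊓ centralizer (A : Set G)) := by
  intro Y hY
  have h1 := hb (A ⊓ centralizer (Y : Set G)) (inf_le_inf_left _ (centralizer_le hY)) inf_le_left
  have h2 : Y ⊔ (V ⊓ centralizer (A : Set G)) ≤
      V ⊓ centralizer ((A ⊓ centralizer (Y : Set G) : Subgroup G) : Set G) := by
    refine sup_le (le_inf hY fun y hy => mem_centralizer_iff.2 fun a ha => ?_)
      (inf_le_inf_left _ (centralizer_le inf_le_left))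
    exact (mem_centralizer_iff.1 ha.2 y hy).symm
  have h3 : V ⊓ centralizer (A : Set G) ≤ centralizer (Y : Set G) := fun v hv =>
    mem_centralizer_iff.2 fun y hy => hV y (hY hy) v hv.1
  have h4 := card_sup_mul_card_inf h3
  have e : Y ⊓ (V ⊓ centralizer (A : Set G)) = Y ⊓ centralizer (A : Set G) := by
    rw [← inf_assoc, inf_eq_left.2 hY]
  rw [e] at h4
  have h5 := card_le_of_le h2
  have hp : 0 < Nat.card ↥(V ⊓ centralizer (A : Set G)) := Nat.card_pos
  refine Nat.le_of_mul_le_mul_right (c := Nat.card ↥(V ⊓ centralizer (A : Set G))) ?_ hp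
  calc Nat.card ↥(A ⊓ centralizer (Y : Set G)) * Nat.card Y * Nat.card ↥(V ⊓ centralizer (A : Set G))
      = Nat.card ↥(A ⊓ centralizer (Y : Set G)) * (Nat.card Y * Nat.card ↥(V ⊓ centralizer (A : Set G))) := by ring
    _ = Nat.card ↥(A ⊓ centralizer (Y : Set G)) * (Nat.card ↥(Y ⊔ (V ⊓ centralizer (A : Set G))) *
        Nat.card ↥(Y ⊓ centralizer (A : Set G))) := by rw [h4]
    _ ≤ Nat.card ↥(A ⊓ centralizer (Y : Set G)) *
        (Nat.card ↥(V ⊓ centralizer ((A ⊓ centralizer (Y : Set G) : Subgroup G) : Set G)) *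
        Nat.card ↥(Y ⊓ centralizer (A : Set G))) := Nat.mul_le_mul_left _ (Nat.mul_le_mul_right _ h5)
    _ = Nat.card ↥(A ⊓ centralizer (Y : Set G)) *
        Nat.card ↥(V ⊓ centralizer ((A ⊓ centralizer (Y : Set G) : Subgroup G) : Set G)) *
        Nat.card ↥(Y ⊓ centralizer (A : Set G)) := by ring
    _ ≤ Nat.card A * Nat.card ↥(V ⊓ centralizer (A : Set G)) * Nat.card ↥(Y ⊓ centralizer (A : Set G)) :=
        Nat.mul_le_mul_right _ h1
    _ = _ := by ring

namespace Bq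

variable {ι : Type} {S : Sylow 2 G} {M V : Subgroup G} {N D l C : ι → Subgroup G} {q : ℕ} (b : Bq S M V N D l C q)
include b

/-- **Best offenders fix all blocks.** -/
theorem fix {A : Subgroup G} (hAS : A ≤ (S : Subgroup G)) (hE : ElemM V A)
    (hb : ∀ Y ≤ V, Nat.card ↥(A ⊓ centralizer (Y : Set G)) * Nat.card Y ≤
      Nat.card A * Nat.card ↥(Y ⊓ centralizer (A : Set G))) (i : ι) : A ≤ normalizer (N i : Set G) := by
  rcases b.off A hAS hE hb i with h1 | ⟨-, h1, -⟩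
  · exact h1.trans (centralizer_le_normalizer _)
  · have key : ∀ a ∈ A, ∀ v ∈ N i, a * v * a⁻¹ ∈ N i := fun a ha v hv => by
      have h2 := mul_mem (b.lN i (h1 a ha v hv)) hv
      rwa [inv_mul_cancel_right] at h2
    intro a ha
    rw [mem_normalizer_iff]
    intro v
    refine ⟨fun hv => key a ha v hv, fun hv => ?_⟩
    have h2 := key a⁻¹ (inv_mem ha) _ hv
    have e : a⁻¹ * (a * v * a⁻¹) * a⁻¹⁻¹ = v := by group
    rwa [e] at h2

/-- a subgroup which moves `V` moves a block -/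
theorem exists_mv {J : Subgroup G} (hJ : ¬ J ≤ centralizer (V : Set G)) : ∃ i, ¬ J ≤ centralizer (N i : Set G) := by
  by_contra hcon
  push Not at hcon
  refine hJ fun g hg => mem_centralizer_iff.2 fun v hv => ?_
  exact (b.cent_V (g := g) (fun i w hw => (mem_centralizer_iff.1 (hcon i hg) w hw).symm) v hv).symm

end Bq

section box

variable [Finite G] {S : Sylow 2 G}

theorem wd_sq (B : RB S) : ∀ x ∈ Wd (S : Subgroup G), x ^ 2 = 1 := by
  intro x hx
  exact zl_MZ_sq B.ctx.char2 B.data.noff x hx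

/-- If `lev S n` centralises `V*` then `V* ≤ Ω₁Z(lev S n)`. -/
theorem wd_le_zc_lev (B : RB S) {n : ℕ}
    (hn : lev (S : Subgroup G) n ≤ centralizer (Wd (S : Subgroup G) : Set G)) :
    Wd (S : Subgroup G) ≤ zc (lev (S : Subgroup G) n) := by
  intro v hv
  have hc : ∀ y ∈ lev (S : Subgroup G) n, y * v = v * y := fun y hy => (mem_centralizer_iff.1 (hn hy) v hv).symm
  exact (lev_isLev (S : Subgroup G) n).mem_of_comm (wd_le B hv) (wd_sq B v hv) hc

/-- **The stage.** -/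
theorem exists_stage (B : RB S) :
    ¬ jj (S : Subgroup G) ≤ centralizer (Wd (S : Subgroup G) : Set G) ∨
    (∃ n, Wd (S : Subgroup G) ≤ zc (lev (S : Subgroup G) n) ∧
      ¬ lev (S : Subgroup G) (n + 1) ≤ centralizer (Wd (S : Subgroup G) : Set G)) ∨
    ∀ n, lev (S : Subgroup G) n ≤ centralizer (Wd (S : Subgroup G) : Set G) := by
  classical
  by_cases hall : ∀ n, lev (S : Subgroup G) n ≤ centralizer (Wd (S : Subgroup G) : Set G)
  · exact Or.inr (Or.inr hall)
  · push Not at hall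
    have h1 := Nat.find_spec hall
    have h2 := fun m (hm : m < Nat.find hall) => Nat.find_min hall hm
    rcases hm : Nat.find hall with _ | m
    · rw [hm] at h1
      exact Or.inl h1
    · rw [hm] at h1
      refine Or.inr (Or.inl ⟨m, wd_le_zc_lev B (not_not.1 (h2 m (by omega))), h1⟩)

/-- `V* ≤ Ω₁Z(J(C_S(V*)))` -/
theorem wd_le_X (B : RB S) : Wd (S : Subgroup G) ≤
    zc (jj ((S : Subgroup G) ⊓ centralizer (Wd (S : Subgroup G) : Set G))) := by
  intro v hv
  have hsq : v ^ 2 = 1 := wd_sq B v hv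
  have hcm : ∀ y ∈ (S : Subgroup G) ⊓ centralizer (Wd (S : Subgroup G) : Set G), y * v = v * y := fun y hy =>
    (mem_centralizer_iff.1 hy.2 v hv).symm
  have h1 : v ∈ (S : Subgroup G) ⊓ centralizer (Wd (S : Subgroup G) : Set G) :=
    ⟨wd_le B hv, Merge.zl_MZ_comm B.ctx B.data.noff hv⟩
  have h2 : ∀ y ∈ jj ((S : Subgroup G) ⊓ centralizer (Wd (S : Subgroup G) : Set G)), y * v = v * y := fun y hy =>
    hcm y (jj_le _ hy)
  exact mem_zc.2 ⟨mem_jj_of_comm h1 hsq h2, hsq, h2⟩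

variable {ι : Type} {N D l C : ι → Subgroup G} {q : ℕ}
  (B : RB S) (b : Bq S (MZ (S : Subgroup G)) (Wd (S : Subgroup G)) N D l C q)
include B b

theorem mv_blocks {J : Subgroup G} (hJS : J ≤ (S : Subgroup G)) (hJn : (S : Subgroup G) ≤ normalizer (J : Set G))
    (hJF : ∀ i, J ≤ normalizer (N i : Set G))
    (hJP : ∀ P, IsParS (S : Subgroup G) P → J ≤ o2 P → P ≤ normalizer (J : Set G))
    (hJ : ¬ J ≤ centralizer (Wd (S : Subgroup G) : Set G)) : ∀ i, ¬ J ≤ centralizer (N i : Set G) := by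
  have hSM := S_le_MZ B.ctx B.full
  have hperm : ∀ g ∈ MZ (S : Subgroup G), ∀ i, ∃ j, MulAut.conj g • N i = N j := fun g hg i => by
    obtain ⟨c, hc, -⟩ := b.perm g hg i
    exact ⟨c, hc⟩
  have hF : J ≤ Fx (MZ (S : Subgroup G)) N := fun g hg => mem_fx.2 ⟨hSM (hJS hg), fun i => hJF i hg⟩
  refine NOThreeL.RWide.LemM.mv_all (PP := {P | IsParS (S : Subgroup G) P}) hperm ?_ b.tr (b.exists_mv hJ)
  intro P hP
  exact par_move hperm hP (le_MZ hP) hF hJS hJn (hJP P hP)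

/-- **Stage `-1`**: all blocks are moved. -/
theorem mv_neg (hj : ¬ jj (S : Subgroup G) ≤ centralizer (Wd (S : Subgroup G) : Set G)) (i : ι) :
    ∃ A ∈ AA (S : Subgroup G), ¬ A ≤ centralizer (N i : Set G) := by
  have hcV : ∀ x ∈ Wd (S : Subgroup G), ∀ y ∈ Wd (S : Subgroup G), x * y = y * x := fun x hx y hy => b.Vc hx hy
  have hfam := NO3S.Level.bfam_AA (L := (⊤ : Subgroup G)) b.el (wd_le B)
  have hfix : ∀ i, jj (S : Subgroup G) ≤ normalizer (N i : Set G) := by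
    intro i
    rw [jj_eq]
    exact sSup_le fun A hA => b.fix hA.2.1 (hfam.elem A hA) (off_of_best hcV (hfam.best A hA)) i
  have h1 := mv_blocks B b (jj_le _) (le_normalizer.trans (normalizer_le_jj _)) hfix
    (fun P hP hle => norm_jj hP hle) hj i
  by_contra hcon
  push Not at hcon
  refine h1 ?_
  rw [jj_eq]
  exact sSup_le hcon

/-- **Stage `n`**: all blocks are moved. -/
theorem mv_lev {n : ℕ} (hX : Wd (S : Subgroup G) ≤ zc (lev (S : Subgroup G) n))
    (hn : ¬ lev (S : Subgroup G) (n + 1) ≤ centralizer (Wd (S : Subgroup G) : Set G)) (i : ι) :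
    ∃ A ∈ bo (S : Subgroup G) (zc (lev (S : Subgroup G) n)), ¬ A ≤ centralizer (N i : Set G) := by
  have hcV : ∀ x ∈ Wd (S : Subgroup G), ∀ y ∈ Wd (S : Subgroup G), x * y = y * x := fun x hx y hy => b.Vc hx hy
  have hfam := bfam_BO (S := (S : Subgroup G)) (L := ⊥) hX bot_le
  have hC : (S : Subgroup G) ⊓ centralizer (zc (lev (S : Subgroup G) n) : Set G) ≤
      centralizer (Wd (S : Subgroup G) : Set G) := inf_le_right.trans (centralizer_le hX)
  have hfix : ∀ i, lev (S : Subgroup G) (n + 1) ≤ normalizer (N i : Set G) := by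
    intro i
    refine sup_le (hC.trans ((centralizer_le (b.NV i)).trans (centralizer_le_normalizer _))) (sSup_le fun A hA => ?_)
    exact b.fix hA.1 (hfam.elem A hA) (off_of_best hcV (hfam.best A hA)) i
  have h0 := (lev_isLev (S : Subgroup G) (n + 1)).norm (S : Subgroup G) (NO3S.Level.lev_le _ _) le_rfl
  have h1 := mv_blocks B b (NO3S.Level.lev_le _ _) (le_normalizer.trans h0)
    hfix (fun P hP hle => (MinSimple.VModule.le_normalizer_o2 P).trans
      ((lev_isLev (S : Subgroup G) (n + 1)).norm (o2 P) hle (hP.isLoc.o2_le S))) hn i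
  by_contra hcon
  push Not at hcon
  refine h1 (sup_le (hC.trans (centralizer_le (b.NV i))) (sSup_le fun A hA => hcon A ?_))
  rw [← bo_eq]
  exact hA

/-- **The level data, stage `-1`.** -/
theorem lvQ_neg (hj : ¬ jj (S : Subgroup G) ≤ centralizer (Wd (S : Subgroup G) : Set G)) (hne : Nonempty ι) :
    LvQ S (MZ (S : Subgroup G)) (Wd (S : Subgroup G)) N
      (zc (jj ((S : Subgroup G) ⊓ centralizer (Wd (S : Subgroup G) : Set G)))) ⊤ (jj (S : Subgroup G))
      (AA (S : Subgroup G)) where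
  ML := le_top
  fam := BFr.Bd.bfam_AA _ (BFr.zc_elem _) fun x hx => (jj_le _ (mem_zc.1 hx).1).1
  elX := BFr.zc_elem _
  VX := wd_le_X B
  XS := fun x hx => (jj_le _ (mem_zc.1 hx).1).1
  MX g hg x hx := (mem_normalizer_iff.1 (NO3S.Level.normalizer_le_zc _ (normalizer_le_jj _ (BFr.MZ_norm_Q B hg))) x).1 hx
  AJ A hA := le_jj hA
  JS := jj_le _
  Jg := by
    rw [jj_eq]
    exact le_sup_left
  mv := by
    obtain ⟨i⟩ := hne
    exact ⟨i, mv_neg B b hj i⟩

/-- **The level data, stage `n`.** -/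
theorem lvQ_lev {n : ℕ} (hX : Wd (S : Subgroup G) ≤ zc (lev (S : Subgroup G) n))
    (hn : ¬ lev (S : Subgroup G) (n + 1) ≤ centralizer (Wd (S : Subgroup G) : Set G)) (hne : Nonempty ι) :
    LvQ S (MZ (S : Subgroup G)) (Wd (S : Subgroup G)) N (zc (lev (S : Subgroup G) n))
      (normalizer (zc (lev (S : Subgroup G) n) : Set G)) (lev (S : Subgroup G) (n + 1))
      (bo (S : Subgroup G) (zc (lev (S : Subgroup G) n))) where
  ML := (BFr.MZ_norm_lev B hX).trans (NO3S.Level.normalizer_le_zc _)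
  fam := bo_fam _ _
  elX := BFr.zc_elem _
  VX := hX
  XS := fun x hx => NO3S.Level.lev_le _ _ (mem_zc.1 hx).1
  MX g hg x hx := (mem_normalizer_iff.1 (NO3S.Level.normalizer_le_zc _ (BFr.MZ_norm_lev B hX hg)) x).1 hx
  AJ A hA := NO3S.Level.BO.le_nxt (by rw [bo_eq]; exact hA)
  JS := NO3S.Level.lev_le _ _
  Jg := by
    show nxt _ _ ≤ _
    rw [nxt, bo_eq]
    exact sup_le ((inf_le_inf_left _ (centralizer_le hX)).trans le_sup_right) le_sup_left
  mv := by
    obtain ⟨i⟩ := hne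
    exact ⟨i, mv_lev B b hX hn i⟩

end box

end Cfsg.Agent.Omega.NOThreeL.RRed.QFr

end

section


/-!
# The socket `WOneS` of `RRed/WideTree`: `𝔽₂`-blocks, one class (#25504 row 11, #27497 (4))

* `count_of` : `V*` irreducible for `M₀`, `|Z| ≥ 4`: at least three light pairs (`|I| + 5 ≤ Σ |Om i|`);
* `TopS K B` : the remaining socket: all levels `lev S n` centralise `V*`;
* **`wOneS_of`** : (ML), EXT and `TopS K B` imply `WOneS K B`.
-/

set_option autoImplicit false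
set_option linter.unusedSectionVars false

namespace Cfsg.Agent.Omega.NOThreeL.RRed.WideTree

open Subgroup Cfsg Cfsg.Agent.ZN Cfsg.Agent.Omega.MinPar Cfsg.Agent.Omega.Frame Cfsg.Agent.Omega.FrameNOFF
open Cfsg.Agent.Omega.Node.NO3L Cfsg.Agent.Omega.NOThreeL.Basic Cfsg.Agent.Omega.NOThreeL.RTree
open Cfsg.Agent.Omega.NOThreeL.RTreeF
open Cfsg.Agent.Omega.NOThreeL.Merge (MZ S_le_MZ)
open Cfsg.Agent.Omega.NOThreeL.RZ (RR)
open Cfsg.Agent.Omega.NOThreeL.RRed.GlueSig
open Cfsg.Agent.Omega.NOThreeL.RRed.FourTree (Bks LevX nxtX HypJ)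
open Cfsg.Agent.Omega.NOThreeL.RRed.TvFin (Full)
open Cfsg.Agent.Omega.NOThreeL.RRed.HypJOf (hypJ_of trans_of_irr)
open Cfsg.Agent.Omega.NO3S.Level (lev Lev lev_isLev normalizer_le_zc)
open Cfsg.Agent.Omega.SQT.WideS (sylR KK mem_KK exists_swap_blocks eq_of_two card_le_two eq_of_one)
open Cfsg.Agent.Omega.SQT.LettQ (two)

open scoped Pointwise

universe u

section count

variable {G : Type u} [Group G] [Finite G] {S : Sylow 2 G} {M V : Subgroup G} {I : Type u} [Fintype I]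
  {N E : I → Subgroup G} {Om : I → Type u} [∀ i, Fintype (Om i)] [∀ i, DecidableEq (Om i)] {phi : ∀ i, Finset (Om i) → G}

/-- **At least three light pairs.** -/
theorem count_of (F : Full (S : Subgroup G) M V N E ⊥ Om phi) (hne : Nonempty I)
    (hirr : ∀ b, M ≤ normalizer (N b : Set G) → V ≤ N b) {Z : Subgroup G} (hZV : Z ≤ V)
    (hZS : ∀ z ∈ Z, ∀ s ∈ (S : Subgroup G), s * z * s⁻¹ = z) (h4 : 4 ≤ Nat.card Z) :
    Fintype.card I + 5 ≤ ∑ i, Fintype.card (Om i) := by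
  classical
  by_contra hlt
  push Not at hlt
  have hD := F.toDec
  have h3 : Fintype.card I * 3 ≤ ∑ i, Fintype.card (Om i) := by
    have h := Finset.sum_le_sum (s := (Finset.univ : Finset I)) fun i _ => F.three i
    rwa [Finset.sum_const, Finset.card_univ, smul_eq_mul] at h
  have hle : ∀ b, Fintype.card (Om b) + (Fintype.card I - 1) * 3 ≤ ∑ i, Fintype.card (Om i) := by
    intro b
    rw [← Finset.add_sum_erase _ _ (Finset.mem_univ b)]
    refine Nat.add_le_add_left ?_ _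
    have h := Finset.sum_le_sum (s := (Finset.univ : Finset I).erase b) fun i _ => F.three i
    rwa [Finset.sum_const, Finset.card_erase_of_mem (Finset.mem_univ b), Finset.card_univ, smul_eq_mul] at h
  obtain ⟨b⟩ := hne
  have hI0 : 0 < Fintype.card I := Fintype.card_pos_iff.2 ⟨b⟩
  have hodd := (F.lett b).odd
  have hb := hle b
  have h3b := F.three b
  by_cases hI : ∀ x, x = b
  · have hZN : Z ≤ N b := hZV.trans (eq_of_one hD hI).le
    have hcI : Fintype.card I = 1 := Fintype.card_eq_one_iff.2 ⟨b, hI⟩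
    have h35 : Fintype.card (Om b) = 3 ∨ Fintype.card (Om b) = 5 := by
      obtain ⟨k, hk⟩ := hodd
      omega
    obtain ⟨z, hz⟩ := two (F.lett b) (sylR hD b) h35
    have := card_le_two (Z := Z) (z0 := z) fun x hx => hz x (hZN hx) fun t ht => hZS x hx t (mem_inf.1 ht).1
    omega
  · push Not at hI
    obtain ⟨c, hcb⟩ := hI
    have hc2 : 1 < Fintype.card I := Fintype.one_lt_card_iff.2 ⟨b, c, hcb.symm⟩
    have hcI : Fintype.card I = 2 := by omega
    have h3b' : Fintype.card (Om b) = 3 := by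
      obtain ⟨k, hk⟩ := hodd
      omega
    have hall : ∀ x, x = b ∨ x = c := by
      intro x
      by_contra hx
      push Not at hx
      have h1 : ({b, c, x} : Finset I).card ≤ Fintype.card I := Finset.card_le_univ _
      have h2 : ({b, c, x} : Finset I).card = 3 := Finset.card_eq_three.2 ⟨b, c, x, hcb.symm, hx.1.symm, hx.2.symm, rfl⟩
      omega
    have hmv : ∃ g ∈ M, g ∉ KK M N b := by
      by_contra hno
      push Not at hno
      have h1 : M ≤ normalizer (N b : Set G) := fun g hg => (mem_inf.1 (hno g hg)).2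
      have h2 := hirr b h1
      apply hD.ne c
      rw [eq_bot_iff, ← hD.ind c]
      exact le_inf le_rfl (((hD.NU c).trans h2).trans (hD.N_le_Co hcb.symm))
    obtain ⟨s, hs, hsK⟩ := exists_swap_blocks hD hcb.symm hall hmv
    obtain ⟨z0, hz0⟩ := two (F.lett b) (sylR hD b) (Or.inl h3b')
    have h2 : Nat.card Z ≤ 2 := by
      by_cases hZ1 : ∃ x ∈ Z, x ≠ 1
      · obtain ⟨x, hx, x1⟩ := hZ1
        refine card_le_two (z0 := x) fun y hy => ?_
        by_cases hy1 : y = 1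
        · exact Or.inl hy1
        · exact Or.inr (eq_of_two hD hcb.symm hall rfl hs hsK hz0 (hZV hy) (hZV hx) (hZS y hy) (hZS x hx) hy1 x1)
      · push Not at hZ1
        exact card_le_two (z0 := 1) fun y hy => Or.inl (hZ1 y hy)
    omega

end count

section mv

variable {G : Type u} [Group G] [Finite G] {S : Sylow 2 G} {I : Type u} [Fintype I] [DecidableEq I]
  {N E : I → Subgroup G} {Om : I → Type u} [∀ i, Fintype (Om i)] [∀ i, DecidableEq (Om i)]
  {phi : ∀ i, Finset (Om i) → G}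

/-- a subgroup of `S` of this kind which moves `V*` moves all blocks -/
theorem mv_of (hN : Bks S N E ⊥ Om phi)
    (tr : ∀ b c, ∃ g ∈ MZ (S : Subgroup G), MulAut.conj g • N b = N c) {J : Subgroup G} (h1 : J ≤ (S : Subgroup G))
    (h2 : (S : Subgroup G) ≤ normalizer (J : Set G)) (h3 : J ≤ HypJOf.Fx (MZ (S : Subgroup G)) N)
    (h4 : ∀ P, IsParS (S : Subgroup G) P → J ≤ o2 P → P ≤ normalizer (J : Set G))
    (h5 : ¬ J ≤ centralizer (Wd (S : Subgroup G) : Set G)) (b : I) : ¬ J ≤ centralizer (N b : Set G) := by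
  have hperm : ∀ g ∈ MZ (S : Subgroup G), ∀ b, ∃ c, MulAut.conj g • N b = N c := fun g hg b => by
    obtain ⟨c, hc, -⟩ := hN.toDec.perm g hg b
    exact ⟨c, hc⟩
  have hsup : (⨆ b, N b) = Wd (S : Subgroup G) := by
    have := hN.toDec.sup
    rwa [sup_bot_eq] at this
  have hmv : ∃ b, ¬ J ≤ centralizer (N b : Set G) := by
    by_contra hcon
    push Not at hcon
    apply h5
    rw [le_centralizer_iff, ← hsup]
    exact iSup_le fun b => le_centralizer_iff.1 (hcon b)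
  refine RWide.LemM.mv_all (PP := {P | IsParS (S : Subgroup G) P}) hperm ?_ tr hmv b
  intro P hP
  exact HypJOf.par_move hperm hP (Merge.le_MZ hP) h3 h1 h2 (h4 P hP)

/-- `J(S)` moves all blocks if it moves `V*`. -/
theorem mv_jj (R : RB S) (hN : Bks S N E ⊥ Om phi)
    (tr : ∀ b c, ∃ g ∈ MZ (S : Subgroup G), MulAut.conj g • N b = N c)
    (hj : ¬ jj (S : Subgroup G) ≤ centralizer (Wd (S : Subgroup G) : Set G)) :
    ∀ b, ¬ jj (S : Subgroup G) ≤ centralizer (N b : Set G) := by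
  have hab : ∀ x ∈ Wd (S : Subgroup G), ∀ y ∈ Wd (S : Subgroup G), x * y = y * x := fun x hx y hy =>
    hN.toDec.ucomm hx hy
  refine mv_of hN tr (ChoiceBase.jj_le _) (le_normalizer.trans (ChoiceBase.normalizer_le_jj _)) ?_
    (fun P hP h => HypJOf.norm_jj hP h) hj
  rw [ChoiceBase.jj_eq]
  refine sSup_le fun A hA => ?_
  exact HypJOf.best_le_fx hN.toFull (HypJOf.ofd_of hA.2.1 (S_le_MZ R.ctx R.full)
    (HypJOf.best_of_AA hab (zl_MZ_sq R.ctx.char2 R.data.noff) (HypJOf.wd_le R) hA)) le_rfl hab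

/-- A level which moves `V*` moves all blocks. -/
theorem mv_nxtX (R : RB S) (hN : Bks S N E ⊥ Om phi)
    (tr : ∀ b c, ∃ g ∈ MZ (S : Subgroup G), MulAut.conj g • N b = N c) {K X : Subgroup G}
    (hKX : LevX (S : Subgroup G) K X)
    (hj : ¬ nxtX (S : Subgroup G) X ≤ centralizer (Wd (S : Subgroup G) : Set G)) :
    ∀ b, ¬ nxtX (S : Subgroup G) X ≤ centralizer (N b : Set G) := by
  have hSM := S_le_MZ R.ctx R.full
  refine mv_of hN tr (HypJOf.nxtX_le _ _) ?_ ?_
    (fun P hP h => HypJOf.norm_nxtX hP ((Merge.le_MZ hP).trans hKX.MX) h) hj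
  · exact HypJOf.norm_nxtX_of (hSM.trans hKX.MX) fun g hg x hx =>
      mul_mem (mul_mem hg (HypJOf.nxtX_le _ _ hx)) (inv_mem hg)
  · have hXc : ∀ x ∈ X, ∀ y ∈ X, x * y = y * x := fun x hx y hy =>
      MinSimple.VModule.zc_comm _ _ (hKX.Xle hx) _ (hKX.Xle hy)
    refine sup_le ?_ (sSup_le fun A hA => HypJOf.best_le_fx hN.toFull (HypJOf.ofd_of hA.1 hSM hA.2) hKX.VX hXc)
    rintro c ⟨hcS, hcX⟩
    refine HypJOf.mem_fx.2 ⟨hSM hcS, fun b => ?_⟩
    exact hN.toDec.EN b (hN.toDec.CE b ⟨hSM hcS, centralizer_le hKX.VX hcX⟩)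

end mv

section socket

variable (K : Cls.{u}) (B : Fr.{u})

/-- `𝔽₂`-blocks, one class, all levels `lev S n` (`lev S 0 = J(S)`) centralise `V*` -/
def TopS : Prop :=
  ∀ (G : Type u) [Group G] [Finite G], K G → ∀ (S : Sylow 2 G), B G S → Wide S → MvAct (S : Subgroup G) →
    CM (S : Subgroup G) (fun _ : PUnit.{u + 1} => Wd (S : Subgroup G)) →
      ∀ (I : Type u) [Fintype I] [DecidableEq I] (N E : I → Subgroup G) (Om : I → Type u)
        [∀ i, Fintype (Om i)] [∀ i, DecidableEq (Om i)] (phi : ∀ i, Finset (Om i) → G), Bks S N E ⊥ Om phi →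
          (∀ b c, ∃ g ∈ MZ (S : Subgroup G), MulAut.conj g • N b = N c) →
          Fintype.card I + 5 ≤ ∑ i, Fintype.card (Om i) →
          (∀ n, lev (S : Subgroup G) n ≤ centralizer (Wd (S : Subgroup G) : Set G)) → False

end socket

variable {K : Cls.{u}} {B : Fr.{u}}

/-- **`WOneS` from its last socket.** -/
theorem wOneS_of (hML : ML.Final.MLK.{u, u}) (hE : ML.Ex.Two.Ext.{u, u}) (hT : TopS K B) : WOneS K B := by
  intro G _ _ hK S hB hW hm hCM I _ _ N E Om _ _ phi hN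
  exfalso
  have hR : RB S := hW.toRB
  have hirr : ∀ W : Subgroup G, W ≤ Wd (S : Subgroup G) → MZ (S : Subgroup G) ≤ normalizer (W : Set G) → W ≠ ⊥ →
      Wd (S : Subgroup G) ≤ W := fun W h1 h2 h3 => hCM.irr PUnit.unit W h1 h2 h3
  have tr := trans_of_irr hN.toDec hirr
  have hcnt : Fintype.card I + 5 ≤ ∑ i, Fintype.card (Om i) := by
    refine count_of hN.toFull hN.nonempty (fun b hb => hirr _ (hN.toDec.NU b) hb (hN.toDec.ne b))
      (MinSimple.VModule.zc_le_zl _ _) (fun z hz s hs => ?_) hW.four_le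
    have h1 : s * z = z * s := (ChoiceBase.mem_zc.1 hz).2.2 s hs
    rw [h1]; group
  rcases QFr.exists_stage hR with h1 | ⟨n, h1, h2⟩ | h1
  · exact BFr.false_neg hML hE hR hN (mv_jj hR hN tr h1) hcnt
  · have hX : LevX (S : Subgroup G) (lev (S : Subgroup G) n) (zc (lev (S : Subgroup G) n)) :=
      { toLev := lev_isLev (S : Subgroup G) n
        Xle := le_rfl
        Xn := normalizer_le_zc _
        VX := h1
        MX := (BFr.MZ_norm_lev hR h1).trans (normalizer_le_zc _) }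
    exact BFr.false_lev hML hE hR hN h1 (mv_nxtX hR hN tr hX h2) hcnt
  · exact hT G hK S hB hW hm hCM I N E Om phi hN tr hcnt h1

end Cfsg.Agent.Omega.NOThreeL.RRed.WideTree

end

end
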